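import Cfsg.Agent.Lib.SDBlock.Induction
import Cfsg.Agent.Lib.Blocks.PrincipalColumns
import Cfsg.Agent.Lib.Blocks.Section
import Cfsg.Agent.Lib.Blocks.Defect2
import Cfsg.Agent.Lib.Char.Orth
import Cfsg.Agent.S4531

/-!
# The centralizer of the central involution

The elements of `C(z)` are of odd order, `z` times such, of order divisible by four, or in the
section of `b`; this evaluates the sums of `1` and `σ` over the elements of odd order, and a
character of the principal 2-block is a combination of `1` and `σ` on the section of `z`.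
-/

set_option autoImplicit false
set_option linter.unusedSectionVars false

namespace CfsgLib.SDBlock

open Cfsg Subgroup
open scoped Classical ComplexConjugate

/-- The elements conjugate into a set met by each class in one orbit of `N`. -/
theorem card_conj_orbit {K : Type*} [Group K] [Finite K] (P N : K → Prop)
    (h : ∀ g, P g → ∀ d, (P (d * g * d⁻¹) ↔ N d)) :
    Nat.card {x : K // ∃ c, P (c * x * c⁻¹)} * Nat.card {d : K // N d}
      = Nat.card {g : K // P g} * Nat.card K := by
  haveI := Fintype.ofFinite K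
  let E : {g : K // P g} × K ≃
      {q : {x : K // ∃ c, P (c * x * c⁻¹)} × K // P (q.2 * (q.1 : K) * q.2⁻¹)} :=
    { toFun := fun p => ⟨(⟨p.2⁻¹ * p.1 * p.2, p.2, by simpa [mul_assoc] using p.1.2⟩, p.2),
        by simpa [mul_assoc] using p.1.2⟩
      invFun := fun q => (⟨q.1.2 * (q.1.1 : K) * q.1.2⁻¹, q.2⟩, q.1.2)
      left_inv := fun p => Prod.ext (Subtype.ext (by simp [mul_assoc])) rfl
      right_inv := fun q => Subtype.ext (Prod.ext (Subtype.ext (by simp [mul_assoc])) rfl) }
  have hfib : ∀ x : {x : K // ∃ c, P (c * x * c⁻¹)},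
      Nat.card {d : K // P (d * (x : K) * d⁻¹)} = Nat.card {d : K // N d} := by
    rintro ⟨x, c, hc⟩
    refine Nat.card_congr ((Equiv.mulRight c⁻¹).subtypeEquiv fun d => ?_)
    have := h _ hc (d * c⁻¹)
    rw [show d * c⁻¹ * (c * x * c⁻¹) * (d * c⁻¹)⁻¹ = d * x * d⁻¹ by group] at this
    exact this
  have e1 := Nat.card_congr E
  rw [Nat.card_prod] at e1
  rw [e1, Nat.card_congr (Equiv.subtypeProdEquivSigmaSubtype
      fun (x : {x : K // ∃ c, P (c * x * c⁻¹)}) (d : K) => P (d * (x : K) * d⁻¹)),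
    Nat.card_sigma, Finset.sum_congr rfl fun x _ => hfib x, Finset.sum_const, Finset.card_univ,
    smul_eq_mul, Nat.card_eq_fintype_card]

variable {G : Type*} [Group G] [Finite G]

section Orders

variable {x y v : G}

theorem pow_two_of_orderOf {i : ℕ} (hx : orderOf x = 2 ^ i) (h4 : ¬ 4 ∣ orderOf x) : x * x = 1 := by
  rw [← pow_two, ← orderOf_dvd_iff_pow_eq_one, hx]
  rcases Nat.lt_or_ge i 2 with hi | hi
  · calc 2 ^ i ∣ 2 ^ 1 := pow_dvd_pow 2 (by omega)
      _ = 2 := pow_one 2
  · exact absurd ((pow_dvd_pow 2 hi).trans (dvd_of_eq hx.symm)) (by simpa using h4)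

theorem isPPart_invol (hv : orderOf v = 2) (hc : Commute v y) (hy : Odd (orderOf y)) :
    IsPPart 2 (v * y) v :=
  ⟨y, rfl, hc, ⟨1, by rw [hv, pow_one]⟩, hy.not_two_dvd_nat⟩

theorem orderOf_invol_mul (hv : orderOf v = 2) (hc : Commute v y) (hy : Odd (orderOf y)) :
    orderOf (v * y) = 2 * orderOf y := by
  rw [hc.orderOf_mul_eq_mul_orderOf_of_coprime (by rw [hv]; exact Nat.coprime_two_left.2 hy), hv]

theorem invol_mul_not (hv : orderOf v = 2) (hc : Commute v y) (hy : Odd (orderOf y)) :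
    ¬ Odd (orderOf (v * y)) ∧ ¬ 4 ∣ orderOf (v * y) := by
  rw [orderOf_invol_mul hv hc hy]
  obtain ⟨m, hm⟩ := hy
  exact ⟨Nat.not_odd_iff_even.2 ⟨orderOf y, two_mul _⟩, by omega⟩

end Orders

namespace Config

variable {S : Sylow 2 G} {a b z : G} {k : ℕ}

theorem z_comm_a (h : Config S a b z k) : Commute z a := by
  rw [h.z_eq]; exact (Commute.refl a).pow_left _

theorem z_comm_b (h : Config S a b z k) : Commute z b := by
  have h1 := h.conj_four
  have h2 : b * (four a k * four a k) * b⁻¹ = (four a k * four a k)⁻¹ := by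
    rw [show b * (four a k * four a k) * b⁻¹ = (b * four a k * b⁻¹) * (b * four a k * b⁻¹) by group,
      h1, mul_inv_rev]
  rw [h.four_sq, inv_eq_of_mul_eq_one_right h.z_sq] at h2
  exact (mul_inv_eq_iff_eq_mul.1 h2).symm

theorem orderOf_b (h : Config S a b z k) : orderOf b = 2 :=
  orderOf_eq_prime (by rw [pow_two]; exact h.b_sq) fun e => h.b_notMem (e ▸ one_mem _)

theorem b_ne_z (h : Config S a b z k) : b ≠ z := fun e => h.b_notMem (by
  rw [e, h.z_eq]; exact Subgroup.pow_mem _ (mem_zpowers a) _)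

theorem b_mem_C (h : Config S a b z k) : b ∈ centralizer ({z} : Set G) :=
  mem_centralizer_singleton_iff.2 h.z_comm_b.symm.eq

theorem a_mem_C (h : Config S a b z k) : a ∈ centralizer ({z} : Set G) :=
  mem_centralizer_singleton_iff.2 h.z_comm_a.symm.eq

theorem z_mem_C : z ∈ centralizer ({z} : Set G) :=
  mem_centralizer_singleton_iff.2 rfl

theorem sylow_le_C (h : Config S a b z k) : (S : Subgroup G) ≤ centralizer ({z} : Set G) := by
  intro x hx
  rcases h.cases hx with ⟨j, rfl⟩ | ⟨j, rfl⟩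
  · exact zpow_mem h.a_mem_C j
  · exact mul_mem h.b_mem_C (zpow_mem h.a_mem_C j)

theorem z_comm (h : Config S a b z k) (x : centralizer ({z} : Set G)) : Commute z (x : G) :=
  (mem_centralizer_singleton_iff.1 x.2).symm

theorem sq_zpow (h : Config S a b z k) {j : ℤ} (hj : a ^ j * a ^ j = 1) : a ^ j = 1 ∨ a ^ j = z := by
  obtain ⟨e1, e2, e3⟩ := h.pow_eq
  rw [← zpow_add, ← orderOf_dvd_iff_zpow_eq_one, h.ord_a, e1, ← two_mul] at hj
  push_cast at hj
  obtain ⟨t, rfl⟩ := Int.dvd_of_mul_dvd_mul_left two_ne_zero hj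
  have ez : a ^ ((2 : ℤ) ^ (k - 1) * t) = z ^ t := by
    rw [zpow_mul, h.z_eq, ← zpow_natCast a (2 ^ (k - 1))]
    norm_cast
  have hz2 : z ^ (2 : ℤ) = 1 := by rw [zpow_two]; exact h.z_sq
  rcases Int.even_or_odd' t with ⟨i, rfl | rfl⟩
  · left; rw [ez, zpow_mul, hz2, one_zpow]
  · right; rw [ez, zpow_add, zpow_mul, hz2, one_zpow, one_mul, zpow_one]

/-- The elements of `S` outside the rotations are conjugate to `b` or to `b * a`. -/
theorem cases_conj (h : Config S a b z k) {x : G} (hx : x ∈ (S : Subgroup G)) :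
    (∃ j : ℤ, x = a ^ j) ∨ ∃ i : ℤ, a ^ i * x * (a ^ i)⁻¹ = b ∨ a ^ i * x * (a ^ i)⁻¹ = b * a := by
  rcases h.cases hx with hj | ⟨j, rfl⟩
  · exact Or.inl hj
  refine Or.inr ?_
  obtain ⟨e1, e2, e3⟩ := h.pow_eq
  have key : ∀ i : ℤ, a ^ i * b * (a ^ i)⁻¹ = b * a ^ (((sdExp k : ℤ) - 1) * i) := fun i => by
    have h1 := h.conj_rot_zpow i
    rw [h.b_inv] at h1
    calc a ^ i * b * (a ^ i)⁻¹ = b * (b * a ^ i * b) * (a ^ i)⁻¹ := by
          rw [mul_assoc b (a ^ i) b, ← mul_assoc b b, h.b_sq, one_mul]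
      _ = b * a ^ (((sdExp k : ℤ) - 1) * i) := by
          rw [h1, mul_assoc, ← zpow_neg, ← zpow_add]; congr 2; ring
  -- the even exponents are reached
  have hall : ∀ l : ℤ, ∃ i : ℤ, a ^ (((sdExp k : ℤ) - 1) * i) = a ^ (2 * l) := by
    intro l
    have e4 : 2 ^ (k - 2) = 2 * 2 ^ (k - 3) := by
      rw [← pow_succ', show k - 3 + 1 = k - 2 by have := h.three_le; omega]
    obtain ⟨u, w, huw⟩ : IsCoprime ((2 ^ (k - 2) - 1 : ℕ) : ℤ) ((2 ^ k : ℕ) : ℤ) := by
      rw [Nat.isCoprime_iff_coprime]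
      refine Nat.Coprime.pow_right k (Nat.coprime_two_right.2 ?_)
      rw [e4, Nat.odd_iff]; omega
    refine ⟨u * l, ?_⟩
    rw [zpow_eq_zpow_iff_modEq, h.ord_a, Int.modEq_iff_dvd]
    refine ⟨2 * l * w, ?_⟩
    rw [sdExp, e2, Nat.cast_sub (by omega)]
    rw [Nat.cast_sub (by omega)] at huw
    push_cast at huw ⊢
    linear_combination (-2 * l) * huw
  rcases Int.even_or_odd' j with ⟨l, rfl | rfl⟩
  · obtain ⟨i, hi⟩ := hall l
    refine ⟨-i, Or.inl ?_⟩
    rw [← hi, ← key i]; group
  · obtain ⟨i, hi⟩ := hall l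
    refine ⟨-i, Or.inr ?_⟩
    rw [zpow_add, zpow_one, ← hi, ← mul_assoc b, ← key i]
    group

/-- The Sylow subgroup inside `C(z)`. -/
theorem exists_conj_sylow (h : Config S a b z k) {P : Subgroup (centralizer ({z} : Set G))}
    (hP : IsPGroup 2 P) :
    ∃ c : centralizer ({z} : Set G), ∀ r ∈ P, ((c * r * c⁻¹ : centralizer ({z} : Set G)) : G) ∈ S := by
  haveI : Fact (Nat.Prime 2) := ⟨Nat.prime_two⟩
  haveI := Fintype.ofFinite (centralizer ({z} : Set G))
  obtain ⟨c, hc⟩ := Blocks.TIAbelian.exists_conj_mem_sylow_p (S.subtype h.sylow_le_C) hP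
  exact ⟨c, fun r hr => hc r hr⟩

/-- A 2-element of `C(z)` is conjugate there to a rotation or to `b`. -/
theorem two_cases (h : Config S a b z k) {u : centralizer ({z} : Set G)} {i : ℕ}
    (hu : orderOf u = 2 ^ i) : ∃ c : centralizer ({z} : Set G),
      (∃ j : ℤ, ((c * u * c⁻¹ : centralizer ({z} : Set G)) : G) = a ^ j) ∨
        ((c * u * c⁻¹ : centralizer ({z} : Set G)) : G) = b := by
  obtain ⟨c, hc⟩ := h.exists_conj_sylow (P := zpowers u)
    (IsPGroup.of_card (n := i) (by rw [Nat.card_zpowers, hu]))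
  have hcu := hc u (mem_zpowers u)
  rcases h.cases_conj hcu with ⟨j, hj⟩ | ⟨l, hl⟩
  · exact ⟨c, Or.inl ⟨j, hj⟩⟩
  set w : centralizer ({z} : Set G) := ⟨a ^ l, zpow_mem h.a_mem_C l⟩ with hw
  have e : ((w * c * u * (w * c)⁻¹ : centralizer ({z} : Set G)) : G)
      = a ^ l * ((c * u * c⁻¹ : centralizer ({z} : Set G)) : G) * (a ^ l)⁻¹ := by
    simp [hw, mul_assoc]
  rcases hl with hl | hl
  · exact ⟨w * c, Or.inr (e.trans hl)⟩
  -- elements of order four
  obtain ⟨g, hg⟩ := isConj_iff.1 h.four_conj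
  have hg' : g * four a k * g⁻¹ = b * a := hg
  have hz : g * z * g⁻¹ = z := by
    have h1 : g * (four a k * four a k) * g⁻¹ = b * a * (b * a) := by rw [← hg']; group
    have h2 : b * a * (b * a) = z := by
      have h3 := h.conj_a
      rw [h.b_inv] at h3
      rw [← mul_assoc, h3, ← pow_succ, Nat.sub_add_cancel Nat.one_le_two_pow, ← h.z_eq]
    rwa [h.four_sq, h2] at h1
  have hgC : g ∈ centralizer ({z} : Set G) :=
    mem_centralizer_singleton_iff.2 (mul_inv_eq_iff_eq_mul.1 hz)
  refine ⟨⟨g, hgC⟩⁻¹ * (w * c), Or.inl ⟨(2 : ℤ) ^ (k - 2), ?_⟩⟩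
  have e' : ((⟨g, hgC⟩⁻¹ * (w * c) * u * (⟨g, hgC⟩⁻¹ * (w * c))⁻¹ : centralizer ({z} : Set G)) : G)
      = g⁻¹ * ((w * c * u * (w * c)⁻¹ : centralizer ({z} : Set G)) : G) * g := by
    simp [mul_assoc]
  rw [e', e, hl, ← hg', four, ← zpow_natCast]
  push_cast
  group

/-- Elements whose 2-part is a rotation of order at least four lie in `R`. -/
theorem mem_rot_of_comm_zpow (h : Config S a b z k) {j : ℤ} (hj : ¬ a ^ j * a ^ j = 1) {x : G}
    (hx : Commute x (a ^ j)) : x ∈ rotGroup a k := by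
  haveI := Fintype.ofFinite G
  obtain ⟨ρ, h1, h2, h3⟩ := h.exists_rho
  have r : RotChar a k ρ := ⟨h1, h2, h3⟩
  refine h.mem_rot_of_commute r (u := (⟨a, a_mem_rot⟩ : rotGroup a k) ^ j) (fun e => hj ?_)
    (by rw [SubgroupClass.coe_zpow]; exact hx)
  rw [map_zpow, ← zpow_natCast, ← zpow_mul, ← orderOf_dvd_iff_zpow_eq_one, h1] at e
  rw [← zpow_add, ← orderOf_dvd_iff_zpow_eq_one, h.ord_a, ← two_mul, mul_comm]
  exact_mod_cast e

/-- The four sorts of elements of `C(z)`. -/
theorem elt_cases (h : Config S a b z k) (x : centralizer ({z} : Set G)) :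
    Odd (orderOf (x : G)) ∨ Odd (orderOf (z * (x : G))) ∨
      (∃ c : centralizer ({z} : Set G), ((c * x * c⁻¹ : centralizer ({z} : Set G)) : G) ∈ rotGroup a k ∧
        4 ∣ orderOf (x : G)) ∨
      ∃ c : centralizer ({z} : Set G), ∃ y : G, Commute b y ∧ Odd (orderOf y) ∧
        ((c * x * c⁻¹ : centralizer ({z} : Set G)) : G) = b * y := by
  obtain ⟨u, y, -, huy, hcomm, hy, ⟨i, hi⟩, -, -⟩ := Blocks.exists_isPPart Nat.prime_two x
  have hyo : Odd (orderOf (y : G)) := by
    rw [Subgroup.orderOf_coe, Nat.odd_iff]; omega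
  obtain ⟨c, hc⟩ := h.two_cases hi
  have e : ((c * x * c⁻¹ : centralizer ({z} : Set G)) : G)
      = ((c * u * c⁻¹ : centralizer ({z} : Set G)) : G) * ((c * y * c⁻¹ : centralizer ({z} : Set G)) : G) := by
    rw [← huy]; simp [mul_assoc]
  have hcc : Commute ((c * u * c⁻¹ : centralizer ({z} : Set G)) : G)
      ((c * y * c⁻¹ : centralizer ({z} : Set G)) : G) := by
    have := (hcomm.map (MulAut.conj c)).map (centralizer ({z} : Set G)).subtype
    simpa using this
  have hyc : Odd (orderOf ((c * y * c⁻¹ : centralizer ({z} : Set G)) : G)) := by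
    rwa [Subgroup.orderOf_coe, show c * y * c⁻¹ = MulAut.conj c y from rfl, MulEquiv.orderOf_eq,
      ← Subgroup.orderOf_coe]
  rcases hc with ⟨j, hj⟩ | hb
  swap
  · exact Or.inr (Or.inr (Or.inr ⟨c, _, hb ▸ hcc, hyc, by rw [e, hb]⟩))
  by_cases hj2 : a ^ j * a ^ j = 1
  · have hu : (u : G) = a ^ j := by
      rcases h.sq_zpow hj2 with e1 | e1 <;> rw [e1] at hj ⊢
      · have h1 : c * u * c⁻¹ = 1 := Subtype.ext hj
        rw [conj_eq_one_iff] at h1
        rw [h1]; rfl
      · simp only [Subgroup.coe_mul, Subgroup.coe_inv] at hj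
        rw [mul_inv_eq_iff_eq_mul] at hj
        exact mul_left_cancel (hj.trans (h.z_comm c).eq)
    have hx : (x : G) = a ^ j * (y : G) := by rw [← hu, ← huy]; rfl
    rcases h.sq_zpow hj2 with e1 | e1 <;> rw [e1] at hx
    · left; rwa [hx, one_mul]
    · right; left; rwa [hx, ← mul_assoc, h.z_sq, one_mul]
  · refine Or.inr (Or.inr (Or.inl ⟨c, ?_, ?_⟩))
    · rw [e, hj]
      exact mul_mem (zpow_mem a_mem_rot j) (h.mem_rot_of_comm_zpow hj2 (hj ▸ hcc.symm))
    · by_contra h4
      refine hj2 ?_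
      have h5 : ¬ 4 ∣ orderOf (u : G) := fun hd => h4 (by
        rw [Subgroup.orderOf_coe, ← huy,
          hcomm.orderOf_mul_eq_mul_orderOf_of_coprime (by
            rw [hi]; exact Nat.Coprime.pow_left i (Nat.coprime_two_left.2 (by
              rwa [Subgroup.orderOf_coe] at hyo)))]
        rw [Subgroup.orderOf_coe] at hd
        exact dvd_mul_of_dvd_left hd _)
      have h6 := pow_two_of_orderOf (x := (u : G)) (i := i) (by rw [Subgroup.orderOf_coe, hi]) h5
      have h7 : u * u = 1 := Subtype.ext h6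
      rw [← hj, ← Subgroup.coe_mul, show c * u * c⁻¹ * (c * u * c⁻¹) = c * (u * u) * c⁻¹ by group, h7]
      simp

/-- The number of elements of order divisible by four. -/
theorem card_four (h : Config S a b z k) :
    Nat.card {x : centralizer ({z} : Set G) // 4 ∣ orderOf (x : G)} * 2 ^ (k + 1)
      + 2 * Nat.card (centralizer ({z} : Set G)) = 2 ^ k * Nat.card (centralizer ({z} : Set G)) := by
  haveI := Fintype.ofFinite G
  obtain ⟨ρ, h1, h2, h3⟩ := h.exists_rho
  have r : RotChar a k ρ := ⟨h1, h2, h3⟩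
  set C := centralizer ({z} : Set G)
  have hiff : ∀ g : rotGroup a k, 4 ∣ orderOf (g : G) ↔ ¬ ρ g ^ 2 = 1 := by
    refine fun g => ⟨fun h4 e => ?_, fun e => h.four_dvd_orderOf r e⟩
    have hodd : Odd (orderOf (g ^ 2)) := r.ker _ (by rw [map_pow, e])
    rw [Subgroup.orderOf_coe] at h4
    obtain ⟨m, hm⟩ := h4
    rw [orderOf_pow_of_dvd two_ne_zero ⟨2 * m, by omega⟩, Nat.odd_iff] at hodd
    omega
  -- the orbit count
  have horb := card_conj_orbit (K := C) (fun g => (g : G) ∈ rotGroup a k ∧ 4 ∣ orderOf (g : G))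
    (fun d => (d : G) ∈ rotGroup a k ∨ b * (d : G) ∈ rotGroup a k) (by
      rintro g ⟨hg, hg4⟩ d
      constructor
      · rintro ⟨hg', -⟩
        exact h.mem_of_conj r (g := ⟨_, hg⟩) (g' := ⟨_, hg'⟩) (by simp) ((hiff ⟨_, hg⟩).1 hg4)
      · intro hd
        refine ⟨?_, ?_⟩
        · simp only [Subgroup.coe_mul, Subgroup.coe_inv]
          rcases hd with hd | hd
          · exact mul_mem (mul_mem hd hg) (inv_mem hd)
          · have h5 := h.conj_mem_rot (mul_mem (mul_mem hd hg) (inv_mem hd))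
            rwa [show b * (b * (d : G) * (g : G) * (b * (d : G))⁻¹) * b⁻¹
              = b * b * ((d : G) * (g : G) * (d : G)⁻¹) * (b * b)⁻¹ by group, h.b_sq, one_mul,
              inv_one, mul_one] at h5
        · rwa [Subgroup.orderOf_coe, show d * g * d⁻¹ = MulAut.conj d g from rfl,
            MulEquiv.orderOf_eq, ← Subgroup.orderOf_coe])
  have hT : Nat.card {x : C // ∃ c, ((c * x * c⁻¹ : C) : G) ∈ rotGroup a k ∧
      4 ∣ orderOf ((c * x * c⁻¹ : C) : G)} = Nat.card {x : C // 4 ∣ orderOf (x : G)} := by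
    refine Nat.card_congr (Equiv.subtypeEquivRight fun x => ⟨?_, fun h4 => ?_⟩)
    · rintro ⟨c, -, h4⟩
      rwa [Subgroup.orderOf_coe, show c * x * c⁻¹ = MulAut.conj c x from rfl,
        MulEquiv.orderOf_eq, ← Subgroup.orderOf_coe] at h4
    · rcases h.elt_cases x with ho | ho | ⟨c, hc, -⟩ | ⟨c, y, hy, hyo, hc⟩
      · obtain ⟨m, hm⟩ := ho; omega
      · exfalso
        have h5 := invol_mul_not h.orderOf_z
          (show Commute z (z * (x : G)) from (Commute.refl z).mul_right (h.z_comm x)) ho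
        rw [← mul_assoc, h.z_sq, one_mul] at h5
        exact h5.2 h4
      · exact ⟨c, hc, by rwa [Subgroup.orderOf_coe, show c * x * c⁻¹ = MulAut.conj c x from rfl,
          MulEquiv.orderOf_eq, ← Subgroup.orderOf_coe]⟩
      · exfalso
        refine (invol_mul_not h.orderOf_b hy hyo).2 ?_
        rwa [← hc, Subgroup.orderOf_coe, show c * x * c⁻¹ = MulAut.conj c x from rfl,
          MulEquiv.orderOf_eq, ← Subgroup.orderOf_coe]
  rw [hT] at horb
  -- the normaliser
  have hN : Nat.card {d : C // (d : G) ∈ rotGroup a k ∨ b * (d : G) ∈ rotGroup a k}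
      = 2 * Nat.card (rotGroup a k) := by
    have e1 : Nat.card {d : C // (d : G) ∈ rotGroup a k} = Nat.card (rotGroup a k) :=
      Nat.card_congr ⟨fun d => ⟨(d : C), d.2⟩, fun g => ⟨⟨g, h.rotGroup_le g.2⟩, g.2⟩,
        fun _ => rfl, fun _ => rfl⟩
    have e2 : Nat.card {d : C // b * (d : G) ∈ rotGroup a k} = Nat.card (rotGroup a k) :=
      Nat.card_congr ⟨fun d => ⟨b * ((d : C) : G), d.2⟩,
        fun g => ⟨⟨b⁻¹ * g, mul_mem (inv_mem h.b_mem_C) (h.rotGroup_le g.2)⟩, by simp⟩,
        fun d => Subtype.ext (Subtype.ext (by simp)), fun g => Subtype.ext (by simp)⟩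
    rw [Nat.card_eq_fintype_card, Fintype.card_subtype_or_disjoint _ _ (by
      rw [Pi.disjoint_iff]
      exact fun d => by simpa [Prop.disjoint_iff] using h.card_rot_sup (d : G)),
      ← Nat.card_eq_fintype_card, ← Nat.card_eq_fintype_card, e1, e2, two_mul]
  -- the representatives
  have hP : Nat.card {g : C // (g : G) ∈ rotGroup a k ∧ 4 ∣ orderOf (g : G)} + 2 * Nat.card ρ.ker
      = Nat.card (rotGroup a k) := by
    have e1 : Nat.card {g : C // (g : G) ∈ rotGroup a k ∧ 4 ∣ orderOf (g : G)}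
        = Nat.card {g : rotGroup a k // ¬ ρ g ^ 2 = 1} :=
      Nat.card_congr ⟨fun d => ⟨⟨(d : C), d.2.1⟩, (hiff _).1 d.2.2⟩,
        fun g => ⟨⟨g.1, h.rotGroup_le g.1.2⟩, g.1.2, (hiff g.1).2 g.2⟩, fun _ => rfl, fun _ => rfl⟩
    have h4 := sum_lift r (fun u => if u ^ 2 = 1 then 1 else 0)
    obtain ⟨p1, p2, p3⟩ := h.pow_eq
    have hfil : (Finset.range (2 ^ k)).filter (fun j => (ρ ⟨a, a_mem_rot⟩ ^ j) ^ 2 = 1)
        = {0, 2 ^ (k - 1)} := by
      ext j
      rw [Finset.mem_filter, Finset.mem_range, Finset.mem_insert, Finset.mem_singleton, ← pow_mul,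
        ← orderOf_dvd_iff_pow_eq_one, r.ord, p1, mul_comm j, Nat.mul_dvd_mul_iff_left two_pos]
      constructor
      · rintro ⟨hlt, ⟨q, rfl⟩⟩
        rcases Nat.lt_or_ge q 2 with hq | hq
        · interval_cases q <;> simp
        · exfalso
          have := Nat.mul_le_mul_left (2 ^ (k - 1)) hq
          omega
      · rintro (rfl | rfl)
        · exact ⟨by positivity, dvd_zero _⟩
        · exact ⟨by omega, dvd_rfl⟩
    rw [Finset.sum_boole, Finset.sum_boole, hfil,
      Finset.card_pair (by omega : (0 : ℕ) ≠ 2 ^ (k - 1)), ← Fintype.card_subtype,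
      ← Nat.card_eq_fintype_card] at h4
    have h5 : Nat.card {g : rotGroup a k // ρ g ^ 2 = 1} = Nat.card ρ.ker * 2 := by exact_mod_cast h4
    rw [e1, mul_comm 2, ← h5]
    simp only [Nat.card_eq_fintype_card]
    rw [Fintype.card_subtype_compl]
    have := Fintype.card_subtype_le fun g : rotGroup a k => ρ g ^ 2 = 1
    omega
  rw [hN, card_rot r] at horb
  rw [card_rot r] at hP
  refine Nat.eq_of_mul_eq_mul_left (Nat.card_pos (α := ρ.ker)) ?_
  linear_combination (norm := ring_nf) horb + Nat.card C * hP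

/-- The number of elements in the section of `b`. -/
theorem card_refl (h : Config S a b z k) :
    4 * Nat.card {x : centralizer ({z} : Set G) // ∃ c : centralizer ({z} : Set G), ∃ y : G,
      Commute b y ∧ Odd (orderOf y) ∧ ((c * x * c⁻¹ : centralizer ({z} : Set G)) : G) = b * y}
      = Nat.card (centralizer ({z} : Set G)) := by
  haveI := Fintype.ofFinite G
  haveI : Fact (Nat.Prime 2) := ⟨Nat.prime_two⟩
  set C := centralizer ({z} : Set G)
  set b' : C := ⟨b, h.b_mem_C⟩ with hb'
  have horb := card_conj_orbit (K := C) (fun g => ∃ y : G, Commute b y ∧ Odd (orderOf y) ∧ (g : G) = b * y)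
    (fun d => Commute (d : G) b) (by
      rintro g ⟨y, hy, hyo, hg⟩ d
      have e : ((d * g * d⁻¹ : C) : G) = (d : G) * b * (d : G)⁻¹ * ((d : G) * y * (d : G)⁻¹) := by
        simp [hg, mul_assoc]
      have ho : Odd (orderOf ((d : G) * y * (d : G)⁻¹)) := by
        rwa [show (d : G) * y * (d : G)⁻¹ = MulAut.conj (d : G) y from rfl, MulEquiv.orderOf_eq]
      have hc : Commute ((d : G) * b * (d : G)⁻¹) ((d : G) * y * (d : G)⁻¹) := by
        simpa using hy.map (MulAut.conj (d : G))
      constructor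
      · rintro ⟨y', hy', hyo', he⟩
        have h1 := Blocks.isPPart_unique Nat.prime_two (g := b * y')
          (by
            rw [← he, e]
            exact isPPart_invol (by
              rw [show (d : G) * b * (d : G)⁻¹ = MulAut.conj (d : G) b from rfl, MulEquiv.orderOf_eq,
                h.orderOf_b]) hc ho)
          (isPPart_invol h.orderOf_b hy' hyo')
        exact mul_inv_eq_iff_eq_mul.1 h1
      · intro hd
        have hd' : (d : G) * b * (d : G)⁻¹ = b := mul_inv_eq_iff_eq_mul.2 hd.eq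
        rw [hd'] at e hc
        exact ⟨_, hc, ho, e⟩)
  have e1 : Nat.card {g : C // ∃ y : G, Commute b y ∧ Odd (orderOf y) ∧ (g : G) = b * y}
      = Nat.card {g : C // Commute (g : G) b ∧ Odd (orderOf (g : G))} := by
    refine Nat.card_congr ((Equiv.mulLeft b').subtypeEquiv fun g => ?_)
    show _ ↔ Commute ((b' * g : C) : G) b ∧ Odd (orderOf ((b' * g : C) : G))
    simp only [Subgroup.coe_mul, hb']
    constructor
    · rintro ⟨y, hy, hyo, hg⟩
      rw [hg, ← mul_assoc, h.b_sq, one_mul]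
      exact ⟨hy.symm, hyo⟩
    · rintro ⟨hc, ho⟩
      exact ⟨_, hc.symm, ho, by rw [← mul_assoc, h.b_sq, one_mul]⟩
  -- the centraliser of `b` in `C(z)`
  have htwo : ∀ u : C, Commute (u : G) b → ∀ i : ℕ, orderOf u = 2 ^ i →
      (u : G) = 1 ∨ (u : G) = z ∨ (u : G) = b ∨ (u : G) = z * b := by
    intro u hub i hi
    have hcub : Commute u b' := Subtype.ext hub.eq
    have hp : IsPGroup 2 ↥(zpowers u ⊔ zpowers b') := by
      refine IsPGroup.to_sup_of_normal_right' (IsPGroup.of_card (n := i) (by rw [Nat.card_zpowers, hi]))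
        (IsPGroup.of_card (n := 1) (by rw [Nat.card_zpowers, hb', Subgroup.orderOf_mk, h.orderOf_b, pow_one])) ?_
      refine le_trans (fun g hg => mem_centralizer_iff.2 fun v hv => ?_) (centralizer_le_normalizer _)
      obtain ⟨p, rfl⟩ := mem_zpowers_iff.1 hg
      obtain ⟨q, rfl⟩ := mem_zpowers_iff.1 hv
      exact ((hcub.zpow_left p).zpow_right q).symm.eq
    obtain ⟨c, hc⟩ := h.exists_conj_sylow hp
    have hcb := hc b' (mem_sup_right (mem_zpowers b'))
    have hcu := hc u (mem_sup_left (mem_zpowers u))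
    simp only [Subgroup.coe_mul, Subgroup.coe_inv] at hcb hcu
    -- move `b` back
    have hobs : ((c : G) * b * (c : G)⁻¹) * ((c : G) * b * (c : G)⁻¹) = 1 := by
      rw [show (c : G) * b * (c : G)⁻¹ * ((c : G) * b * (c : G)⁻¹) = (c : G) * (b * b) * (c : G)⁻¹ by group,
        h.b_sq]; group
    obtain ⟨l, hl⟩ : ∃ l : ℤ, a ^ l * ((c : G) * b * (c : G)⁻¹) * (a ^ l)⁻¹ = b := by
      rcases h.cases_conj hcb with ⟨j, hj⟩ | ⟨l, hl | hl⟩
      · exfalso
        rw [hb'] at hj
        rw [hj] at hobs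
        rcases h.sq_zpow hobs with e | e <;> rw [e] at hj
        · rw [conj_eq_one_iff] at hj
          exact (orderOf_eq_one_iff.not.1 (by rw [h.orderOf_b]; omega)) hj
        · rw [mul_inv_eq_iff_eq_mul] at hj
          exact h.b_ne_z (mul_left_cancel (hj.trans (h.z_comm c).eq))
      · exact ⟨l, hl⟩
      · exfalso
        rw [hb'] at hl
        have h1 : (b * a) * (b * a) = 1 := by
          rw [← hl, show ∀ w v : G, w * v * w⁻¹ * (w * v * w⁻¹) = w * (v * v) * w⁻¹ from
            fun w v => by group, hobs]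
          group
        have h3 := h.conj_a
        rw [h.b_inv] at h3
        rw [← mul_assoc, h3, ← pow_succ, Nat.sub_add_cancel Nat.one_le_two_pow, ← h.z_eq] at h1
        exact h.z_ne_one h1
    set w : C := ⟨a ^ l, zpow_mem h.a_mem_C l⟩ * c with hw
    have hwb : (w : G) * b * (w : G)⁻¹ = b := by
      conv_rhs => rw [← hl]
      simp [hw, mul_assoc]
    have hwu : (w : G) * (u : G) * (w : G)⁻¹ ∈ (S : Subgroup G) := by
      have := mul_mem (mul_mem (zpow_mem h.a_mem l) hcu) (inv_mem (zpow_mem h.a_mem l))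
      simpa [hw, mul_assoc] using this
    have hwc : Commute ((w : G) * (u : G) * (w : G)⁻¹) b := by
      have := hub.map (MulAut.conj (w : G))
      simp only [MulAut.conj_apply, hwb] at this
      exact this
    have hfix : ∀ v : G, Commute (w : G) v → (w : G) * (u : G) * (w : G)⁻¹ = v → (u : G) = v :=
      fun v hv e => mul_left_cancel (a := (w : G)) ((mul_inv_eq_iff_eq_mul.1 e).trans hv.eq.symm)
    have hwz : Commute (w : G) z := (h.z_comm w).symm
    have hwb' : Commute (w : G) b := mul_inv_eq_iff_eq_mul.1 hwb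
    have key : ∀ j : ℤ, Commute b (a ^ j) → a ^ j = 1 ∨ a ^ j = z := fun j hj =>
      h.sq_zpow (by have := h.sq_of_commute hj; rwa [pow_two] at this)
    rcases h.cases hwu with ⟨j, hj⟩ | ⟨j, hj⟩
    · rcases key j (hj ▸ hwc).symm with e | e <;> rw [e] at hj
      · exact Or.inl (hfix 1 (Commute.one_right _) hj)
      · exact Or.inr (Or.inl (hfix z hwz hj))
    · have hbj : Commute b (a ^ j) := by
        have h9 := (Commute.refl b).mul_left (hj ▸ hwc)
        rwa [← mul_assoc, h.b_sq, one_mul, Commute.symm_iff] at h9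
      rcases key j hbj with e | e <;> rw [e] at hj
      · rw [mul_one] at hj
        exact Or.inr (Or.inr (Or.inl (hfix b hwb' hj)))
      · rw [← h.z_comm_b.eq] at hj
        exact Or.inr (Or.inr (Or.inr (hfix (z * b) (hwz.mul_right hwb') hj)))
  -- four translates
  set z' : C := ⟨z, z_mem_C⟩ with hz'
  set V : Finset C := {1, z', b', z' * b'} with hV
  have hVcomm : ∀ v ∈ V, ∀ g : C, Commute (g : G) b → Commute (v : G) (g : G) := by
    intro v hv g hg
    simp only [hV, Finset.mem_insert, Finset.mem_singleton] at hv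
    rcases hv with rfl | rfl | rfl | rfl
    · exact Commute.one_left _
    · exact h.z_comm g
    · exact hg.symm
    · simp only [Subgroup.coe_mul, hz', hb']
      exact (h.z_comm g).mul_left hg.symm
  have hVb : ∀ v ∈ V, Commute (v : G) b := fun v hv => hVcomm v hv b' (by rw [hb'])
  have hV2 : ∀ v ∈ V, ∃ i : ℕ, orderOf (v : G) = 2 ^ i := by
    intro v hv
    have h1 : (v : G) ^ 2 = 1 := by
      simp only [hV, Finset.mem_insert, Finset.mem_singleton] at hv
      rcases hv with rfl | rfl | rfl | rfl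
      · simp
      · rw [pow_two]; exact h.z_sq
      · rw [pow_two]; exact h.b_sq
      · simp only [Subgroup.coe_mul, hz', hb']
        rw [h.z_comm_b.mul_pow, pow_two, pow_two, h.z_sq, h.b_sq, one_mul]
    obtain ⟨i, -, hi⟩ := (Nat.dvd_prime_pow Nat.prime_two).1
      (show orderOf (v : G) ∣ 2 ^ 1 by rw [pow_one]; exact orderOf_dvd_of_pow_eq_one h1)
    exact ⟨i, hi⟩
  have hVc : V.card = 4 := by
    have hne : ∀ p q : C, (p : G) ≠ q → p ≠ q := fun p q hpq e => hpq (congrArg Subtype.val e)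
    rw [hV, Finset.card_insert_of_notMem, Finset.card_insert_of_notMem, Finset.card_pair]
    · apply hne
      simp only [Subgroup.coe_mul, hz', hb']
      exact fun e => h.z_ne_one (right_eq_mul.1 e)
    · simp only [Finset.mem_insert, Finset.mem_singleton, not_or]
      refine ⟨hne _ _ (Ne.symm h.b_ne_z), hne _ _ ?_⟩
      simp only [Subgroup.coe_mul, hz', hb']
      intro e
      have h2 := h.orderOf_b
      rw [left_eq_mul.1 e, orderOf_one] at h2
      omega
    · simp only [Finset.mem_insert, Finset.mem_singleton, not_or]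
      refine ⟨hne _ _ (Ne.symm h.z_ne_one), hne _ _ ?_, hne _ _ ?_⟩
      · intro e
        have h2 := h.orderOf_b
        rw [← show (1 : G) = b from e, orderOf_one] at h2
        omega
      · simp only [Subgroup.coe_mul, hz', hb']
        intro e
        refine h.b_ne_z ?_
        rw [← inv_eq_of_mul_eq_one_right h.z_sq, ← inv_eq_of_mul_eq_one_right (a := z) (b := b) e.symm]
  have e2 : Nat.card {d : C // Commute (d : G) b}
      = 4 * Nat.card {g : C // Commute (g : G) b ∧ Odd (orderOf (g : G))} := by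
    rw [← hVc, ← Nat.card_coe_set_eq (V : Set C) |>.trans (Set.ncard_coe_finset V), ← Nat.card_prod]
    symm
    refine Nat.card_eq_of_bijective (fun p => ⟨(p.1 : C) * (p.2 : C), by
      simp only [Subgroup.coe_mul]; exact (hVb _ p.1.2).mul_left p.2.2.1⟩) ⟨?_, ?_⟩
    · rintro ⟨⟨v, hv⟩, ⟨g, hg, hgo⟩⟩ ⟨⟨v', hv'⟩, ⟨g', hg', hgo'⟩⟩ e
      have e' : (v : G) * g = (v' : G) * g' :=
        congrArg (fun q : {d : C // Commute (d : G) b} => ((q : C) : G)) e
      have h1 : (v : G) = v' := Blocks.isPPart_unique Nat.prime_two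
        ⟨g, rfl, hVcomm v hv g hg, hV2 v hv, hgo.not_two_dvd_nat⟩
        ⟨g', e'.symm, hVcomm v' hv' g' hg', hV2 v' hv', hgo'.not_two_dvd_nat⟩
      rw [h1] at e'
      exact Prod.ext (Subtype.ext (Subtype.ext h1)) (Subtype.ext (Subtype.ext (mul_left_cancel e')))
    · rintro ⟨x, hx⟩
      obtain ⟨u, y, -, huy, hcomm, hy, ⟨i, hi⟩, hu, hyz⟩ := Blocks.exists_isPPart Nat.prime_two x
      have hbx : ∀ w ∈ zpowers x, Commute (w : G) b := by
        intro w hw
        obtain ⟨p, rfl⟩ := mem_zpowers_iff.1 hw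
        rw [SubgroupClass.coe_zpow]
        exact hx.zpow_left p
      have huV : u ∈ V := by
        simp only [hV, Finset.mem_insert, Finset.mem_singleton]
        rcases htwo u (hbx u hu) i hi with e | e | e | e
        · exact Or.inl (Subtype.ext e)
        · exact Or.inr (Or.inl (Subtype.ext e))
        · exact Or.inr (Or.inr (Or.inl (Subtype.ext e)))
        · exact Or.inr (Or.inr (Or.inr (Subtype.ext e)))
      exact ⟨(⟨u, huV⟩, ⟨y, hbx y hyz, by rw [Subgroup.orderOf_coe, Nat.odd_iff]; omega⟩),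
        Subtype.ext huy⟩
  rw [e1, e2, mul_comm] at horb
  have hpos : 0 < Nat.card {g : C // Commute (g : G) b ∧ Odd (orderOf (g : G))} := by
    haveI : Nonempty {g : C // Commute (g : G) b ∧ Odd (orderOf (g : G))} :=
      ⟨⟨1, by simp, by simp⟩⟩
    exact Nat.card_pos
  exact Nat.eq_of_mul_eq_mul_left hpos ((by ring : _ = _).trans horb)

variable [Fintype (centralizer ({z} : Set G))]

/-- A class function on `C(z)` summed over the four sorts of elements. -/
theorem sum_split (h : Config S a b z k) (φ : centralizer ({z} : Set G) → ℂ) {c₄ c₂ : ℂ}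
    (hz : ∀ x y : centralizer ({z} : Set G), (x : G) = z * (y : G) → φ x = φ y)
    (h4 : ∀ x : centralizer ({z} : Set G), 4 ∣ orderOf (x : G) → φ x = c₄)
    (h2 : ∀ x : centralizer ({z} : Set G), (∃ c : centralizer ({z} : Set G), ∃ y : G, Commute b y ∧
      Odd (orderOf y) ∧ ((c * x * c⁻¹ : centralizer ({z} : Set G)) : G) = b * y) → φ x = c₂) :
    (2 : ℂ) ^ (k + 3) * ∑ y : ↥(centralizer ({z} : Set G)) with Odd (orderOf ((y : ↥(centralizer ({z} : Set G))) : G)), φ y
      = 2 ^ (k + 2) * ∑ y : ↥(centralizer ({z} : Set G)), φ y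
        - (2 * ((2 : ℂ) ^ k - 2) * c₄ + 2 ^ k * c₂) * (Nat.card (centralizer ({z} : Set G)) : ℂ) := by
  set Pb : (centralizer ({z} : Set G)) → Prop := fun x => ∃ c : (centralizer ({z} : Set G)), ∃ y : G, Commute b y ∧ Odd (orderOf y) ∧
    ((c * x * c⁻¹ : (centralizer ({z} : Set G))) : G) = b * y with hPb
  set z' : (centralizer ({z} : Set G)) := ⟨z, z_mem_C⟩ with hz'
  have hord : ∀ (c x : (centralizer ({z} : Set G))), orderOf ((c * x * c⁻¹ : (centralizer ({z} : Set G))) : G) = orderOf (x : G) := fun c x => by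
    rw [Subgroup.orderOf_coe, show c * x * c⁻¹ = MulAut.conj c x from rfl, MulEquiv.orderOf_eq,
      ← Subgroup.orderOf_coe]
  have hzx : ∀ x : (centralizer ({z} : Set G)), Odd (orderOf (z * (x : G))) →
      ¬ Odd (orderOf (x : G)) ∧ ¬ 4 ∣ orderOf (x : G) := by
    intro x ho
    have h5 := invol_mul_not h.orderOf_z
      (show Commute z (z * (x : G)) from (Commute.refl z).mul_right (h.z_comm x)) ho
    rwa [← mul_assoc, h.z_sq, one_mul] at h5
  have hb : ∀ x : (centralizer ({z} : Set G)), Pb x →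
      ¬ Odd (orderOf (x : G)) ∧ ¬ 4 ∣ orderOf (x : G) ∧ ¬ Odd (orderOf (z * (x : G))) := by
    rintro x ⟨c, y, hy, hyo, hc⟩
    obtain ⟨hno, hn4⟩ := invol_mul_not h.orderOf_b hy hyo
    refine ⟨by rwa [← hord c x, hc], by rwa [← hord c x, hc], fun ho => h.b_ne_z ?_⟩
    have h1 : z * (b * y) = ((c * (z' * x) * c⁻¹ : (centralizer ({z} : Set G))) : G) := by
      rw [← hc]
      simp only [Subgroup.coe_mul, Subgroup.coe_inv, hz', ← mul_assoc, (h.z_comm c).eq]
    have h2 : Odd (orderOf (z * (b * y))) := by rwa [h1, hord]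
    have hc2 : Commute z (z * (b * y)) := (Commute.refl z).mul_right
      (hc ▸ h.z_comm (c * x * c⁻¹))
    refine Blocks.isPPart_unique Nat.prime_two (isPPart_invol h.orderOf_b hy hyo) ?_
    have h3 := isPPart_invol h.orderOf_z hc2 h2
    rwa [← mul_assoc z z, h.z_sq, one_mul] at h3
  -- the three translates
  have e1 : ∑ x : ↥(centralizer ({z} : Set G)) with Odd (orderOf (z * ((x : ↥(centralizer ({z} : Set G))) : G))), φ x = ∑ x : ↥(centralizer ({z} : Set G)) with Odd (orderOf ((x : ↥(centralizer ({z} : Set G))) : G)), φ x := by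
    refine Finset.sum_nbij' (fun x => z' * x) (fun x => z' * x) ?_ ?_ ?_ ?_ ?_
    · intro x hx
      simp only [Finset.mem_filter, Finset.mem_univ, true_and] at hx ⊢
      exact hx
    · intro x hx; simp only [Finset.mem_filter, Finset.mem_univ, true_and] at hx ⊢
      simp only [Subgroup.coe_mul, hz']
      rwa [← mul_assoc, h.z_sq, one_mul]
    · intro x _; exact Subtype.ext (by simp [hz', ← mul_assoc, h.z_sq])
    · intro x _; exact Subtype.ext (by simp [hz', ← mul_assoc, h.z_sq])
    · intro x _; exact (hz _ _ (by simp [hz'])).symm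
  have e4 : ∑ x : ↥(centralizer ({z} : Set G)) with 4 ∣ orderOf ((x : ↥(centralizer ({z} : Set G))) : G), φ x
      = (Nat.card {x : (centralizer ({z} : Set G)) // 4 ∣ orderOf (x : G)} : ℂ) * c₄ := by
    rw [Finset.sum_congr rfl (g := fun _ => c₄) fun x hx => h4 x (Finset.mem_filter.1 hx).2,
      Finset.sum_const, nsmul_eq_mul, Nat.card_eq_fintype_card, Fintype.card_subtype]
  have e2 : ∑ x : ↥(centralizer ({z} : Set G)) with Pb x, φ x = (Nat.card {x : (centralizer ({z} : Set G)) // Pb x} : ℂ) * c₂ := by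
    rw [Finset.sum_congr rfl (g := fun _ => c₂) fun x hx => h2 x (Finset.mem_filter.1 hx).2,
      Finset.sum_const, nsmul_eq_mul, Nat.card_eq_fintype_card, Fintype.card_subtype]
  have hpart : ∑ x : (centralizer ({z} : Set G)), φ x = ∑ x : ↥(centralizer ({z} : Set G)) with Odd (orderOf ((x : ↥(centralizer ({z} : Set G))) : G)), φ x
      + ∑ x : ↥(centralizer ({z} : Set G)) with Odd (orderOf (z * ((x : ↥(centralizer ({z} : Set G))) : G))), φ x
      + ∑ x : ↥(centralizer ({z} : Set G)) with 4 ∣ orderOf ((x : ↥(centralizer ({z} : Set G))) : G), φ x + ∑ x : ↥(centralizer ({z} : Set G)) with Pb x, φ x := by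
    simp only [Finset.sum_filter, ← Finset.sum_add_distrib]
    refine Finset.sum_congr rfl fun x _ => ?_
    rcases h.elt_cases x with ho | ho | ⟨c, -, ho⟩ | ho
    · rw [if_pos ho, if_neg fun hh => (hzx x hh).1 ho, if_neg fun hh => by obtain ⟨m, hm⟩ := ho; omega,
        if_neg fun hh => (hb x hh).1 ho]
      simp
    · rw [if_neg (hzx x ho).1, if_pos ho, if_neg (hzx x ho).2, if_neg fun hh => (hb x hh).2.2 ho]
      simp
    · rw [if_neg fun hh => by obtain ⟨m, hm⟩ := hh; omega, if_neg fun hh => (hzx x hh).2 ho, if_pos ho,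
        if_neg fun hh => (hb x hh).2.1 ho]
      simp
    · obtain ⟨q1, q2, q3⟩ := hb x ho
      rw [if_neg q1, if_neg q3, if_neg q2, if_pos ho]
      simp
  rw [e1, e4, e2] at hpart
  have n4 : (Nat.card {x : (centralizer ({z} : Set G)) // 4 ∣ orderOf (x : G)} : ℂ) * 2 ^ (k + 1)
      + 2 * (Nat.card (centralizer ({z} : Set G)) : ℂ) = 2 ^ k * (Nat.card (centralizer ({z} : Set G)) : ℂ) := by exact_mod_cast h.card_four
  have n2 : 4 * (Nat.card {x : (centralizer ({z} : Set G)) // Pb x} : ℂ) = (Nat.card (centralizer ({z} : Set G)) : ℂ) := by exact_mod_cast h.card_refl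
  rw [hpart]
  linear_combination (-2 * c₄) * n4 + (-(2 : ℂ) ^ k * c₂) * n2

theorem sum_odd_one (h : Config S a b z k) :
    (2 : ℂ) ^ (k + 3) * ∑ y : ↥(centralizer ({z} : Set G)) with Odd (orderOf ((y : ↥(centralizer ({z} : Set G))) : G)), (1 : ℂ)
      = (2 ^ k + 4) * (Nat.card (centralizer ({z} : Set G)) : ℂ) := by
  rw [h.sum_split (fun _ => (1 : ℂ)) (fun _ _ _ => rfl) (fun _ _ => rfl) (fun _ _ => rfl),
    Finset.sum_const, Finset.card_univ, nsmul_eq_mul, mul_one, ← Nat.card_eq_fintype_card]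
  ring

end Config

namespace Line

variable {z b : G} {σ : centralizer ({z} : Set G) → ℂ} {Q : ℤ}

theorem conj_eq (l : Line z b σ Q) (c x : centralizer ({z} : Set G)) : σ (c * x * c⁻¹) = σ x := by
  haveI := Fintype.ofFinite (centralizer ({z} : Set G))
  obtain ⟨e, he, hirr⟩ := l.irr
  have h1 : (e : ℂ) * σ (c * x * c⁻¹) = (e : ℂ) * σ x :=
    Blocks.irr_conj_apply (⟨_, hirr⟩ : IrrCharacter (centralizer ({z} : Set G))) x c
  exact mul_left_cancel₀ (by rcases he with rfl | rfl <;> norm_num) h1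

theorem refl' (l : Line z b σ Q) (x : centralizer ({z} : Set G))
    (h : ∃ c : centralizer ({z} : Set G), ∃ y : G, Commute b y ∧ Odd (orderOf y) ∧
      ((c * x * c⁻¹ : centralizer ({z} : Set G)) : G) = b * y) : σ x = 1 := by
  obtain ⟨c, y, hy, hyo, hc⟩ := h
  rw [← l.conj_eq c x]
  exact l.refl _ ⟨y, hy, hyo, hc⟩

variable [Fintype (centralizer ({z} : Set G))]

theorem sum_eq_zero (l : Line z b σ Q) : ∑ y : ↥(centralizer ({z} : Set G)), σ y = 0 := by
  obtain ⟨e, he, hirr⟩ := l.irr
  have hne : (fun x => (e : ℂ) * σ x) ≠ ((Blocks.trivChar (centralizer ({z} : Set G)) :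
      IrrCharacter (centralizer ({z} : Set G))) : centralizer ({z} : Set G) → ℂ) := by
    intro heq
    have h1 := congrFun heq 1
    rw [l.one, Blocks.trivChar_apply, ← Int.cast_mul, ← Int.cast_one, Int.cast_inj] at h1
    have := l.three_le
    rcases he with rfl | rfl <;> omega
  have h0 := Char.classInner_irr_ne hirr (Blocks.trivChar (centralizer ({z} : Set G))).2 hne
  simp only [Cfsg.classInner, Blocks.trivChar_apply, map_one, mul_one, ← Finset.mul_sum,
    mul_eq_zero, inv_eq_zero, Nat.cast_eq_zero, Nat.card_pos.ne', false_or] at h0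
  exact h0.resolve_left (by rcases he with rfl | rfl <;> norm_num)

theorem sum_mul_conj (l : Line z b σ Q) :
    ∑ y : ↥(centralizer ({z} : Set G)), σ y * conj (σ y) = (Nat.card (centralizer ({z} : Set G)) : ℂ) := by
  obtain ⟨e, he, hirr⟩ := l.irr
  have h0 := Char.classInner_irr_self hirr
  rw [Cfsg.classInner, inv_mul_eq_one₀ (Nat.cast_ne_zero.2 Nat.card_pos.ne')] at h0
  rw [h0]
  refine Finset.sum_congr rfl fun y _ => ?_
  rcases he with rfl | rfl <;> simp

end Line

namespace Config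

variable {S : Sylow 2 G} {a b z : G} {k : ℕ} {σ : centralizer ({z} : Set G) → ℂ} {Q : ℤ}
  [Fintype (centralizer ({z} : Set G))]

theorem sum_odd_line (h : Config S a b z k) (l : Line z b σ Q) :
    (2 : ℂ) ^ (k + 3) * ∑ y : ↥(centralizer ({z} : Set G)) with Odd (orderOf ((y : ↥(centralizer ({z} : Set G))) : G)), σ y
      = (2 ^ k - 4) * (Nat.card (centralizer ({z} : Set G)) : ℂ) := by
  rw [h.sum_split σ l.central l.rot l.refl', l.sum_eq_zero]
  ring

theorem sum_odd_line_sq (h : Config S a b z k) (l : Line z b σ Q) :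
    (2 : ℂ) ^ (k + 3) * ∑ y : ↥(centralizer ({z} : Set G)) with Odd (orderOf ((y : ↥(centralizer ({z} : Set G))) : G)), σ y * conj (σ y)
      = (2 ^ k + 4) * (Nat.card (centralizer ({z} : Set G)) : ℂ) := by
  rw [h.sum_split (fun y => σ y * conj (σ y)) (c₄ := 1) (c₂ := 1)
    (fun x y e => by rw [l.central x y e]) (fun x hx => by simp [l.rot x hx])
    (fun x hx => by simp [l.refl' x hx]), l.sum_mul_conj]
  ring

end Config

namespace Config

variable {S : Sylow 2 G} {a b z : G} {k : ℕ} {σ : centralizer ({z} : Set G) → ℂ} {Q : ℤ}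

/-- The odd order of the subgroup on which `σ` is regular. -/
theorem exists_reg (_h : Config S a b z k) (l : Line z b σ Q) :
    ∃ x : centralizer ({z} : Set G), x ≠ 1 ∧ Odd (orderOf (x : G)) ∧ σ x = 0 := by
  obtain ⟨P, P₀, -, hodd, hcard, -, h0⟩ := l.reg
  obtain ⟨x, hxP, hx⟩ : ∃ x ∈ P, x ∉ P₀ := by
    by_contra hall
    push Not at hall
    have h1 := Subgroup.card_le_of_le hall
    rw [hcard] at h1
    have h2 := Nat.mul_le_mul_right (Nat.card P₀) l.three_le
    have h3 : 0 < Nat.card P₀ := Nat.card_pos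
    omega
  exact ⟨x, fun e => hx (e ▸ P₀.one_mem),
    hodd.of_dvd_nat (by rw [Subgroup.orderOf_coe]; exact Subgroup.orderOf_dvd_natCard P hxP),
    h0 x hxP hx⟩

/-- A character of the principal block on the section of `z`. -/
theorem exists_section_coeff [Fintype G] (h : Config S a b z k) (l : Line z b σ Q) {M : Ideal AlgInt}
    (hM : IsPModular 2 M) {χ : IrrCharacter G} (hχ : χ ∈ principalBlock M G) :
    ∃ α β : ℂ, ∀ y : centralizer ({z} : Set G), Odd (orderOf (y : G)) →
      (χ : G → ℂ) (z * (y : G)) = α + β * σ y := by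
  haveI : Fact (Nat.Prime 2) := ⟨Nat.prime_two⟩
  set C := centralizer ({z} : Set G)
  haveI := Fintype.ofFinite C
  set B := principalBlock M C with hB
  have hreg : ∀ y : C, IsPRegular 2 y ↔ Odd (orderOf (y : G)) := fun y => by
    rw [IsPRegular, Subgroup.orderOf_coe, Nat.odd_iff]; omega
  obtain ⟨e, he, hirr⟩ := l.irr
  let ψ : IrrCharacter C := ⟨_, hirr⟩
  have he0 : (e : ℂ) ≠ 0 := by rcases he with rfl | rfl <;> norm_num
  -- `σ` lies in the principal block
  have hψ : ψ ∈ B := by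
    by_contra hn
    have h0 := Blocks.SectionSums.sum_regular_eq_zero hM hn
    rw [Finset.filter_congr fun y _ => hreg y] at h0
    simp only [ψ, ← Finset.mul_sum, mul_eq_zero, he0, false_or] at h0
    have h1 := h.sum_odd_line l
    rw [h0, mul_zero, eq_comm, mul_eq_zero] at h1
    refine h1.elim (fun h2 => ?_) (Nat.cast_ne_zero.2 Nat.card_pos.ne')
    have h3 : 2 ^ k = 4 := by exact_mod_cast sub_eq_zero.1 h2
    have h4 : 2 ^ 3 ≤ 2 ^ k := Nat.pow_le_pow_right two_pos h.three_le
    omega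
  -- two Brauer characters
  have hrank : blockRank 2 B ≤ 2 := by
    let T : Sylow 2 C := S.subtype h.sylow_le_C
    have hD : IsDefectGroup 2 M B (T : Subgroup C) :=
      (Blocks.isDefectGroup_principalBlock_iff hM _).2 ⟨T, rfl⟩
    have hs : Blocks.TameDefect.Shape (T : Subgroup C) k ((2 : ℤ) ^ (k - 1) - 1)
        (⟨a, h.a_mem_C⟩ : C) ⟨b, h.b_mem_C⟩ := by
      refine ⟨by have := h.three_le; omega, h.a_mem, h.b_mem, by rw [Subgroup.orderOf_mk, h.ord_a],
        ?_, Subtype.ext h.b_sq, fun hm => h.b_notMem ?_, Subtype.ext ?_, Or.inr ⟨h.three_le, rfl⟩⟩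
      · rw [← h.card]
        exact Nat.card_congr (Subgroup.subgroupOfEquivOfLe h.sylow_le_C).toEquiv
      · obtain ⟨i, hi⟩ := mem_zpowers_iff.1 hm
        exact mem_zpowers_iff.2 ⟨i, by
          have := congrArg Subtype.val hi
          rwa [SubgroupClass.coe_zpow] at this⟩
      · rw [Subgroup.coe_mul, Subgroup.coe_mul, Subgroup.coe_inv, SubgroupClass.coe_zpow, h.conj_a,
          ← zpow_natCast, Nat.cast_sub Nat.one_le_two_pow]
        push_cast
        rfl
    exact Cfsg.Agent.S4531.blockRank_le_two_of_central hM Blocks.isPBlock_principalBlock hD hs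
      (z := (⟨z, z_mem_C⟩ : C)) (mem_center_iff.2 fun g => Subtype.ext (h.z_comm g).eq.symm)
      (by rw [Subgroup.orderOf_mk, h.orderOf_z])
  set v₁ := pRegularPart 2 (((Blocks.trivChar C : IrrCharacter C)) : C → ℂ) with hv₁
  set v₂ := pRegularPart 2 (ψ : C → ℂ) with hv₂
  set W := Submodule.span ℂ ((fun ξ : IrrCharacter C => pRegularPart 2 (ξ : C → ℂ)) '' B) with hW
  have hli : LinearIndependent ℂ ![v₁, v₂] := by
    rw [LinearIndependent.pair_iff]
    intro s t hst
    obtain ⟨x, -, hxo, hx0⟩ := h.exists_reg l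
    have e1 := congrFun hst 1
    have e2 := congrFun hst x
    simp only [hv₁, hv₂, ψ, Pi.add_apply, Pi.smul_apply, smul_eq_mul, Pi.zero_apply, pRegularPart,
      if_pos ((hreg 1).2 (by simp)), if_pos ((hreg x).2 hxo), Blocks.trivChar_apply, l.one, hx0,
      mul_zero, mul_one, add_zero] at e1 e2
    refine ⟨e2, ?_⟩
    rw [e2, zero_add, mul_eq_zero, mul_eq_zero, Int.cast_eq_zero, Int.cast_eq_zero] at e1
    exact e1.resolve_right (not_or.2 ⟨by rcases he with rfl | rfl <;> norm_num,
      fun q => by have := l.three_le; omega⟩)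
  have hspan : Submodule.span ℂ {v₁, v₂} = W := by
    refine Submodule.eq_of_le_of_finrank_le (Submodule.span_le.2 ?_) ?_
    · rintro v (rfl | rfl)
      · exact Submodule.subset_span ⟨_, Blocks.trivChar_mem_principalBlock hM, rfl⟩
      · exact Submodule.subset_span ⟨ψ, hψ, rfl⟩
    · have h2 := finrank_span_eq_card hli
      rw [Matrix.range_cons_cons_empty, Fintype.card_fin] at h2
      rw [h2]
      exact hrank
  -- the section
  set ϑ : C → ℂ := fun c => (χ : G → ℂ) (z * (c : G))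
  have hz : ∃ i : ℕ, orderOf z = 2 ^ i := ⟨1, by rw [h.orderOf_z, pow_one]⟩
  have hmem : pRegularPart 2 ϑ ∈ W := by
    have e : pRegularPart 2 ϑ = ∑ ξ ∈ B.toFinset,
        (classInner ϑ (ξ : C → ℂ)) • pRegularPart 2 (ξ : C → ℂ) := by
      funext y
      simp only [Finset.sum_apply, Pi.smul_apply, smul_eq_mul, pRegularPart]
      split_ifs with hy
      · have h1 := Blocks.blockPart_sectionSet hM (x := z) (K := C) rfl hz
          Blocks.isPBlock_principalBlock χ hy
        rw [Blocks.sectionSet_principal hM hz, Blocks.blockInd_of_mem hχ, one_mul, blockPart,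
          finsum_mem_eq_toFinset_sum] at h1
        refine h1.symm.trans (Finset.sum_congr rfl fun ξ _ => ?_)
        rw [Subsingleton.elim (Fintype.ofFinite C) (inferInstance : Fintype C)]
      · simp
    rw [e]
    exact Submodule.sum_mem _ fun ξ hξ => Submodule.smul_mem _ _
      (Submodule.subset_span ⟨ξ, Set.mem_toFinset.1 hξ, rfl⟩)
  rw [← hspan, Submodule.mem_span_pair] at hmem
  obtain ⟨α, β, hαβ⟩ := hmem
  refine ⟨α, β * e, fun y hy => ?_⟩
  have := congrFun hαβ y
  simp only [hv₁, hv₂, ψ, Pi.add_apply, Pi.smul_apply, smul_eq_mul, pRegularPart,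
    if_pos ((hreg y).2 hy), Blocks.trivChar_apply, mul_one] at this
  show ϑ y = _
  rw [← this, mul_assoc]

end Config

end CfsgLib.SDBlock
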