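import Cfsg.Prelude.Def_Characters
import Cfsg.Prelude.Def_CaseTheorems
import Mathlib.GroupTheory.Sylow

/-!
# Semidihedral Sylow 2-subgroups with one class of involutions: the data

`Config` fixes generators of a semidihedral Sylow 2-subgroup and the fusion of a group without
subgroups of index 2.  `Line` is what the character computation needs from the centralizer of the
central involution `z`: a signed irreducible character `σ` of degree `Q` (for `L₂(q)` in the
centralizer this is the signed Steinberg character, `Q = ± q`, `Q ≡ 3 (mod 4)`).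
-/

set_option autoImplicit false

namespace CfsgLib.SDBlock

variable {G : Type*} [Group G]

/-- A semidihedral Sylow 2-subgroup `S = ⟨a, b⟩` of order `2 ^ (k + 1)` with central involution `z`,
all involutions of `S` conjugate and all elements of order four of `S` conjugate in the group. -/
structure Config (S : Sylow 2 G) (a b z : G) (k : ℕ) : Prop where
  three_le : 3 ≤ k
  card : Nat.card (S : Subgroup G) = 2 ^ (k + 1)
  a_mem : a ∈ (S : Subgroup G)
  b_mem : b ∈ (S : Subgroup G)
  ord_a : orderOf a = 2 ^ k
  b_sq : b * b = 1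
  b_notMem : b ∉ Subgroup.zpowers a
  conj_a : b * a * b⁻¹ = a ^ (2 ^ (k - 1) - 1)
  z_eq : z = a ^ 2 ^ (k - 1)
  b_conj : IsConj z b
  four_conj : IsConj (a ^ 2 ^ (k - 2)) (b * a)

/-- The character `σ` of the centralizer of `z`: `± σ` is irreducible, `z` is in its kernel, it is
`-1` at the elements of order divisible by four, `1` on the section of `b`, and on some subgroup `P`
of odd order it is `Q` times the characteristic function of a subgroup `P₀` of index `|Q|`. -/
structure Line (z b : G)
    (σ : Subgroup.centralizer ({z} : Set G) → ℂ) (Q : ℤ) : Prop where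
  irr : ∃ e : ℤ, (e = 1 ∨ e = -1) ∧
    Cfsg.IsIrrCharacter (Subgroup.centralizer ({z} : Set G)) fun x => (e : ℂ) * σ x
  one : σ 1 = (Q : ℂ)
  three_le : 3 ≤ Q.natAbs
  central : ∀ x y : Subgroup.centralizer ({z} : Set G), (x : G) = z * (y : G) → σ x = σ y
  rot : ∀ x : Subgroup.centralizer ({z} : Set G), 4 ∣ orderOf (x : G) → σ x = -1
  refl : ∀ x : Subgroup.centralizer ({z} : Set G),
    (∃ y : G, Commute b y ∧ Odd (orderOf y) ∧ (x : G) = b * y) → σ x = 1
  reg : ∃ P P₀ : Subgroup (Subgroup.centralizer ({z} : Set G)), P₀ ≤ P ∧ Odd (Nat.card P) ∧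
    Nat.card P = Q.natAbs * Nat.card P₀ ∧ (∀ x ∈ P₀, σ x = (Q : ℂ)) ∧
    ∀ x ∈ P, x ∉ P₀ → σ x = 0

end CfsgLib.SDBlock
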