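import Cfsg.Agent.Lib.SDBlock.Fourier

/-!
# The mass of a character on the sections of `z` and of the rotations

The sections of `z`, the conjugates of the rotations of order at least four and the identity are
disjoint, so their contributions to `⟨χ, χ⟩ = 1` sum to less than one.
-/

set_option autoImplicit false
set_option linter.unusedSectionVars false

namespace CfsgLib.SDBlock

open Cfsg Subgroup CfsgLib.Char CfsgLib.BrauerSuzuki
open scoped Classical ComplexConjugate

variable {G : Type*} [Group G] [Fintype G] {a : G} {k : ℕ} {ρ : rotGroup a k →* ℂˣ}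
variable {S : Sylow 2 G} {b z : G}

/-- The indicator of the section of `z` in its centralizer. -/
noncomputable def sectInd (z : G) (x : centralizer ({z} : Set G)) : ℂ :=
  if Odd (orderOf (z * (x : G))) then 1 else 0

/-- The indicator of the units which do not square to one. -/
noncomputable def offInd (u : ℂˣ) : ℂ := if u ^ 2 = 1 then 0 else 1

namespace Config

theorem orderOf_of_sect (h : Config S a b z k) {x : G} (hx : Commute z x)
    (ho : Odd (orderOf (z * x))) : x ^ orderOf (z * x) = z ∧ ¬ 4 ∣ orderOf x ∧ x ≠ 1 := by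
  set n := orderOf (z * x) with hn
  obtain ⟨i, hi⟩ := ho
  have h2 : z ^ 2 = 1 := by rw [sq]; exact h.z_sq
  have e : (z * x) ^ n = 1 := pow_orderOf_eq_one _
  rw [hx.mul_pow, hi, pow_succ z, pow_mul, h2, one_pow, one_mul, ← hi] at e
  have e' : x ^ n = z := by
    rw [mul_eq_one_iff_eq_inv'] at e
    rw [e]
    exact inv_eq_of_mul_eq_one_right h.z_sq
  refine ⟨e', fun h4 => ?_, fun h1 => h.z_ne_one (by rw [← e', h1, one_pow])⟩
  have h5 : orderOf x ∣ 2 * n := orderOf_dvd_of_pow_eq_one (by rw [mul_comm, pow_mul, e', h2])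
  have := h4.trans h5
  omega

theorem indFun_sect (h : Config S a b z k) (g : G) :
    ∃ t : ℝ, indFun (centralizer ({z} : Set G)) (sectInd z) g = (t : ℂ) ∧ 0 ≤ t ∧ t ≤ 1 ∧
      (t ≠ 0 → ¬ 4 ∣ orderOf g ∧ g ≠ 1) := by
  set C := centralizer ({z} : Set G) with hC
  set T := Finset.univ.filter fun x : G => ∃ hm : x⁻¹ * g * x ∈ C, Odd (orderOf (z * (x⁻¹ * g * x)))
    with hT
  refine ⟨(T.card : ℝ) / (Nat.card C : ℝ), ?_, by positivity, ?_, ?_⟩
  · rw [indFun_def, Complex.ofReal_div, Complex.ofReal_natCast, Complex.ofReal_natCast, div_eq_inv_mul]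
    congr 1
    rw [hT, Finset.natCast_card_filter]
    refine Finset.sum_congr rfl fun x _ => ?_
    by_cases hm : x⁻¹ * g * x ∈ C
    · rw [extendByZero_apply_mem _ _ hm, sectInd]
      exact if_congr ⟨fun ho => ⟨hm, ho⟩, fun ⟨_, ho⟩ => ho⟩ rfl rfl
    · rw [extendByZero_apply_notMem _ _ hm, if_neg fun ⟨hm', _⟩ => hm hm']
  · rw [div_le_one (Nat.cast_pos.2 Nat.card_pos)]
    rcases T.eq_empty_or_nonempty with he | ⟨x₀, hx₀⟩
    · rw [he, Finset.card_empty, Nat.cast_zero]; positivity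
    have key : ∀ x ∈ T, x⁻¹ * x₀ ∈ C := by
      intro x hx
      obtain ⟨hm, ho⟩ := (Finset.mem_filter.1 hx).2
      obtain ⟨hm₀, ho₀⟩ := (Finset.mem_filter.1 hx₀).2
      have hc : ∀ y : G, x⁻¹ * g * x = y → y ∈ C → Commute z y := fun y _ hy =>
        (mem_centralizer_singleton_iff.1 hy).symm
      obtain ⟨e, -⟩ := h.orderOf_of_sect (mem_centralizer_singleton_iff.1 hm).symm ho
      obtain ⟨e₀, -⟩ := h.orderOf_of_sect (mem_centralizer_singleton_iff.1 hm₀).symm ho₀
      set n := orderOf (z * (x⁻¹ * g * x))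
      set n₀ := orderOf (z * (x₀⁻¹ * g * x₀))
      have hz : ∀ m : ℕ, Odd m → z ^ m = z := fun m hm => by
        obtain ⟨i, rfl⟩ := hm
        rw [pow_succ, pow_mul, sq, h.z_sq, one_pow, one_mul]
      have e1 : g ^ (n * n₀) = x * z * x⁻¹ := by
        have : (x⁻¹ * g * x) ^ (n * n₀) = z := by rw [pow_mul, e, hz _ ho₀]
        rw [← this, show x⁻¹ * g * x = MulAut.conj x⁻¹ g by simp, ← map_pow]
        simp [mul_assoc]
      have e2 : g ^ (n * n₀) = x₀ * z * x₀⁻¹ := by
        have : (x₀⁻¹ * g * x₀) ^ (n * n₀) = z := by rw [mul_comm, pow_mul, e₀, hz _ ho]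
        rw [← this, show x₀⁻¹ * g * x₀ = MulAut.conj x₀⁻¹ g by simp, ← map_pow]
        simp [mul_assoc]
      refine mem_centralizer_singleton_iff.2 ?_
      rw [mul_assoc, inv_mul_eq_iff_eq_mul, ← mul_assoc x z, ← mul_assoc (x * z),
        ← e1, e2, inv_mul_cancel_right]
    have : T.card ≤ Nat.card C := by
      rw [Nat.card_eq_fintype_card, ← Finset.card_univ]
      refine Finset.card_le_card_of_injOn (fun x => (if hx : x ∈ T then (⟨x⁻¹ * x₀, key x hx⟩ : C) else 1))
        (fun x _ => Finset.mem_univ _) fun x hx y hy e => ?_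
      simp only [Finset.mem_coe] at hx hy
      simp only [dif_pos hx, dif_pos hy, Subtype.mk.injEq, mul_left_inj, inv_inj] at e
      exact e
    exact_mod_cast this
  · intro ht
    have hne : T.Nonempty := Finset.card_pos.1 (Nat.pos_of_ne_zero fun e => ht (by simp [e]))
    obtain ⟨x, hx⟩ := hne
    obtain ⟨hm, ho⟩ := (Finset.mem_filter.1 hx).2
    obtain ⟨-, h4, h1⟩ := h.orderOf_of_sect (mem_centralizer_singleton_iff.1 hm).symm ho
    have e : orderOf (x⁻¹ * g * x) = orderOf g := by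
      rw [show x⁻¹ * g * x = MulAut.conj x⁻¹ g by simp, MulEquiv.orderOf_eq]
    exact ⟨e ▸ h4, fun e' => h1 (by simp [e'])⟩

theorem indFun_off (h : Config S a b z k) (r : RotChar a k ρ) (g : G) :
    ∃ t : ℝ, indFun (rotGroup a k) (lift ρ offInd) g = (t : ℂ) ∧ t ≤ 2 ∧
      (¬ 4 ∣ orderOf g → t = 0) := by
  have hoff : ∀ u : ℂˣ, u ^ 2 = 1 → offInd u = 0 := fun u hu => if_pos hu
  by_cases hconj : ∃ x : G, x⁻¹ * g * x ∈ rotGroup a k
  · obtain ⟨x, hx⟩ := hconj
    set u := ρ ⟨_, hx⟩
    refine ⟨(if u ^ 2 = 1 then 0 else 1) + (if (u ^ sdExp k) ^ 2 = 1 then 0 else 1), ?_, ?_, fun h4 => ?_⟩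
    · have e := h.indFun_lift_apply r hoff ⟨_, hx⟩
      have hcl := indFun_isClassFunction (rotGroup a k) (lift ρ offInd) g x⁻¹
      rw [inv_inv] at hcl
      rw [← hcl, e, offInd, offInd]
      split_ifs <;> simp
    · split_ifs <;> norm_num
    · have hu : u ^ 2 = 1 := by
        by_contra hne
        refine h4 ?_
        have := h.four_dvd_orderOf r hne
        have e : orderOf (x⁻¹ * g * x) = orderOf g := by
          rw [show x⁻¹ * g * x = MulAut.conj x⁻¹ g by simp, MulEquiv.orderOf_eq]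
        exact e ▸ this
      rw [if_pos hu, if_pos (by rw [← pow_mul, mul_comm, pow_mul, hu, one_pow]), add_zero]
  · push Not at hconj
    refine ⟨0, ?_, by norm_num, fun _ => rfl⟩
    rw [indFun_def, Finset.sum_eq_zero fun x _ => extendByZero_apply_notMem _ _ (hconj x), mul_zero,
      Complex.ofReal_zero]

/-- The masses on the sections of `z` and on the rotations sum to less than one. -/
theorem mass_lt (h : Config S a b z k) (r : RotChar a k ρ) {M : Ideal AlgInt} (hM : IsPModular 2 M)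
    {χ : IrrCharacter G} (hχ : χ ∈ principalBlock M G) :
    (Nat.card (centralizer ({z} : Set G)) : ℝ)⁻¹ *
        (∑ y ∈ (Finset.univ : Finset (centralizer ({z} : Set G))).filter
            (fun y : centralizer ({z} : Set G) => Odd (orderOf (y : G))),
          Complex.normSq ((χ : G → ℂ) (z * (y : G))))
      + 2⁻¹ * ∑ m ∈ evens k, Complex.normSq (four' ρ (χ : G → ℂ) m) < 1 := by
  set C := centralizer ({z} : Set G) with hC
  set f : G → ℂ := fun g => (Complex.normSq ((χ : G → ℂ) g) : ℂ) with hf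
  have hfc : IsClassFunction G f := fun g y => by simp only [hf, Blocks.irr_conj_apply]
  choose t ht using h.indFun_sect
  choose s hs using h.indFun_off r
  have ht1 : ∀ g, indFun C (sectInd z) g = (t g : ℂ) := fun g => (ht g).1
  have hs1 : ∀ g, indFun (rotGroup a k) (lift ρ offInd) g = (s g : ℂ) := fun g => (hs g).1
  have hG : (Nat.card G : ℝ) ≠ 0 := Nat.cast_ne_zero.2 Nat.card_pos.ne'
  have htot : ∑ g : G, Complex.normSq ((χ : G → ℂ) g) = Nat.card G := by
    have := classInner_irr_self χ.2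
    rw [Cfsg.classInner, inv_mul_eq_iff_eq_mul₀ Char.card_ne_zero, mul_one] at this
    simp only [Complex.mul_conj] at this
    exact_mod_cast this
  have hzC : z ∈ C := mem_centralizer_singleton_iff.2 rfl
  have hZ : (Nat.card G : ℝ)⁻¹ * ∑ g : G, t g * Complex.normSq ((χ : G → ℂ) g) =
      (Nat.card C : ℝ)⁻¹ * ∑ y ∈ (Finset.univ : Finset C).filter (fun y : C => Odd (orderOf (y : G))),
        Complex.normSq ((χ : G → ℂ) (z * (y : G))) := by
    have e := classInner_indFun C (sectInd z) hfc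
    rw [Cfsg.classInner, Cfsg.classInner] at e
    simp only [ht1, hf, Complex.conj_ofReal] at e
    have e' : ∑ x : C, sectInd z x * (Complex.normSq ((χ : G → ℂ) (x : G)) : ℂ) =
        ((∑ y ∈ (Finset.univ : Finset C).filter (fun y : C => Odd (orderOf (y : G))),
          Complex.normSq ((χ : G → ℂ) (z * (y : G))) : ℝ) : ℂ) := by
      rw [Finset.sum_filter, Complex.ofReal_sum]
      refine Fintype.sum_equiv (Equiv.mulLeft (⟨z, hzC⟩ : C)) _ _ fun x => ?_
      rw [sectInd]
      show _ = ((if Odd (orderOf (z * (x : G))) then _ else _ : ℝ) : ℂ)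
      simp only [Equiv.coe_mulLeft, Subgroup.coe_mul, ← mul_assoc, h.z_sq, one_mul]
      split_ifs <;> simp
    rw [e'] at e
    apply Complex.ofReal_injective
    push_cast at e ⊢
    exact e
  have hR : (Nat.card G : ℝ)⁻¹ * ∑ g : G, s g * Complex.normSq ((χ : G → ℂ) g) =
      ((2 : ℝ) ^ k)⁻¹ * ∑ j ∈ Finset.range (2 ^ k), Complex.normSq (rotVal ρ (χ : G → ℂ) j) := by
    have e := classInner_indFun (rotGroup a k) (lift ρ offInd) hfc
    rw [Cfsg.classInner, Cfsg.classInner] at e
    simp only [hs1, hf, Complex.conj_ofReal] at e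
    set V : ℂˣ → ℂ := fun u => if hu : ∃ j, j < 2 ^ k ∧ u = root ρ ^ j then
      (Complex.normSq (rotVal ρ (χ : G → ℂ) hu.choose) : ℂ) else 0 with hV
    have hVj : ∀ j, j < 2 ^ k → V (root ρ ^ j) = (Complex.normSq (rotVal ρ (χ : G → ℂ) j) : ℂ) := by
      intro j hj
      have hu : ∃ i, i < 2 ^ k ∧ root ρ ^ j = root ρ ^ i := ⟨j, hj, rfl⟩
      simp only [hV, dif_pos hu]
      obtain ⟨h1, h2⟩ := hu.choose_spec
      rw [← pow_injOn_Iio_orderOf (x := root ρ) (Set.mem_Iio.2 (by rw [r.root_ord]; exact hj))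
        (Set.mem_Iio.2 (by rw [r.root_ord]; exact h1)) h2]
    have hx : ∀ x : rotGroup a k,
        lift ρ offInd x * (Complex.normSq ((χ : G → ℂ) (x : G)) : ℂ) = V (ρ x) := by
      intro x
      obtain ⟨j, hj, e0⟩ := r.exists_pow x
      rw [e0, show ρ ⟨a, a_mem_rot⟩ ^ j = root ρ ^ j from rfl, hVj j hj, lift, offInd, rotVal]
      have e1 : ρ x = root ρ ^ j := e0
      rw [e1]
      by_cases hq : (root ρ ^ j) ^ 2 = 1
      · rw [if_pos hq, if_pos hq, zero_mul, Complex.normSq_zero, Complex.ofReal_zero]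
      · rw [if_neg hq, if_neg hq, one_mul, h.apply_eq r hM hχ (by rw [e1]; exact hq) e0,
          Complex.normSq_conj]
    rw [Finset.sum_congr rfl fun x _ => hx x, sum_lift r V, card_rot r,
      show ρ ⟨a, a_mem_rot⟩ = root ρ from rfl, Finset.sum_congr rfl fun j hj => hVj j (Finset.mem_range.1 hj)] at e
    apply Complex.ofReal_injective
    push_cast at e ⊢
    rw [e]
    have hK : (Nat.card ρ.ker : ℂ) ≠ 0 := Nat.cast_ne_zero.2 Nat.card_pos.ne'
    field_simp
  have hle := evens_le_parseval r (χ : G → ℂ)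
  rw [← hR] at hle
  rw [← hZ]
  refine lt_of_le_of_lt (add_le_add le_rfl (mul_le_mul_of_nonneg_left hle (by norm_num))) ?_
  rw [show (Nat.card G : ℝ)⁻¹ * ∑ g : G, t g * Complex.normSq ((χ : G → ℂ) g) +
      2⁻¹ * ((Nat.card G : ℝ)⁻¹ * ∑ g : G, s g * Complex.normSq ((χ : G → ℂ) g)) =
      (Nat.card G : ℝ)⁻¹ * ∑ g : G, (t g + 2⁻¹ * s g) * Complex.normSq ((χ : G → ℂ) g) by
    simp only [Finset.mul_sum, ← Finset.sum_add_distrib]
    exact Finset.sum_congr rfl fun g _ => by ring]
  rw [inv_mul_lt_iff₀ (Nat.cast_pos.2 Nat.card_pos), mul_one, ← htot,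
    ← Finset.add_sum_erase _ _ (Finset.mem_univ (1 : G)),
    ← Finset.add_sum_erase _ (fun g => Complex.normSq ((χ : G → ℂ) g)) (Finset.mem_univ (1 : G))]
  refine add_lt_add_of_lt_of_le ?_ (Finset.sum_le_sum fun g hg => ?_)
  · have h0 : t 1 = 0 := by_contra fun h0 => ((ht 1).2.2.2 h0).2 rfl
    rw [h0, (hs 1).2.2 (by rw [orderOf_one]; norm_num)]
    simp only [mul_zero, add_zero, zero_mul]
    exact Complex.normSq_pos.2 (Blocks.irr_one_ne_zero χ)
  · refine mul_le_of_le_one_left (Complex.normSq_nonneg _) ?_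
    by_cases h0 : t g = 0
    · rw [h0]
      linarith [(hs g).2.1]
    · rw [(hs g).2.2 ((ht g).2.2.2 h0).1]
      linarith [(ht g).2.2.1]

end Config

end CfsgLib.SDBlock
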