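import Cfsg.Agent.Lib.SDBlock.Basic
import Cfsg.Agent.Lib.Involution.InvolutionCentralizerQW

/-!
# The configuration of a group with semidihedral Sylow 2-subgroups and no subgroup of index two

All involutions and all elements of order four are fused (Alperin–Brauer–Gorenstein).
-/

set_option autoImplicit false
set_option linter.style.haveILetI false

namespace CfsgLib.SDBlock

open CfsgLib.Involution

variable {G : Type*} [Group G] [Finite G]

/-- A semidihedral Sylow 2-subgroup of a group without subgroups of index two gives a `Config`. -/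
theorem exists_config (S : Sylow 2 G) (hS : Cfsg.IsQuasiDihedral (S : Subgroup G))
    (hG : ∀ K : Subgroup G, K.index ≠ 2) : ∃ a b z k, Config S a b z k := by
  obtain ⟨K, x, y, h, -⟩ := QuasiDihedral.exists_gen hS
  obtain ⟨hF, hF'⟩ := CentralizerQW.qd_fused h hG
  obtain ⟨e, he⟩ := h.kpow
  have h1 : 2 ^ (e + 3 - 1) = 4 * K := by
    rw [he, show e + 3 - 1 = e + 2 by omega, pow_add]; ring
  have h2 : 2 ^ (e + 3 - 2) = 2 * K := by
    rw [he, show e + 3 - 2 = e + 1 by omega, pow_add]; ring
  have hK := QuasiDihedral.pos h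
  have hexp : ((4 * K - 1 : ℕ) : ℤ) = 4 * (K : ℤ) - 1 := by
    rw [Nat.cast_sub (by omega)]; push_cast; ring
  have hz : (x : G) ^ (4 * K) = QDFusion.cz x K := by
    rw [QDFusion.cz, SubgroupClass.coe_zpow, ← zpow_natCast]
    push_cast; rfl
  have hri : (x : G) ^ (2 * K) = QDFusion.ri x K := by
    rw [QDFusion.ri, SubgroupClass.coe_zpow, ← zpow_natCast]
    push_cast; rfl
  refine ⟨x, y, (x : G) ^ (4 * K), e + 3, ?_⟩
  constructor
  · omega
  · rw [h.card, he, pow_add, pow_add]; ring
  · exact x.2
  · exact y.2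
  · rw [Subgroup.orderOf_coe, h.ord, he, pow_add]; ring
  · exact congrArg Subtype.val (QuasiDihedral.yy h)
  · intro hy
    obtain ⟨j, hj⟩ := Subgroup.mem_zpowers_iff.1 hy
    exact QuasiDihedral.y_not_mem h ⟨j, Subtype.ext (by simpa using hj)⟩
  · rw [h1]
    have hc := congrArg Subtype.val h.conj
    rw [Subgroup.coe_mul, Subgroup.coe_mul, Subgroup.coe_inv, SubgroupClass.coe_zpow] at hc
    rw [hc, ← zpow_natCast, hexp]
  · rw [h1]
  · rw [hz]
    have : QDFusion.rf x y 0 = (y : G) := by rw [QDFusion.rf, zpow_zero, one_mul]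
    rw [← this]
    exact hF.symm
  · rw [h2, hri]
    refine hF'.symm.trans ?_
    have hyx : (y : G) * (x : G) = QDFusion.rf x y (4 * (K : ℤ) - 1) := by
      have hc := QuasiDihedral.y_mul h 1
      rw [zpow_one, mul_one] at hc
      exact congrArg Subtype.val hc
    rw [hyx]
    exact QDFusion.rf_isConj h ⟨2 * (K : ℤ) - 1, by ring⟩

end CfsgLib.SDBlock
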