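import Cfsg.Agent.Lib.SDBlock.Bessel
import Cfsg.Agent.Lib.SDBlock.Central

/-!
# Integral coordinates on the section of `z`

A character of the principal block is `α + β σ` on the section of `z` with integers `α`, `β`; the
Bessel inequality and a congruence restrict them.
-/

set_option autoImplicit false
set_option linter.unusedSectionVars false

namespace CfsgLib.SDBlock

open Cfsg Subgroup CfsgLib.Char CfsgLib.BrauerSuzuki
open scoped Classical ComplexConjugate

variable {G : Type*} [Group G] [Fintype G] {a : G} {k : ℕ} {ρ : rotGroup a k →* ℂˣ}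
variable {S : Sylow 2 G} {b z : G} {σ : centralizer ({z} : Set G) → ℂ} {Q : ℤ}

namespace Config

/-- The restriction to a subgroup extended by a commuting involution. -/
theorem exists_int_sum (h : Config S a b z k) {χ : G → ℂ} (hχ : Cfsg.IsCharacter G χ) (H : Subgroup G)
    (hH : ∀ x ∈ H, Commute x z) :
    ∃ n : ℤ, ∑ x : H, (χ (x : G) + χ (z * (x : G))) = 2 * (Nat.card H : ℂ) * n := by
  let φ : H × zpowers z →* G := MonoidHom.noncommCoprod H.subtype (zpowers z).subtype fun x y => by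
    obtain ⟨i, hi⟩ := mem_zpowers_iff.1 y.2
    show Commute (x : G) (y : G)
    rw [← hi]
    exact (hH x x.2).zpow_right i
  have hφ : ∀ (x : H) (y : zpowers z), φ (x, y) = (x : G) * (y : G) := fun x y => rfl
  obtain ⟨n, hn⟩ := IsCharacter.classInner_nat (IsCharacter.comp hχ φ)
    (isCharacter_one (G := H × zpowers z))
  refine ⟨n, ?_⟩
  rw [Cfsg.classInner, inv_mul_eq_iff_eq_mul₀ Char.card_ne_zero] at hn
  simp only [map_one, mul_one, Function.comp_apply] at hn
  rw [Nat.card_prod, Nat.card_zpowers, h.orderOf_z, Fintype.sum_prod_type] at hn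
  have huniv : (Finset.univ : Finset (zpowers z)) = {1, ⟨z, mem_zpowers z⟩} := by
    refine (Finset.eq_univ_of_card _ ?_).symm
    rw [Finset.card_pair, ← Nat.card_eq_fintype_card, Nat.card_zpowers, h.orderOf_z]
    exact fun e => h.z_ne_one (congrArg Subtype.val e).symm
  rw [Finset.sum_congr rfl (g := fun x : H => χ (x : G) + χ (z * (x : G))) fun x _ => by
    rw [huniv, Finset.sum_pair fun e => h.z_ne_one (congrArg Subtype.val e).symm, hφ, hφ,
      OneMemClass.coe_one, mul_one, (hH x x.2).eq]] at hn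
  rw [hn]
  push_cast
  ring

/-- The value at `z` is an integer. -/
theorem exists_int_z (h : Config S a b z k) (χ : IrrCharacter G) : ∃ n : ℤ, (χ : G → ℂ) z = n := by
  obtain ⟨n, hn⟩ := h.exists_int_sum (isCharacter_irr χ) (zpowers (1 : G)) fun x hx => by
    obtain ⟨i, rfl⟩ := mem_zpowers_iff.1 hx
    rw [one_zpow]; exact Commute.one_left z
  refine ⟨2 * n - (charDegree (χ : G → ℂ) : ℤ), ?_⟩
  haveI : Subsingleton (zpowers (1 : G)) := ⟨fun x y => Subtype.ext (by
    obtain ⟨i, hi⟩ := mem_zpowers_iff.1 x.2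
    obtain ⟨j, hj⟩ := mem_zpowers_iff.1 y.2
    rw [← hi, ← hj, one_zpow, one_zpow])⟩
  rw [Fintype.sum_subsingleton _ (1 : zpowers (1 : G)), Nat.card_zpowers, orderOf_one, Nat.cast_one,
    mul_one, OneMemClass.coe_one, mul_one,
    Blocks.irr_one_eq] at hn
  push_cast
  linear_combination hn

theorem b_z_isConj (h : Config S a b z k) : IsConj z (z * b) := by
  refine h.b_conj.trans (isConj_iff.2 ⟨four a k, ?_⟩)
  have e1 : b * four a k = (four a k)⁻¹ * b := mul_inv_eq_iff_eq_mul.1 h.conj_four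
  rw [← h.four_sq, mul_inv_eq_iff_eq_mul, mul_assoc, mul_assoc, e1, mul_inv_cancel_left]

/-- The degree modulo four. -/
theorem four_dvd_degree (h : Config S a b z k) (χ : IrrCharacter G) {n : ℤ}
    (hn : (χ : G → ℂ) z = n) : (4 : ℤ) ∣ (charDegree (χ : G → ℂ) : ℤ) + 3 * n := by
  obtain ⟨m, hm⟩ := h.exists_int_sum (isCharacter_irr χ) (zpowers b) fun x hx => by
    obtain ⟨i, rfl⟩ := mem_zpowers_iff.1 hx
    exact h.z_comm_b.symm.zpow_left i
  refine ⟨m, ?_⟩
  have hne : (1 : zpowers b) ≠ ⟨b, mem_zpowers b⟩ := fun e =>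
    h.b_notMem (by rw [show b = 1 from (congrArg Subtype.val e).symm]; exact one_mem _)
  have huniv : (Finset.univ : Finset (zpowers b)) = {1, ⟨b, mem_zpowers b⟩} := by
    refine (Finset.eq_univ_of_card _ ?_).symm
    rw [Finset.card_pair hne, ← Nat.card_eq_fintype_card, Nat.card_zpowers, h.orderOf_b]
  rw [huniv, Finset.sum_pair hne, Nat.card_zpowers, h.orderOf_b, OneMemClass.coe_one, mul_one] at hm
  have hcl := IsIrrCharacter.isClassFunction χ.2
  rw [← IsClassFunction.apply_eq_of_isConj hcl h.b_conj,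
    ← IsClassFunction.apply_eq_of_isConj hcl h.b_z_isConj, hn, Blocks.irr_one_eq] at hm
  apply Int.cast_injective (α := ℂ)
  push_cast at hm ⊢
  linear_combination hm

/-- The coordinates are integers. -/
theorem exists_coords (h : Config S a b z k) (l : Line z b σ Q) {M : Ideal AlgInt}
    (hM : IsPModular 2 M) {χ : IrrCharacter G} (hχ : χ ∈ principalBlock M G) :
    ∃ α β : ℤ, (χ : G → ℂ) z = ((α + β * Q : ℤ) : ℂ) ∧
      ∀ y : centralizer ({z} : Set G), Odd (orderOf (y : G)) →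
        (χ : G → ℂ) (z * (y : G)) = (α : ℂ) + (β : ℂ) * σ y := by
  obtain ⟨A, B, hAB⟩ := h.exists_section_coeff l hM hχ
  obtain ⟨n, hn⟩ := h.exists_int_z χ
  obtain ⟨x₀, -, hx₀, hx₀'⟩ := h.exists_reg l
  have hA : IsIntegral ℤ A := by
    have e := hAB x₀ hx₀
    rw [hx₀', mul_zero, add_zero] at e
    exact e ▸ Blocks.irr_isIntegral χ _
  have hz : (n : ℂ) = A + B * Q := by
    have e := hAB 1 (by simp)
    rwa [OneMemClass.coe_one, mul_one, hn, l.one] at e
  obtain ⟨P, P₀, hle, hodd, hcard, hP₀, hP1⟩ := l.reg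
  set P' := P.map (centralizer ({z} : Set G)).subtype
  have hcom : ∀ x ∈ P', Commute x z := by
    rintro _ ⟨x, -, rfl⟩
    exact (h.z_comm x).symm
  obtain ⟨m₁, hm₁⟩ := h.exists_int_sum (isCharacter_irr χ) P' hcom
  obtain ⟨m₂, hm₂⟩ := IsCharacter.classInner_nat (IsCharacter.restrict (isCharacter_irr χ) P')
    (isCharacter_one (G := P'))
  rw [Cfsg.classInner, inv_mul_eq_iff_eq_mul₀ Char.card_ne_zero] at hm₂
  simp only [map_one, mul_one] at hm₂
  rw [Finset.sum_add_distrib, hm₂] at hm₁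
  have hc' : Nat.card P' = Nat.card P := card_map_of_injective (Subgroup.subtype_injective _)
  have hsum : ∑ x : P', (χ : G → ℂ) (z * (x : G))
      = (Nat.card P : ℂ) * A + B * ((Nat.card P₀ : ℂ) * Q) := by
    refine (Fintype.sum_equiv (P.equivMapOfInjective _ (Subgroup.subtype_injective _)).toEquiv
      (fun x : P => (χ : G → ℂ) (z * ((x : centralizer ({z} : Set G)) : G))) _ fun x => rfl).symm.trans ?_
    rw [Finset.sum_congr rfl fun (x : P) _ => hAB x (by
        rw [Subgroup.orderOf_coe, Subgroup.orderOf_coe]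
        exact hodd.of_dvd_nat (orderOf_dvd_natCard _)),
      Finset.sum_add_distrib, Finset.sum_const, nsmul_eq_mul, Finset.card_univ,
      ← Nat.card_eq_fintype_card, ← Finset.mul_sum]
    congr 2
    rw [Finset.sum_congr rfl (g := fun x : P => if (x : centralizer ({z} : Set G)) ∈ P₀ then (Q : ℂ) else 0)
      fun x _ => by
        split_ifs with hx
        exacts [hP₀ _ hx, hP1 _ x.2 hx],
      ← Finset.sum_filter, Finset.sum_const, nsmul_eq_mul]
    congr 2
    rw [Nat.card_congr (subgroupOfEquivOfLe hle).toEquiv.symm, Nat.card_eq_fintype_card,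
      Fintype.card_subtype]
    exact congrArg Finset.card (Finset.filter_congr fun x _ => Iff.rfl)
  rw [hsum, hc'] at hm₁
  set j : ℤ := 2 * m₁ - m₂
  obtain ⟨sQ, hsQ, hQ⟩ : ∃ sQ : ℤ, sQ * sQ = 1 ∧ (Q.natAbs : ℤ) = sQ * Q := by
    rcases Int.natAbs_eq Q with e | e
    · exact ⟨1, rfl, by omega⟩
    · exact ⟨-1, rfl, by omega⟩
  have hQC : (Q.natAbs : ℂ) = (sQ : ℂ) * Q := by rw [← Int.cast_natCast, hQ, Int.cast_mul]
  have hsC : (sQ : ℂ) * sQ = 1 := by exact_mod_cast hsQ
  have hQ3 := l.three_le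
  have hQ0 : (Q : ℂ) ≠ 0 := Int.cast_ne_zero.2 (by omega)
  have hP0 : (Nat.card P₀ : ℂ) ≠ 0 := Nat.cast_ne_zero.2 Nat.card_pos.ne'
  have hcC : (Nat.card P : ℂ) = (sQ : ℂ) * Q * Nat.card P₀ := by
    rw [hcard, Nat.cast_mul, hQC]
  have hB : B = (sQ : ℂ) * ((j : ℂ) - A) := by
    rw [hcC] at hm₁
    apply mul_left_cancel₀ hQ0
    apply mul_left_cancel₀ hP0
    simp only [j]
    push_cast
    linear_combination hm₁
  have hA' : A * (1 - (sQ : ℂ) * Q) = (n : ℂ) - (sQ : ℂ) * Q * j := by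
    rw [hz, hB]; ring
  have hne : (1 : ℂ) - (sQ : ℂ) * Q ≠ 0 := by
    rw [← hQC, sub_ne_zero]; exact_mod_cast (show 1 ≠ Q.natAbs by omega)
  obtain ⟨α, rfl⟩ := exists_int_of_isIntegral_rat hA
    (q := ((n - sQ * Q * j : ℤ) : ℚ) / ((1 - sQ * Q : ℤ) : ℚ)) (by
      push_cast
      rw [eq_div_iff hne, hA'])
  refine ⟨α, sQ * (j - α), ?_, fun y hy => ?_⟩
  · rw [hn, hz, hB]; push_cast; ring
  · rw [hAB y hy, hB]; push_cast; ring

/-- The coordinates are determined by the values at `z` and at an element where `σ` vanishes. -/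
theorem coords_unique (h : Config S a b z k) (l : Line z b σ Q) {α β α' β' : ℤ}
    (he : ∀ y : centralizer ({z} : Set G), Odd (orderOf (y : G)) →
      (α : ℂ) + (β : ℂ) * σ y = (α' : ℂ) + (β' : ℂ) * σ y) : α = α' ∧ β = β' := by
  obtain ⟨x₀, -, hx₀, hx₀'⟩ := h.exists_reg l
  have e1 := he x₀ hx₀
  rw [hx₀', mul_zero, mul_zero, add_zero, add_zero, Int.cast_inj] at e1
  have e2 := he 1 (by simp)
  rw [e1, l.one, add_left_cancel_iff] at e2
  have hQ : Q ≠ 0 := by have := l.three_le; omega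
  exact ⟨e1, Int.cast_injective (mul_right_cancel₀ (Int.cast_ne_zero.2 hQ) e2)⟩

/-- The congruence for `Q`. -/
theorem dvd_Q_add_one (h : Config S a b z k) (l : Line z b σ Q) :
    ((2 ^ (k - 1) : ℕ) : ℤ) ∣ Q + 1 ∧ Q % 4 = 3 := by
  obtain ⟨e, he, hirr⟩ := l.irr
  obtain ⟨e1, e2, e3⟩ := h.pow_eq
  set a' : centralizer ({z} : Set G) := ⟨a, h.a_mem_C⟩
  have ha' : orderOf a' = 2 ^ k := by rw [Subgroup.orderOf_mk, h.ord_a]
  obtain ⟨n, hn⟩ := IsCharacter.classInner_nat
    (IsCharacter.restrict (IsIrrCharacter.isCharacter hirr) (zpowers a'))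
    (isCharacter_one (G := zpowers a'))
  rw [Cfsg.classInner, inv_mul_eq_iff_eq_mul₀ Char.card_ne_zero] at hn
  simp only [map_one, mul_one] at hn
  rw [Nat.card_zpowers, ha', ← Finset.mul_sum] at hn
  set z' : zpowers a' := ⟨a' ^ 2 ^ (k - 1), pow_mem (mem_zpowers a') _⟩
  have hz' : ((z' : centralizer ({z} : Set G)) : G) = z := h.z_eq.symm
  have hne : (1 : zpowers a') ≠ z' := fun e' => h.z_ne_one (by rw [← hz', ← e']; rfl)
  have hsplit : ∑ x : zpowers a', σ (x : centralizer ({z} : Set G))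
      = ∑ x : zpowers a', ((-1 : ℂ) + if x ∈ ({1, z'} : Finset (zpowers a')) then (Q : ℂ) + 1 else 0) := by
    refine Finset.sum_congr rfl fun x _ => ?_
    by_cases hx : x ∈ ({1, z'} : Finset (zpowers a'))
    · rw [if_pos hx]
      simp only [Finset.mem_insert, Finset.mem_singleton] at hx
      rcases hx with rfl | rfl
      · rw [OneMemClass.coe_one, l.one]; ring
      · rw [l.central _ 1 (by rw [hz', OneMemClass.coe_one, mul_one]), l.one]; ring
    · rw [if_neg hx, add_zero]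
      refine l.rot _ ?_
      have hd : orderOf x ∣ 2 ^ k := by
        have := _root_.orderOf_dvd_natCard x
        rwa [Nat.card_zpowers, ha'] at this
      obtain ⟨i, -, hi⟩ := (Nat.dvd_prime_pow Nat.prime_two).1 hd
      rw [Subgroup.orderOf_coe, Subgroup.orderOf_coe, hi]
      by_contra h4
      have hxx : x * x = 1 := by
        have := pow_two_of_orderOf (x := ((x : centralizer ({z} : Set G)) : G)) (i := i)
          (by rw [Subgroup.orderOf_coe, Subgroup.orderOf_coe, hi])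
          (by rw [Subgroup.orderOf_coe, Subgroup.orderOf_coe, hi]; exact h4)
        exact Subtype.ext (Subtype.ext this)
      obtain ⟨j, hj⟩ := mem_zpowers_iff.1 x.2
      have hj' : ((x : centralizer ({z} : Set G)) : G) = a ^ j := by
        rw [← hj, SubgroupClass.coe_zpow]
      have := congrArg (fun u : zpowers a' => ((u : centralizer ({z} : Set G)) : G)) hxx
      simp only [Subgroup.coe_mul, hj', OneMemClass.coe_one] at this
      refine hx ?_
      simp only [Finset.mem_insert, Finset.mem_singleton]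
      rcases h.sq_zpow this with e' | e'
      · exact Or.inl (Subtype.ext (Subtype.ext (hj'.trans e')))
      · exact Or.inr (Subtype.ext (Subtype.ext ((hj'.trans e').trans hz'.symm)))
  rw [hsplit, Finset.sum_add_distrib, Finset.sum_const, Finset.sum_ite_mem, Finset.univ_inter,
    Finset.sum_pair hne, Finset.card_univ, ← Nat.card_eq_fintype_card, Nat.card_zpowers, ha',
    nsmul_eq_mul] at hn
  have key : e * (-((2 ^ k : ℕ) : ℤ) + 2 * (Q + 1)) = ((2 ^ k : ℕ) : ℤ) * n := by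
    apply Int.cast_injective (α := ℂ)
    push_cast at hn ⊢
    linear_combination hn
  have h1 : ((2 ^ (k - 1) : ℕ) : ℤ) ∣ Q + 1 := by
    refine ⟨e * n + 1, ?_⟩
    have hee : e * e = 1 := by rcases he with rfl | rfl <;> rfl
    rw [e1] at key
    push_cast at key ⊢
    have key2 : e * (Q + 1 - (2 : ℤ) ^ (k - 1)) = (2 : ℤ) ^ (k - 1) * n :=
      mul_left_cancel₀ two_ne_zero (by linear_combination key)
    linear_combination e * key2 - (Q + 1 - (2 : ℤ) ^ (k - 1)) * hee
  refine ⟨h1, ?_⟩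
  have h4 : (4 : ℤ) ∣ Q + 1 := (Int.natCast_dvd_natCast.2 (show 4 ∣ 2 ^ (k - 1) by
    rw [show (4 : ℕ) = 2 ^ 2 from rfl]; exact pow_dvd_pow 2 (by have := h.three_le; omega))).trans h1
  omega

theorem mem_block_of_coeff (h : Config S a b z k) (r : RotChar a k ρ) {M : Ideal AlgInt}
    (hM : IsPModular 2 M) {χ : IrrCharacter G} {m : ℕ} (hm : m % 2 = 0)
    (hc : coeff (theta ρ m) χ ≠ 0) : χ ∈ principalBlock M G := by
  by_contra hn
  refine hc (Int.cast_injective (α := ℂ) ?_)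
  rw [cast_coeff (theta_gen m), Int.cast_zero, theta_eq_diff,
    h.inner_irr_eq_zero r hM hn (by rw [hm])]

/-- The Bessel inequality in coordinates. -/
theorem bound_coords (h : Config S a b z k) (r : RotChar a k ρ) (l : Line z b σ Q) {M : Ideal AlgInt}
    (hM : IsPModular 2 M) {χ : IrrCharacter G} (hχ : χ ∈ principalBlock M G) {α β : ℤ}
    (hab : ∀ y : centralizer ({z} : Set G), Odd (orderOf (y : G)) →
      (χ : G → ℂ) (z * (y : G)) = (α : ℂ) + (β : ℂ) * σ y) :
    (2 : ℤ) ^ (k - 2) * (α + β) ^ 2 + (α - β) ^ 2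
      + 2 ^ k * (∑ m ∈ evens k, coeff (theta ρ m) χ ^ 2)
      - 2 * (∑ m ∈ evens k, coeff (theta ρ m) χ) ^ 2 < 2 ^ (k + 1) := by
  have hk : 1 ≤ k := by have := h.three_le; omega
  set T1 := ∑ m ∈ evens k, coeff (theta ρ m) χ
  set T2 := ∑ m ∈ evens k, coeff (theta ρ m) χ ^ 2
  set u : ℝ := (2 : ℝ) ^ (k - 1) with hu
  have hu0 : u ≠ 0 := pow_ne_zero _ two_ne_zero
  set c : ℝ := (Nat.card (centralizer ({z} : Set G)) : ℝ)
  have hc0 : c ≠ 0 := Nat.cast_ne_zero.2 Nat.card_pos.ne'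
  -- the rotations
  have hF : four' ρ (χ : G → ℂ) 0 = (((T1 : ℝ) / u : ℝ) : ℂ) := by
    have := h.four'_zero r hM hχ
    push_cast [T1, hu]
    rw [eq_div_iff (pow_ne_zero _ two_ne_zero), mul_comm, this]
  have hE : ∑ m ∈ evens k, Complex.normSq (four' ρ (χ : G → ℂ) m) = (T2 : ℝ) - (T1 : ℝ) ^ 2 / u := by
    rw [Finset.sum_congr rfl (g := fun m => ((T1 : ℝ) / u) ^ 2
      - 2 * ((T1 : ℝ) / u) * (coeff (theta ρ m) χ : ℝ) + ((coeff (theta ρ m) χ ^ 2 : ℤ) : ℝ)) fun m hm => by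
      rw [h.four'_eq_sub r hM hχ (Finset.mem_filter.1 hm).2, hF, ← Complex.ofReal_intCast,
        ← Complex.ofReal_sub, Complex.normSq_ofReal]
      push_cast; ring,
      Finset.sum_add_distrib, Finset.sum_sub_distrib, Finset.sum_const, ← Finset.mul_sum,
      nsmul_eq_mul, (card_evens hk).1, ← Int.cast_sum, ← Int.cast_sum]
    simp only [T1, T2, hu]
    push_cast
    field_simp
    ring
  -- the section of `z`
  have hZ : (2 : ℝ) ^ (k + 3) * ∑ y ∈ (Finset.univ : Finset (centralizer ({z} : Set G))).filter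
        (fun y : centralizer ({z} : Set G) => Odd (orderOf (y : G))),
      Complex.normSq ((χ : G → ℂ) (z * (y : G)))
      = ((2 : ℝ) ^ k * (α + β) ^ 2 + 4 * (α - β) ^ 2) * c := by
    apply Complex.ofReal_injective
    push_cast
    rw [Finset.sum_congr rfl (g := fun y : centralizer ({z} : Set G) =>
      (α : ℂ) ^ 2 * 1 + (α : ℂ) * β * σ y + (α : ℂ) * β * conj (σ y)
        + (β : ℂ) ^ 2 * (σ y * conj (σ y))) fun y hy => by
      rw [hab y (Finset.mem_filter.1 hy).2, ← Complex.mul_conj, map_add, map_mul, map_intCast, map_intCast]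
      ring]
    simp only [Finset.sum_add_distrib, ← Finset.mul_sum]
    have e1 := h.sum_odd_one (G := G)
    have e2 := h.sum_odd_line l
    have e3 := h.sum_odd_line_sq l
    have e4 := congrArg conj e2
    simp only [map_mul, map_pow, map_sub, map_sum, map_natCast, Complex.conj_ofNat] at e4
    simp only [c, Complex.ofReal_natCast]
    linear_combination (α : ℂ) ^ 2 * e1 + (α : ℂ) * β * e2 + (α : ℂ) * β * e4 + (β : ℂ) ^ 2 * e3
  have hm := h.mass_lt r hM hχ
  rw [hE] at hm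
  have hp : (2 : ℝ) ^ (k + 3) = 16 * u := by
    rw [hu, show k + 3 = (k - 1) + 4 by omega, pow_add]; ring
  have hpk : (2 : ℝ) ^ k = 2 * u := by rw [hu, ← pow_succ', Nat.sub_add_cancel hk]
  have hm' := mul_lt_mul_of_pos_left hm (show (0 : ℝ) < 2 ^ (k + 3) by positivity)
  rw [mul_add, mul_one, ← mul_assoc, mul_comm _ c⁻¹, mul_assoc, hZ, hp, hpk] at hm'
  have hfin : (2 : ℝ) * u * ((α : ℝ) + β) ^ 2 + 4 * ((α : ℝ) - β) ^ 2
      + 8 * u * (T2 : ℝ) - 8 * (T1 : ℝ) ^ 2 < 16 * u := by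
    calc _ = c⁻¹ * ((2 * u * ((α : ℝ) + β) ^ 2 + 4 * ((α : ℝ) - β) ^ 2) * c)
          + 16 * u * (2⁻¹ * ((T2 : ℝ) - (T1 : ℝ) ^ 2 / u)) := by field_simp; ring
      _ < _ := hm'
  have hI : (2 : ℤ) * 2 ^ (k - 1) * (α + β) ^ 2 + 4 * (α - β) ^ 2
      + 8 * 2 ^ (k - 1) * T2 - 8 * T1 ^ 2 < 16 * 2 ^ (k - 1) := by
    rw [hu] at hfin
    exact_mod_cast hfin
  have q1 : (2 : ℤ) ^ (k - 1) = 2 * 2 ^ (k - 2) := by
    rw [← pow_succ', show k - 2 + 1 = k - 1 by have := h.three_le; omega]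
  have q2 : (2 : ℤ) ^ k = 2 * 2 ^ (k - 1) := by rw [← pow_succ', Nat.sub_add_cancel hk]
  have q3 : (2 : ℤ) ^ (k + 1) = 2 * 2 ^ k := pow_succ' 2 k
  rw [q1] at hI q2
  rw [q3, q2]
  linarith

/-- The congruence for the value at `z`. -/
theorem congr_coords (h : Config S a b z k) (r : RotChar a k ρ) {M : Ideal AlgInt}
    (hM : IsPModular 2 M) {χ : IrrCharacter G} (hχ : χ ∈ principalBlock M G)
    (h0 : ∀ m, m % 2 = 1 → coeff (diff ρ 1 m) χ = 0) {n : ℤ} (hn : (χ : G → ℂ) z = n) :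
    ((2 ^ (k - 1) : ℕ) : ℤ) ∣ n + ∑ m ∈ evens k, coeff (theta ρ m) χ := by
  have hk : 1 ≤ k := by have := h.three_le; omega
  obtain ⟨n₀, hn₀⟩ := h.exists_int_rot r (χ := χ) 0
  obtain ⟨n₁, hn₁⟩ := h.exists_int_rot r (χ := χ) 1
  rw [h.four'_one r hM hχ h0] at hn₁
  have hF := h.four'_zero r hM hχ
  rw [hn, map_intCast] at hn₀ hn₁
  refine ⟨n₀ - n₁, ?_⟩
  apply Int.cast_injective (α := ℂ)
  have e1 : (2 : ℂ) ^ k = 2 * 2 ^ (k - 1) := by rw [← pow_succ', Nat.sub_add_cancel hk]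
  rw [e1] at hn₀ hn₁
  push_cast at hF ⊢
  linear_combination (hn₀ - hn₁) / 2 - hF

end Config

end CfsgLib.SDBlock
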