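import Cfsg.Agent.Lib.SDBlock.Theta
import Cfsg.Agent.Lib.Char.GLTwoThreeCentralizer
import Mathlib.Tactic.LinearCombination

/-!
# The exceptional characters of a semidihedral Sylow 2-subgroup

With `θ₀ = theta (2 ^ (k-2))` and `θₕ = theta (2 ^ (k-1))`: `θ₀ = 1 - X + E`, `θₕ = 1 - X + Y₁ + Y₂`
for signed irreducible characters, and the coefficients of all the other `theta m` and `diff` at
these characters.
-/

set_option autoImplicit false
set_option linter.unusedSectionVars false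

namespace CfsgLib.SDBlock

open Cfsg Subgroup CfsgLib.Char CfsgLib.BrauerSuzuki
open scoped Classical

/-- A sum of two functions supported by three points. -/
theorem sum_three {ι : Type*} [Fintype ι] {x y w : ι} (hxy : x ≠ y) (hxw : x ≠ w) (hyw : y ≠ w)
    (f : ι → ℤ) (hf : ∀ i, i ≠ x → i ≠ y → i ≠ w → f i = 0) : ∑ i, f i = f x + f y + f w := by
  rw [← Finset.sum_subset (Finset.subset_univ ({x, y, w} : Finset ι)) fun i _ hi => by
    simp only [Finset.mem_insert, Finset.mem_singleton, not_or] at hi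
    exact hf i hi.1 hi.2.1 hi.2.2]
  rw [Finset.sum_insert (by simp [hxy, hxw]), Finset.sum_insert (by simp [hyw]), Finset.sum_singleton,
    add_assoc]

/-- Norm three with a given coefficient one. -/
theorem norm_three {ι : Type*} [Fintype ι] {z : ι → ℤ} {t : ι} (ht : z t = 1)
    (h : ∑ i, z i * z i = 3) : ∃ x e, x ≠ e ∧ t ≠ x ∧ t ≠ e ∧ (z x = 1 ∨ z x = -1) ∧
      (z e = 1 ∨ z e = -1) ∧ ∀ i, i ≠ t → i ≠ x → i ≠ e → z i = 0 := by
  obtain ⟨x, e, hxe, hx, he, h0⟩ := exists_two (fun i => if i = t then 0 else z i) (by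
    rw [← Finset.add_sum_erase _ _ (Finset.mem_univ t)] at h ⊢
    simp only [↓reduceIte, mul_zero, zero_add]
    rw [ht] at h
    rw [Finset.sum_congr rfl fun i hi => by rw [if_neg (Finset.ne_of_mem_erase hi)]]
    omega)
  have hxt : t ≠ x := fun e' => by simp [← e'] at hx
  have het : t ≠ e := fun e' => by simp [← e'] at he
  simp only [if_neg hxt.symm, if_neg het.symm] at hx he
  exact ⟨x, e, hxe, hxt, het, hx, he, fun i hit hix hie => by simpa [if_neg hit] using h0 i hix hie⟩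

variable {G : Type*} [Group G] [Fintype G] {a : G} {k : ℕ} {ρ : rotGroup a k →* ℂˣ}

/-- The signed characters and their coefficients. -/
structure Family (a : G) (k : ℕ) (ρ : rotGroup a k →* ℂˣ) (X E Y₁ Y₂ : IrrCharacter G)
    (sx se s₁ s₂ : ℤ) : Prop where
  sx_sq : sx = 1 ∨ sx = -1
  se_sq : se = 1 ∨ se = -1
  s₁_sq : s₁ = 1 ∨ s₁ = -1
  s₂_sq : s₂ = 1 ∨ s₂ = -1
  nodup : X ≠ Blocks.trivChar G ∧ E ≠ Blocks.trivChar G ∧ Y₁ ≠ Blocks.trivChar G ∧
    Y₂ ≠ Blocks.trivChar G ∧ X ≠ E ∧ X ≠ Y₁ ∧ X ≠ Y₂ ∧ E ≠ Y₁ ∧ E ≠ Y₂ ∧ Y₁ ≠ Y₂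
  quarter : ∀ g : G, theta ρ (2 ^ (k - 2)) g
      = 1 - (sx : ℂ) * (X : G → ℂ) g + (se : ℂ) * (E : G → ℂ) g
  half : ∀ g : G, theta ρ (2 ^ (k - 1)) g
      = 1 - (sx : ℂ) * (X : G → ℂ) g + (s₁ : ℂ) * (Y₁ : G → ℂ) g + (s₂ : ℂ) * (Y₂ : G → ℂ) g
  at_X : ∀ m, m % 2 = 0 → 0 < m → m < 2 ^ k → coeff (theta ρ m) X = -sx
  at_E : ∀ m, m % 2 = 0 → 0 < m → m < 2 ^ k → m ≠ 2 ^ (k - 2) → m ≠ 3 * 2 ^ (k - 2) →
    coeff (theta ρ m) E = 0
  at_E₀ : ∀ m, (m = 2 ^ (k - 2) ∨ m = 3 * 2 ^ (k - 2)) → coeff (theta ρ m) E = se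
  at_Y : ∀ m, m % 2 = 0 → 0 < m → m < 2 ^ k → m ≠ 2 ^ (k - 1) →
    coeff (theta ρ m) Y₁ = 0 ∧ coeff (theta ρ m) Y₂ = 0
  at_Y₀ : coeff (theta ρ (2 ^ (k - 1))) Y₁ = s₁ ∧ coeff (theta ρ (2 ^ (k - 1))) Y₂ = s₂
  diff_XE : ∀ m m', m % 2 = 1 → m' % 2 = 1 →
    coeff (diff ρ m m') X = 0 ∧ coeff (diff ρ m m') E = 0
  diff_Y : ∀ m m', m % 2 = 1 → m' % 2 = 1 →
    (coeff (diff ρ m m') Y₁ = 0 ∧ coeff (diff ρ m m') Y₂ = 0) ∨
      (s₁ = s₂ ∧ ∀ g : G, ¬ 4 ∣ orderOf g → (Y₁ : G → ℂ) g = (Y₂ : G → ℂ) g)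

namespace Config

variable {S : Sylow 2 G} {b z : G}

theorem coeff_diff_one (r : RotChar a k ρ) (m m' : ℕ) :
    coeff (diff ρ m m') (Blocks.trivChar G) =
      (if m % 2 ^ k = 0 then 1 else 0) - (if m' % 2 ^ k = 0 then 1 else 0) := by
  apply Int.cast_injective (α := ℂ)
  rw [cast_coeff (diff_gen m m'), show ((Blocks.trivChar G : IrrCharacter G) : G → ℂ) = fun _ => 1
    from funext fun g => Blocks.trivChar_apply g, inner_one r]
  push_cast
  rfl

theorem sum_coeff_diff (h : Config S a b z k) (r : RotChar a k ρ) {m m' n n' : ℕ}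
    (hn : n % 2 = n' % 2) :
    ∑ χ, coeff (diff ρ m m') χ * coeff (diff ρ n n') χ =
      (((if m % 2 ^ k = n % 2 ^ k then 1 else 0) + (if m % 2 ^ k = (sdExp k * n) % 2 ^ k then 1 else 0))
      - ((if m % 2 ^ k = n' % 2 ^ k then 1 else 0) + (if m % 2 ^ k = (sdExp k * n') % 2 ^ k then 1 else 0)))
      - (((if m' % 2 ^ k = n % 2 ^ k then 1 else 0) + (if m' % 2 ^ k = (sdExp k * n) % 2 ^ k then 1 else 0))
      - ((if m' % 2 ^ k = n' % 2 ^ k then 1 else 0) + (if m' % 2 ^ k = (sdExp k * n') % 2 ^ k then 1 else 0))) := by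
  apply Int.cast_injective (α := ℂ)
  rw [← classInner_eq_sum_coeff (diff_gen m m') (diff_gen n n'), h.inner_diff r hn]
  push_cast
  rfl

/-- The action of the exponent on even residues. -/
theorem exp_mul_mod (h : Config S a b z k) {m : ℕ} (hm : m % 2 = 0) :
    (sdExp k * m) % 2 ^ k = (2 ^ k - m % 2 ^ k) % 2 ^ k := by
  obtain ⟨e1, e2, e3⟩ := h.pow_eq
  obtain ⟨i, rfl⟩ : ∃ i, m = 2 * i := ⟨m / 2, by omega⟩
  have key : (((sdExp k * (2 * i)) % 2 ^ k : ℕ) : ZMod (2 ^ k))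
      = (((2 ^ k - (2 * i) % 2 ^ k) % 2 ^ k : ℕ) : ZMod (2 ^ k)) := by
    rw [ZMod.natCast_mod, ZMod.natCast_mod,
      Nat.cast_sub (Nat.mod_lt _ (Nat.two_pow_pos k)).le, ZMod.natCast_mod, ZMod.natCast_self, sdExp,
      Nat.cast_mul, Nat.cast_sub Nat.one_le_two_pow, sub_mul, Nat.cast_one, one_mul]
    have hz : ((2 ^ (k - 1) : ℕ) : ZMod (2 ^ k)) * ((2 * i : ℕ) : ZMod (2 ^ k)) = 0 := by
      rw [← Nat.cast_mul, show 2 ^ (k - 1) * (2 * i) = (2 * 2 ^ (k - 1)) * i by ring, ← e1, Nat.cast_mul,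
        ZMod.natCast_self, zero_mul]
    rw [hz]
  have := congrArg ZMod.val key
  rwa [ZMod.val_natCast, ZMod.val_natCast, Nat.mod_mod, Nat.mod_mod] at this

theorem sum_coeff_theta (h : Config S a b z k) (r : RotChar a k ρ) {m n : ℕ} (hm : m % 2 = 0)
    (hn : n % 2 = 0) (hm0 : 0 < m) (hmk : m < 2 ^ k) (hn0 : 0 < n) (hnk : n < 2 ^ k) :
    ∑ χ, coeff (theta ρ m) χ * coeff (theta ρ n) χ =
      2 + (if m = n then 1 else 0) + (if m + n = 2 ^ k then 1 else 0) := by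
  have h0 : (sdExp k * 0) % 2 ^ k = 0 := by simp
  rw [theta_eq_diff, theta_eq_diff, h.sum_coeff_diff r (by omega), h0, h.exp_mul_mod hn,
    Nat.mod_eq_of_lt hmk, Nat.mod_eq_of_lt hnk, Nat.zero_mod]
  rw [Nat.mod_eq_of_lt (show 2 ^ k - n < 2 ^ k by omega)]
  split_ifs <;> omega

theorem coeff_theta_one (r : RotChar a k ρ) {m : ℕ} (hm0 : 0 < m) (hmk : m < 2 ^ k) :
    coeff (theta ρ m) (Blocks.trivChar G) = 1 := by
  rw [theta_eq_diff, coeff_diff_one r, Nat.mod_eq_of_lt hmk, Nat.zero_mod, if_pos rfl,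
    if_neg (by omega), sub_zero]

/-- The degree relation of a generalized character vanishing at one. -/
theorem sum_coeff_degree {θ : G → ℂ} (hθ : IsGeneralizedCharacter G θ) (h1 : θ 1 = 0) :
    ∑ χ, coeff θ χ * (charDegree (χ : G → ℂ) : ℤ) = 0 := by
  apply Int.cast_injective (α := ℂ)
  rw [eq_sum_coeff hθ 1] at h1
  rw [Int.cast_zero, ← h1]
  push_cast
  exact Finset.sum_congr rfl fun χ _ => by rw [Blocks.irr_one_eq]

set_option maxHeartbeats 1600000 in
theorem exists_family (h : Config S a b z k) (r : RotChar a k ρ) :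
    ∃ (X E Y₁ Y₂ : IrrCharacter G) (sx se s₁ s₂ : ℤ), Family a k ρ X E Y₁ Y₂ sx se s₁ s₂ := by
  obtain ⟨e1, e2, e3⟩ := h.pow_eq
  have hk := h.three_le
  set u := Blocks.trivChar G with hu
  set q := 2 ^ (k - 2) with hq
  set t₀ := coeff (theta ρ q) with ht₀
  set tₕ := coeff (theta ρ (2 ^ (k - 1))) with htₕ
  have hev : q % 2 = 0 := by
    rw [hq, show k - 2 = (k - 3) + 1 by omega, pow_succ]; omega
  have hone : ∀ m, m % 2 = 0 → theta ρ m 1 = 0 := fun m hm =>
    h.theta_eq_zero r hm (by rw [orderOf_one]; norm_num)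
  have hdeg : ∀ m, m % 2 = 0 →
      ∑ χ, coeff (theta ρ m) χ * (charDegree (χ : G → ℂ) : ℤ) = 0 := fun m hm =>
    sum_coeff_degree (theta_gen m) (hone m hm)
  have hd1 : ((charDegree (u : G → ℂ)) : ℤ) = 1 := by
    have h1 := Blocks.irr_one_eq u
    rw [hu, Blocks.trivChar_apply] at h1
    have h2 : (1 : ℕ) = charDegree ((Blocks.trivChar G : IrrCharacter G) : G → ℂ) := by exact_mod_cast h1
    rw [hu, ← h2, Nat.cast_one]
  have n00 : ∑ χ, t₀ χ * t₀ χ = 3 := by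
    rw [ht₀, h.sum_coeff_theta r hev hev (by omega) (by omega) (by omega) (by omega)]
    rw [if_pos rfl, if_neg (by omega)]; norm_num
  have u0 : t₀ u = 1 := coeff_theta_one r (by omega) (by omega)
  have uh : tₕ u = 1 := coeff_theta_one r (by omega) (by omega)
  obtain ⟨x, e, hxe, hux, hue, hx, he, hz0⟩ := norm_three u0 n00
  set t₂ : IrrCharacter G → ℤ := fun χ => tₕ χ - t₀ χ with ht₂
  have nhh : ∑ χ, tₕ χ * tₕ χ = 4 := by
    rw [htₕ, h.sum_coeff_theta r (by omega) (by omega) (by omega) (by omega) (by omega) (by omega)]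
    rw [if_pos rfl, if_pos (by omega)]; norm_num
  have n0h : ∑ χ, tₕ χ * t₀ χ = 2 := by
    rw [htₕ, ht₀, h.sum_coeff_theta r (by omega) hev (by omega) (by omega) (by omega) (by omega)]
    rw [if_neg (by omega), if_neg (by omega)]; norm_num
  have n22 : ∑ χ, t₂ χ * t₂ χ = 3 := by
    have e' : ∀ χ, t₂ χ * t₂ χ = tₕ χ * tₕ χ - 2 * (tₕ χ * t₀ χ) + t₀ χ * t₀ χ := fun χ => by
      simp only [ht₂]; ring
    rw [Finset.sum_congr rfl fun χ _ => e' χ, Finset.sum_add_distrib, Finset.sum_sub_distrib,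
      ← Finset.mul_sum, nhh, n0h, n00]; norm_num
  have n02 : ∑ χ, t₀ χ * t₂ χ = -1 := by
    have e' : ∀ χ, t₀ χ * t₂ χ = tₕ χ * t₀ χ - t₀ χ * t₀ χ := fun χ => by simp only [ht₂]; ring
    rw [Finset.sum_congr rfl fun χ _ => e' χ, Finset.sum_sub_distrib, n0h, n00]; norm_num
  rw [sum_three hxe hux.symm hue.symm (fun i => t₀ i * t₂ i) fun i hix hie hiu => by
    rw [hz0 i hiu hix hie, zero_mul]] at n02
  have u2 : t₂ u = 0 := by simp only [ht₂, uh, u0]; norm_num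
  rw [u2, mul_zero, add_zero] at n02
  -- name the character shared with `θₕ - θ₀`
  obtain ⟨X, E, hXE, huX, huE, hX, hE, hz, h2X, h2E⟩ : ∃ X E, X ≠ E ∧ u ≠ X ∧ u ≠ E ∧
      (t₀ X = 1 ∨ t₀ X = -1) ∧ (t₀ E = 1 ∨ t₀ E = -1) ∧ (∀ i, i ≠ u → i ≠ X → i ≠ E → t₀ i = 0) ∧
      t₂ X = 0 ∧ t₂ E = -t₀ E := by
    have hbx : t₂ x * t₂ x + t₂ e * t₂ e ≤ 3 := by
      rw [← n22, ← Finset.sum_pair (f := fun i => t₂ i * t₂ i) hxe]
      exact Finset.sum_le_sum_of_subset_of_nonneg (Finset.subset_univ _) fun i _ _ => mul_self_nonneg _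
    have hb1 : t₂ x ≤ 1 ∧ -1 ≤ t₂ x ∧ t₂ e ≤ 1 ∧ -1 ≤ t₂ e :=
      ⟨by nlinarith [mul_self_nonneg (t₂ e)], by nlinarith [mul_self_nonneg (t₂ e)],
        by nlinarith [mul_self_nonneg (t₂ x)], by nlinarith [mul_self_nonneg (t₂ x)]⟩
    have : (t₂ x = 0 ∧ t₂ e = -t₀ e) ∨ (t₂ e = 0 ∧ t₂ x = -t₀ x) := by
      rcases hx with hx | hx <;> rcases he with he | he <;> rw [hx, he] at n02 ⊢ <;> omega
    rcases this with ⟨h1, h2⟩ | ⟨h1, h2⟩
    · exact ⟨x, e, hxe, hux, hue, hx, he, hz0, h1, h2⟩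
    · exact ⟨e, x, hxe.symm, hue, hux, he, hx, fun i a b c => hz0 i a c b, h1, h2⟩
  -- the two other constituents
  obtain ⟨Y₁, Y₂, hY, hY1, hY2, hzY⟩ := exists_two (fun i => if i = E then 0 else t₂ i) (by
    rw [← Finset.add_sum_erase _ _ (Finset.mem_univ E)] at n22 ⊢
    simp only [↓reduceIte, mul_zero, zero_add]
    rw [Finset.sum_congr rfl fun i hi => by rw [if_neg (Finset.ne_of_mem_erase hi)]]
    rw [h2E] at n22
    rcases hE with e' | e' <;> rw [e'] at n22 <;> omega)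
  have hY1E : Y₁ ≠ E := fun e' => by simp [e'] at hY1
  have hY2E : Y₂ ≠ E := fun e' => by simp [e'] at hY2
  simp only [if_neg hY1E, if_neg hY2E] at hY1 hY2
  have hY1u : Y₁ ≠ u := fun e' => by rw [e', u2] at hY1; omega
  have hY2u : Y₂ ≠ u := fun e' => by rw [e', u2] at hY2; omega
  have hY1X : Y₁ ≠ X := fun e' => by rw [e', h2X] at hY1; omega
  have hY2X : Y₂ ≠ X := fun e' => by rw [e', h2X] at hY2; omega
  have hz2 : ∀ i, i ≠ E → i ≠ Y₁ → i ≠ Y₂ → t₂ i = 0 := fun i a b c => by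
    simpa [if_neg a] using hzY i b c
  have hv0 : ∀ χ, χ ≠ u → χ ≠ X → χ ≠ E → t₀ χ = 0 := hz
  -- degrees
  set dX : ℤ := (charDegree (X : G → ℂ) : ℤ)
  set dE : ℤ := (charDegree (E : G → ℂ) : ℤ)
  have D0 : 1 + t₀ X * dX + t₀ E * dE = 0 := by
    have hd := hdeg q hev
    rw [← ht₀, sum_three huX huE hXE (fun i => t₀ i * (charDegree (i : G → ℂ) : ℤ))
      fun i a b c => by rw [hz i a b c, zero_mul], u0, hd1, one_mul] at hd
    exact hd
  have D2 : t₂ Y₁ * (charDegree (Y₁ : G → ℂ) : ℤ) + t₂ Y₂ * (charDegree (Y₂ : G → ℂ) : ℤ)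
      - t₀ E * dE = 0 := by
    have hd : ∑ χ, t₂ χ * (charDegree (χ : G → ℂ) : ℤ) = 0 := by
      simp only [ht₂, sub_mul, Finset.sum_sub_distrib, htₕ, ht₀]
      rw [hdeg _ (by omega), hdeg _ hev, sub_zero]
    rw [sum_three hY1E.symm hY2E.symm hY (fun i => t₂ i * (charDegree (i : G → ℂ) : ℤ))
      fun i a b c => by rw [hz2 i a b c, zero_mul], h2E] at hd
    linear_combination hd
  -- the other even exponents
  have hpair : ∀ (v w : IrrCharacter G → ℤ), (∀ i, i ≠ u → i ≠ X → i ≠ E → v i = 0) →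
      ∑ i, w i * v i = w u * v u + w X * v X + w E * v E := fun v w hv =>
    sum_three huX huE hXE (fun i => w i * v i) fun i a b c => by rw [hv i a b c, mul_zero]
  have hother : ∀ m, m % 2 = 0 → 0 < m → m < 2 ^ k → m ≠ q → m ≠ 3 * q → m ≠ 2 ^ (k - 1) →
      ∃ w, w ≠ u ∧ coeff (theta ρ m) w ≠ 0 ∧
        ((coeff (theta ρ m) X = t₀ X ∧ coeff (theta ρ m) E = 0 ∧ w ≠ X ∧ w ≠ E ∧ w ≠ Y₁ ∧ w ≠ Y₂) ∨
        (coeff (theta ρ m) X = 0 ∧ coeff (theta ρ m) E = t₀ E ∧ w ≠ X ∧ w ≠ E ∧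
          (w = Y₁ ∨ w = Y₂) ∧ coeff (theta ρ m) w = t₂ w)) ∧
        (∀ i, i ≠ u → i ≠ X → i ≠ E → i ≠ w → coeff (theta ρ m) i = 0) ∧
        (coeff (theta ρ m) w = 1 ∨ coeff (theta ρ m) w = -1) := by
    intro m hm hm0 hmk hmq hm3 hmh
    set t := coeff (theta ρ m) with ht
    have nt : ∑ χ, t χ * t χ = 3 := by
      rw [ht, h.sum_coeff_theta r hm hm hm0 hmk hm0 hmk, if_pos rfl, if_neg (by omega)]; norm_num
    have ut : t u = 1 := coeff_theta_one r hm0 hmk
    have nt0 : ∑ χ, t χ * t₀ χ = 2 := by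
      rw [ht, ht₀, h.sum_coeff_theta r hm hev hm0 hmk (by omega) (by omega), if_neg hmq,
        if_neg (by omega)]; norm_num
    have nth : ∑ χ, t χ * t₂ χ = 0 := by
      have e' : ∀ χ, t χ * t₂ χ = t χ * tₕ χ - t χ * t₀ χ := fun χ => by simp only [ht₂]; ring
      rw [Finset.sum_congr rfl fun χ _ => e' χ, Finset.sum_sub_distrib, nt0, ht, htₕ,
        h.sum_coeff_theta r hm (by omega) hm0 hmk (by omega) (by omega), if_neg hmh,
        if_neg (by omega)]; norm_num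
    rw [hpair t₀ t hz, ut, u0, mul_one] at nt0
    rw [sum_three hY1E.symm hY2E.symm hY (fun i => t i * t₂ i) fun i a b c => by
      rw [hz2 i a b c, mul_zero], h2E] at nth
    obtain ⟨w₁, w₂, hw, huw1, huw2, hw1, hw2, hzw⟩ := norm_three ut nt
    have hval : ∀ i, i ≠ u → t i = 0 ∨ i = w₁ ∨ i = w₂ := fun i hi => by
      by_cases h1 : i = w₁
      · exact Or.inr (Or.inl h1)
      by_cases h2 : i = w₂
      · exact Or.inr (Or.inr h2)
      exact Or.inl (hzw i hi h1 h2)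
    -- exactly one of `X`, `E` is a constituent, with the same sign
    have hone' : ∀ i, i ≠ u → t i = 0 ∨ t i = 1 ∨ t i = -1 := fun i hi => by
      rcases hval i hi with h1 | rfl | rfl
      exacts [Or.inl h1, Or.inr hw1, Or.inr hw2]
    have hsh : (t X = t₀ X ∧ t E = 0) ∨ (t X = 0 ∧ t E = t₀ E) := by
      rcases hone' X huX.symm with a | a | a <;> rcases hone' E huE.symm with b | b | b <;>
        rcases hX with c | c <;> rcases hE with d | d <;> rw [a, b, c, d] at nt0 <;>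
        rw [a, b, c, d] <;> omega
    rcases hsh with ⟨sX, sE⟩ | ⟨sX, sE⟩
    · obtain ⟨w, hwu, hwv, hwX⟩ : ∃ w, w ≠ u ∧ (t w = 1 ∨ t w = -1) ∧ (w ≠ X ∧
          ∀ i, i ≠ u → i ≠ X → i ≠ w → t i = 0) := by
        rcases hval X huX.symm with h1 | h1 | h1
        · exact absurd (sX ▸ h1 : t₀ X = 0) (by rcases hX with c | c <;> omega)
        · exact ⟨w₂, huw2.symm, hw2, fun e' => hw (h1.symm.trans e'.symm), fun i a b c => hzw i a (h1 ▸ b) c⟩
        · exact ⟨w₁, huw1.symm, hw1, fun e' => hw (e'.trans h1), fun i a b c => hzw i a c (h1 ▸ b)⟩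
      have hwE : w ≠ E := fun e' => by rw [e', sE] at hwv; omega
      have z1 : ∀ i, i ≠ u → i ≠ X → i ≠ w → t i * t₂ i = 0 := fun i a b c => by
        rw [hwX.2 i a b c, zero_mul]
      have hwY : w ≠ Y₁ ∧ w ≠ Y₂ := by
        constructor <;> intro e'
        · rw [sE, ← e', z1 Y₂ hY2u hY2X (fun h' => hY (e'.symm.trans h'.symm))] at nth
          rcases hwv with c | c <;> rcases hY1 with d | d <;> rw [← e'] at d <;> rw [c, d] at nth <;>
            norm_num at nth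
        · rw [sE, ← e', z1 Y₁ hY1u hY1X (fun h' => hY (h'.trans e'))] at nth
          rcases hwv with c | c <;> rcases hY2 with d | d <;> rw [← e'] at d <;> rw [c, d] at nth <;>
            norm_num at nth
      exact ⟨w, hwu, by omega, Or.inl ⟨sX, sE, hwX.1, hwE, hwY.1, hwY.2⟩,
        fun i a b _ d => hwX.2 i a b d, hwv⟩
    · obtain ⟨w, hwu, hwv, hwE⟩ : ∃ w, w ≠ u ∧ (t w = 1 ∨ t w = -1) ∧ (w ≠ E ∧
          ∀ i, i ≠ u → i ≠ E → i ≠ w → t i = 0) := by
        rcases hval E huE.symm with h1 | h1 | h1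
        · exact absurd (sE ▸ h1 : t₀ E = 0) (by rcases hE with c | c <;> omega)
        · exact ⟨w₂, huw2.symm, hw2, fun e' => hw (h1.symm.trans e'.symm), fun i a b c => hzw i a (h1 ▸ b) c⟩
        · exact ⟨w₁, huw1.symm, hw1, fun e' => hw (e'.trans h1), fun i a b c => hzw i a c (h1 ▸ b)⟩
      have hwX : w ≠ X := fun e' => by rw [e', sX] at hwv; omega
      have z1 : ∀ i, i ≠ u → i ≠ E → i ≠ w → t i * t₂ i = 0 := fun i a b c => by
        rw [hwE.2 i a b c, zero_mul]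
      rw [sE, show t₀ E * -t₀ E = -1 by rcases hE with c | c <;> rw [c] <;> norm_num] at nth
      have hwY : (w = Y₁ ∨ w = Y₂) ∧ t w = t₂ w := by
        by_cases h1 : w = Y₁
        · rw [← h1] at nth hY1
          rw [z1 Y₂ hY2u hY2E (fun h' => hY ((h'.trans h1).symm))] at nth
          refine ⟨Or.inl h1, ?_⟩
          rcases hwv with c | c <;> rcases hY1 with d | d <;> rw [c, d] at nth ⊢ <;> omega
        by_cases h2 : w = Y₂
        · rw [← h2] at nth hY2
          rw [z1 Y₁ hY1u hY1E (fun h' => h1 h'.symm)] at nth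
          refine ⟨Or.inr h2, ?_⟩
          rcases hwv with c | c <;> rcases hY2 with d | d <;> rw [c, d] at nth ⊢ <;> omega
        rw [z1 Y₁ hY1u hY1E (fun h' => h1 h'.symm), z1 Y₂ hY2u hY2E (fun h' => h2 h'.symm)] at nth
        omega
      exact ⟨w, hwu, by omega, Or.inr ⟨sX, sE, hwX, hwE.1, hwY.1, hwY.2⟩,
        fun i a _ c d => hwE.2 i a c d, hwv⟩
  -- they all share `X`
  have hshare : ∀ m, m % 2 = 0 → 0 < m → m < 2 ^ k → m ≠ q → m ≠ 3 * q → m ≠ 2 ^ (k - 1) →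
      coeff (theta ρ m) X = t₀ X ∧ coeff (theta ρ m) E = 0 ∧
        coeff (theta ρ m) Y₁ = 0 ∧ coeff (theta ρ m) Y₂ = 0 := by
    intro m hm hm0 hmk hmq hm3 hmh
    obtain ⟨w, hwu, hw0, hc, hzm, hwv⟩ := hother m hm hm0 hmk hmq hm3 hmh
    rcases hc with ⟨a1, a2, a3, a4, a5, a6⟩ | ⟨a1, a2, a3, a4, a5, a6⟩
    · exact ⟨a1, a2, hzm _ hY1u hY1X hY1E (Ne.symm a5), hzm _ hY2u hY2X hY2E (Ne.symm a6)⟩
    exfalso
    -- every other exponent then shares `E`, with distinct third constituents among `Y₁, Y₂`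
    have hk4 : 4 ≤ k := by
      by_contra hh
      obtain rfl : k = 3 := by omega
      simp only [hq] at hmq hm3
      norm_num at hmq hm3 hmh hmk
      omega
    have h8 : 2 * 2 ≤ q := by
      rw [hq]; exact le_trans (by norm_num) (Nat.pow_le_pow_right two_pos (show 2 ≤ k - 2 by omega))
    obtain ⟨m', hm', hm'0, hm'k, hm'q, hm'3, hm'h, hne1, hne2⟩ : ∃ m', m' % 2 = 0 ∧ 0 < m' ∧
        m' < 2 ^ k ∧ m' ≠ q ∧ m' ≠ 3 * q ∧ m' ≠ 2 ^ (k - 1) ∧ m ≠ m' ∧ m + m' ≠ 2 ^ k := by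
      by_cases h2 : m = 2 ∨ m + 2 = 2 ^ k
      · exact ⟨2 ^ (k - 1) - 2, by omega, by omega, by omega, by omega, by omega, by omega,
          by omega, by omega⟩
      · exact ⟨2, rfl, by omega, by omega, by omega, by omega, by omega, by omega, by omega⟩
    obtain ⟨w', hw'u, hw'0, hc', hzm', hw'v⟩ := hother m' hm' hm'0 hm'k hm'q hm'3 hm'h
    have nmm : ∑ χ, coeff (theta ρ m) χ * coeff (theta ρ m') χ = 2 := by
      rw [h.sum_coeff_theta r hm hm' hm0 hmk hm'0 hm'k, if_neg hne1, if_neg hne2]; norm_num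
    rw [← Finset.sum_subset (Finset.subset_univ ({u, E, w} : Finset (IrrCharacter G))) fun i _ hi => by
        simp only [Finset.mem_insert, Finset.mem_singleton, not_or] at hi
        by_cases hiX : i = X
        · rw [hiX, a1, zero_mul]
        · rw [hzm i hi.1 hiX hi.2.1 hi.2.2, zero_mul],
      Finset.sum_insert (by simp [huE, hwu.symm]), Finset.sum_insert (by simp [Ne.symm a4]),
      Finset.sum_singleton, coeff_theta_one r hm0 hmk, coeff_theta_one r hm'0 hm'k, one_mul, a2] at nmm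
    have hY12 : t₂ w ≠ 0 := a6 ▸ hw0
    rcases hc' with ⟨b1, b2, b3, b4, b5, b6⟩ | ⟨b1, b2, b3, b4, b5, b6⟩
    · rw [b2, mul_zero] at nmm
      have hww : w' ≠ w := by rcases a5 with rfl | rfl; exacts [b5, b6]
      rw [hzm' w hwu a3 a4 hww.symm, mul_zero] at nmm
      norm_num at nmm
    · rw [b2] at nmm
      have hww : w' ≠ w := fun e' => by
        rw [e'] at b6 hw'v
        rw [a6, b6] at nmm
        rcases hE with c | c <;> rcases (a6 ▸ hwv) with d | d <;> rw [c, d] at nmm <;> norm_num at nmm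
      -- so the degrees give `3 X = 1`
      have dm : ∀ n v, n % 2 = 0 → 0 < n → n < 2 ^ k → v ≠ u → v ≠ E → v ≠ X →
          coeff (theta ρ n) X = 0 → coeff (theta ρ n) E = t₀ E → coeff (theta ρ n) v = t₂ v →
          (∀ i, i ≠ u → i ≠ X → i ≠ E → i ≠ v → coeff (theta ρ n) i = 0) →
          1 + t₀ E * dE + t₂ v * (charDegree (v : G → ℂ) : ℤ) = 0 := by
        intro n v hn hn0 hnk v1 v2 v3 c1 c2 c3 c4
        have hd := hdeg n hn
        rw [sum_three huE (Ne.symm v1) (Ne.symm v2)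
          (fun i => coeff (theta ρ n) i * (charDegree (i : G → ℂ) : ℤ)) fun i i1 i2 i3 => by
            by_cases hiX : i = X
            · rw [hiX, c1, zero_mul]
            · rw [c4 i i1 hiX i2 i3, zero_mul], coeff_theta_one r hn0 hnk, hd1, c2, c3, one_mul] at hd
        exact hd
      have p1 := dm m w hm hm0 hmk hwu a4 a3 a1 a2 a6 hzm
      have p2 := dm m' w' hm' hm'0 hm'k hw'u b4 b3 b1 b2 b6 hzm'
      have D2' : t₂ w * (charDegree (w : G → ℂ) : ℤ) + t₂ w' * (charDegree (w' : G → ℂ) : ℤ)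
          - t₀ E * dE = 0 := by
        rcases a5 with rfl | rfl <;> rcases b5 with rfl | rfl
        exacts [absurd rfl hww, D2, by linarith, absurd rfl hww]
      omega
  -- differences of odd exponents
  have hdiff : ∀ m m', m % 2 = 1 → m' % 2 = 1 →
      (coeff (diff ρ m m') X = 0 ∧ coeff (diff ρ m m') E = 0) ∧
      ((coeff (diff ρ m m') Y₁ = 0 ∧ coeff (diff ρ m m') Y₂ = 0) ∨
      (t₂ Y₁ = t₂ Y₂ ∧ ∀ g : G, ¬ 4 ∣ orderOf g → (Y₁ : G → ℂ) g = (Y₂ : G → ℂ) g)) := by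
    intro m m' hm hm'
    set c := coeff (diff ρ m m') with hc
    have hmn : m % 2 = m' % 2 := hm.trans hm'.symm
    have hoe : ∀ n, n % 2 = 0 → ∑ χ, c χ * coeff (theta ρ n) χ = 0 := by
      intro n hn
      rw [hc, theta_eq_diff, h.sum_coeff_diff r (by omega), h.exp_mul_mod hn]
      have hpar : ∀ i : ℕ, i % 2 = 1 → ∀ j, j % 2 = 0 → i % 2 ^ k ≠ j % 2 ^ k := fun i hi j hj e' => by
        have hd : 2 ∣ 2 ^ k := dvd_pow_self 2 (by omega)
        have := Nat.ModEq.of_dvd hd (show i ≡ j [MOD 2 ^ k] from e')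
        rw [Nat.ModEq] at this; omega
      have h2 : (2 ^ k - n % 2 ^ k) % 2 = 0 := by
        have := Nat.mod_mod_of_dvd n (dvd_pow_self 2 (show k ≠ 0 by omega))
        omega
      rw [if_neg (hpar m hm _ (by simp)), if_neg (hpar m hm _ (by simp)), if_neg (hpar m hm n hn),
        if_neg (hpar m hm _ h2), if_neg (hpar m' hm' _ (by simp)), if_neg (hpar m' hm' _ (by simp)),
        if_neg (hpar m' hm' n hn), if_neg (hpar m' hm' _ h2)]
      norm_num
    have hu' : c u = 0 := by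
      rw [hc, coeff_diff_one r, if_neg, if_neg]
      · norm_num
      all_goals
        intro e'
        have := Nat.dvd_of_mod_eq_zero e'
        have := (dvd_pow_self 2 (show k ≠ 0 by omega)).trans this
        omega
    have e0 := hoe q hev
    rw [← ht₀, hpair t₀ c hz, hu', zero_mul, zero_add] at e0
    have e2 : ∑ χ, c χ * t₂ χ = 0 := by
      simp only [ht₂, mul_sub, Finset.sum_sub_distrib, htₕ, ht₀]
      rw [hoe _ (by omega), hoe q hev, sub_zero]
    have hd := sum_coeff_degree (diff_gen (ρ := ρ) m m')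
      (h.diff_eq_zero r hmn (by rw [orderOf_one]; norm_num))
    rw [← hc] at hd
    by_cases hc0 : ∀ χ, c χ = 0
    · exact ⟨⟨hc0 _, hc0 _⟩, Or.inl ⟨hc0 _, hc0 _⟩⟩
    -- a nonzero difference has norm at most two
    have nn : ∑ χ, c χ * c χ ≤ 2 := by
      rw [hc, h.sum_coeff_diff r hmn]
      have ho : ∀ i : ℕ, i % 2 = 1 → i % 2 ^ k ≠ (sdExp k * i) % 2 ^ k := fun i hi e' => by
        have hd : 4 ∣ 2 ^ k := by
          rw [show (4 : ℕ) = 2 ^ 2 from rfl]; exact pow_dvd_pow 2 (by omega)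
        have h4 := Nat.ModEq.of_dvd hd (show i ≡ sdExp k * i [MOD 2 ^ k] from e')
        have hs : sdExp k % 4 = 3 := by
          rw [sdExp, show k - 1 = (k - 3) + 2 by omega, pow_add]
          have := Nat.two_pow_pos (k - 3); omega
        rw [Nat.ModEq, Nat.mul_mod, hs] at h4
        omega
      rw [if_neg (ho m hm), if_neg (ho m' hm')]
      split_ifs <;> omega
    have hb : ∀ χ, c χ = 0 ∨ c χ = 1 ∨ c χ = -1 := fun χ => by
      have := (Finset.single_le_sum (fun i _ => mul_self_nonneg (c i)) (Finset.mem_univ χ)).trans nn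
      have : c χ ≤ 1 ∧ -1 ≤ c χ := ⟨by nlinarith, by nlinarith⟩
      omega
    have hsupp : ∀ p p', p ≠ p' → c p ≠ 0 → c p' ≠ 0 → ∀ i, i ≠ p → i ≠ p' → c i = 0 := by
      intro p p' hpp hp hp' i hi hi'
      have := (Finset.sum_le_sum_of_subset_of_nonneg (f := fun j => c j * c j)
        (Finset.subset_univ ({p, p', i} : Finset (IrrCharacter G)))
        fun j _ _ => mul_self_nonneg _).trans nn
      rw [Finset.sum_insert (by simp [hpp, Ne.symm hi]), Finset.sum_insert (by simp [Ne.symm hi']),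
        Finset.sum_singleton] at this
      have := mul_self_pos.2 hp
      have := mul_self_pos.2 hp'
      by_contra h0
      have := mul_self_pos.2 h0
      omega
    have hpdeg : ∀ p p', p ≠ p' → c p ≠ 0 → c p' ≠ 0 →
        c p * (charDegree (p : G → ℂ) : ℤ) + c p' * (charDegree (p' : G → ℂ) : ℤ) = 0 := by
      intro p p' hpp hp hp'
      have := hd
      rwa [← Finset.sum_subset (Finset.subset_univ ({p, p'} : Finset (IrrCharacter G))) fun i _ hi => by
        simp only [Finset.mem_insert, Finset.mem_singleton, not_or] at hi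
        rw [hsupp p p' hpp hp hp' i hi.1 hi.2, zero_mul],
        Finset.sum_pair hpp] at this
    have hXE0 : c X = 0 ∧ c E = 0 := by
      by_contra hh
      have hXn : c X ≠ 0 := fun hX0 => by
        rw [hX0, zero_mul, zero_add] at e0
        exact hh ⟨hX0, (mul_eq_zero.1 e0).resolve_right (by rcases hE with p | p <;> omega)⟩
      have hEn : c E ≠ 0 := fun hE0 => by
        rw [hE0, zero_mul, add_zero] at e0
        exact hXn ((mul_eq_zero.1 e0).resolve_right (by rcases hX with p | p <;> omega))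
      have hdd := hpdeg X E hXE hXn hEn
      rcases hb X with p | p | p <;> rcases hb E with p' | p' | p' <;>
        rcases hX with q1 | q1 <;> rcases hE with q2 | q2 <;>
        rw [p, p', q1, q2] at e0 <;> rw [p, p'] at hdd <;> rw [q1, q2] at D0 <;> omega
    refine ⟨hXE0, ?_⟩
    rw [sum_three hY1E.symm hY2E.symm hY (fun i => c i * t₂ i) fun i a b d => by
      rw [hz2 i a b d, mul_zero], hXE0.2, zero_mul, zero_add] at e2
    by_cases h1 : c Y₁ = 0
    · rw [h1, zero_mul, zero_add] at e2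
      exact Or.inl ⟨h1, (mul_eq_zero.1 e2).resolve_right (by rcases hY2 with p | p <;> omega)⟩
    have h2 : c Y₂ ≠ 0 := fun h0 => by
      rw [h0, zero_mul, add_zero] at e2
      exact h1 ((mul_eq_zero.1 e2).resolve_right (by rcases hY1 with p | p <;> omega))
    have hdd := hpdeg Y₁ Y₂ hY h1 h2
    have hneg : c Y₂ = -c Y₁ ∧ t₂ Y₁ = t₂ Y₂ := by
      have hp1 : (0 : ℤ) < charDegree (Y₁ : G → ℂ) := by exact_mod_cast Blocks.charDegree_pos Y₁
      have hp2 : (0 : ℤ) < charDegree (Y₂ : G → ℂ) := by exact_mod_cast Blocks.charDegree_pos Y₂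
      rcases hb Y₁ with p | p | p <;> rcases hb Y₂ with p' | p' | p' <;>
        rcases hY1 with q1 | q1 <;> rcases hY2 with q2 | q2 <;>
        rw [p, p', q1, q2] at e2 <;> rw [p, p'] at hdd ⊢ <;> omega
    refine Or.inr ⟨hneg.2, fun g hg => ?_⟩
    have hv := h.diff_eq_zero r hmn hg
    rw [eq_sum_coeff (diff_gen m m') g, ← hc,
      ← Finset.sum_subset (Finset.subset_univ ({Y₁, Y₂} : Finset (IrrCharacter G))) fun i _ hi => by
        simp only [Finset.mem_insert, Finset.mem_singleton, not_or] at hi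
        rw [hsupp Y₁ Y₂ hY h1 h2 i hi.1 hi.2, Int.cast_zero, zero_mul],
      Finset.sum_pair hY, hneg.1] at hv
    push_cast at hv
    have : (c Y₁ : ℂ) * ((Y₁ : G → ℂ) g - (Y₂ : G → ℂ) g) = 0 := by linear_combination hv
    exact sub_eq_zero.1 ((mul_eq_zero.1 this).resolve_left (Int.cast_ne_zero.2 h1))
  have hh2 : ∀ χ, tₕ χ = t₀ χ + t₂ χ := fun χ => by simp only [ht₂]; ring
  have h3q : ∀ χ, coeff (theta ρ (3 * q)) χ = t₀ χ := by
    intro χ
    have n1 : ∑ i, (coeff (theta ρ (3 * q)) i - t₀ i) * (coeff (theta ρ (3 * q)) i - t₀ i) = 0 := by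
      have e' : ∀ i, (coeff (theta ρ (3 * q)) i - t₀ i) * (coeff (theta ρ (3 * q)) i - t₀ i)
          = coeff (theta ρ (3 * q)) i * coeff (theta ρ (3 * q)) i
            - 2 * (coeff (theta ρ (3 * q)) i * t₀ i) + t₀ i * t₀ i := fun i => by ring
      rw [Finset.sum_congr rfl fun i _ => e' i, Finset.sum_add_distrib, Finset.sum_sub_distrib,
        ← Finset.mul_sum, n00, ht₀,
        h.sum_coeff_theta r (by omega) (by omega) (by omega) (by omega) (by omega) (by omega),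
        h.sum_coeff_theta r (by omega) hev (by omega) (by omega) (by omega) (by omega),
        if_pos rfl, if_neg (by omega), if_neg (by omega), if_pos (by omega)]
      norm_num
    exact sub_eq_zero.1 (mul_self_eq_zero.1 ((Finset.sum_eq_zero_iff_of_nonneg
      fun i _ => mul_self_nonneg _).1 n1 χ (Finset.mem_univ χ)))
  have hsY : t₀ Y₁ = 0 ∧ t₀ Y₂ = 0 := ⟨hz _ hY1u hY1X hY1E, hz _ hY2u hY2X hY2E⟩
  refine ⟨X, E, Y₁, Y₂, -t₀ X, t₀ E, t₂ Y₁, t₂ Y₂, ⟨?_, hE, hY1, hY2,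
    ⟨huX.symm, huE.symm, hY1u, hY2u, hXE, hY1X.symm, hY2X.symm, hY1E.symm, hY2E.symm, hY⟩,
    fun g => ?_, fun g => ?_, fun m hm hm0 hmk => ?_, fun m hm hm0 hmk hmq hm3 => ?_, ?_,
    fun m hm hm0 hmk hmh => ?_, ?_, fun m m' hm hm' => (hdiff m m' hm hm').1,
    fun m m' hm hm' => (hdiff m m' hm hm').2⟩⟩
  · rcases hX with p | p <;> omega
  · rw [eq_sum_coeff (theta_gen q) g, ← ht₀, ← Finset.sum_subset
      (Finset.subset_univ ({u, X, E} : Finset (IrrCharacter G))) fun i _ hi => by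
        simp only [Finset.mem_insert, Finset.mem_singleton, not_or] at hi
        rw [hz i hi.1 hi.2.1 hi.2.2, Int.cast_zero, zero_mul],
      Finset.sum_insert (by simp [huX, huE]), Finset.sum_insert (by simp [hXE]), Finset.sum_singleton,
      u0, hu, Blocks.trivChar_apply]
    push_cast; ring
  · rw [eq_sum_coeff (theta_gen _) g, ← htₕ, ← Finset.sum_subset
      (Finset.subset_univ ({u, X, E, Y₁, Y₂} : Finset (IrrCharacter G))) fun i _ hi => by
        simp only [Finset.mem_insert, Finset.mem_singleton, not_or] at hi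
        rw [hh2, hz i hi.1 hi.2.1 hi.2.2.1, hz2 i hi.2.2.1 hi.2.2.2.1 hi.2.2.2.2]
        simp,
      Finset.sum_insert (by simp [huX, huE, hY1u.symm, hY2u.symm]),
      Finset.sum_insert (by simp [hXE, hY1X.symm, hY2X.symm]),
      Finset.sum_insert (by simp [hY1E.symm, hY2E.symm]), Finset.sum_pair hY, uh,
      hh2 X, hh2 E, hh2 Y₁, hh2 Y₂, h2X, h2E, hsY.1, hsY.2, hu, Blocks.trivChar_apply]
    push_cast; ring
  · rw [neg_neg]
    by_cases e1' : m = q
    · rw [e1']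
    by_cases e2' : m = 3 * q
    · rw [e2', h3q]
    by_cases e3' : m = 2 ^ (k - 1)
    · rw [e3', ← htₕ, hh2, h2X, add_zero]
    exact (hshare m hm hm0 hmk e1' e2' e3').1
  · by_cases e3' : m = 2 ^ (k - 1)
    · rw [e3', ← htₕ, hh2, h2E, add_neg_cancel]
    exact (hshare m hm hm0 hmk hmq hm3 e3').2.1
  · rintro m (rfl | rfl)
    exacts [rfl, h3q E]
  · by_cases e1' : m = q
    · rw [e1']; exact hsY
    by_cases e2' : m = 3 * q
    · rw [e2', h3q, h3q]; exact hsY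
    exact (hshare m hm hm0 hmk e1' e2' hmh).2.2
  · rw [← htₕ, hh2, hh2, hsY.1, hsY.2, zero_add, zero_add]
    exact ⟨rfl, rfl⟩

end Config

end CfsgLib.SDBlock
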