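import Cfsg.Agent.Lib.SDBlock.Theta
import Cfsg.Agent.Lib.SDBlock.Central
import Cfsg.Agent.Lib.SDBlock.Exceptional
import Cfsg.Agent.Lib.Char.ClassSum

/-!
# Sums of the exceptional generalized characters over products of two conjugates of `z`

A product of two involutions in the support of an induced lift is a product of two conjugates of
`b` in `C(z)`.  On the products of two conjugates of `z` the generalized character `theta (2 ^ (k-1))`
vanishes, and the sum of `theta (2 ^ (k-2))` is given by its restriction `1 - σ ± ψ` to `C(z)`.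
-/

set_option autoImplicit false
set_option linter.unusedSectionVars false

namespace CfsgLib.SDBlock

open Cfsg Subgroup CfsgLib.Char CfsgLib.BrauerSuzuki
open scoped Classical ComplexConjugate

namespace Config

variable {G : Type*} [Group G] [Fintype G] {a b z : G} {k : ℕ} {S : Sylow 2 G}
  {ρ : rotGroup a k →* ℂˣ} {σ : centralizer ({z} : Set G) → ℂ} {Q : ℤ}

/-- An element off `ρ = ± 1` has a power of order four with square `z`. -/
theorem exists_pow_four_sq (h : Config S a b z k) (r : RotChar a k ρ) {g : rotGroup a k}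
    (hg : ρ g ^ 2 ≠ 1) :
    ∃ m : ℕ, orderOf ((g : G) ^ m) = 4 ∧ (g : G) ^ m * (g : G) ^ m = z := by
  obtain ⟨m, hm⟩ := h.exists_pow_four r hg
  refine ⟨m, hm, ?_⟩
  rw [← Subgroup.coe_pow, Subgroup.orderOf_coe] at hm
  rw [← Subgroup.coe_pow]
  rcases h.eq_four_or r hm with e | e <;> rw [e]
  · exact h.four_sq
  · rw [← mul_inv_rev, h.four_sq]
    exact inv_eq_of_mul_eq_one_right h.z_sq

/-- The elements of order four of `C(z)` square to `z`. -/
theorem mul_self_eq_z (h : Config S a b z k) {x : G} (hx : x ∈ centralizer ({z} : Set G))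
    (h4 : orderOf x = 4) : x * x = z := by
  obtain ⟨c, hc⟩ := h.two_cases (u := ⟨x, hx⟩) (i := 2)
    (by rw [Subgroup.orderOf_mk, h4]; norm_num)
  have ho : orderOf ((c : G) * x * (c : G)⁻¹) = 4 := by
    rw [show (c : G) * x * (c : G)⁻¹ = MulAut.conj (c : G) x from rfl, MulEquiv.orderOf_eq, h4]
  rcases hc with ⟨j, hj⟩ | hj <;> simp only [Subgroup.coe_mul, Subgroup.coe_inv] at hj <;>
    rw [hj] at ho
  · have h4' : a ^ (j + j) * a ^ (j + j) = 1 := by
      rw [zpow_add, ← orderOf_dvd_iff_pow_eq_one.1 (dvd_of_eq ho)]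
      simp only [pow_succ, pow_zero, one_mul, mul_assoc]
    rcases h.sq_zpow h4' with e | e <;> rw [zpow_add] at e
    · exfalso
      have hd := orderOf_dvd_of_pow_eq_one (x := a ^ j) (n := 2) (by rw [pow_two, e])
      rw [ho] at hd
      norm_num at hd
    · have e2 : (c : G) * (x * x) * (c : G)⁻¹ = z := by
        refine Eq.trans ?_ e
        rw [← hj]; group
      rw [mul_inv_eq_iff_eq_mul, (h.z_comm c).eq] at e2
      exact mul_left_cancel e2
  · rw [h.orderOf_b] at ho; omega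

/-- An involution inverting an element off `ρ = ± 1` lies in `C(z)`, does not commute with the
element and is there conjugate to `b`. -/
theorem exists_conj_b (h : Config S a b z k) (r : RotChar a k ρ) {g : rotGroup a k}
    (hg : ρ g ^ 2 ≠ 1) {x : G} (hx : x * x = 1) (hi : x * (g : G) * x⁻¹ = (g : G)⁻¹) :
    ∃ v : centralizer ({z} : Set G), (v : G) * b * (v : G)⁻¹ = x := by
  obtain ⟨m, -, hz⟩ := h.exists_pow_four_sq r hg
  have hxz : x * z * x⁻¹ = z := by
    rw [← hz, ← conj_mul, ← conj_pow, hi, inv_pow, ← mul_inv_rev, hz]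
    exact inv_eq_of_mul_eq_one_right h.z_sq
  have hxC : x ∈ centralizer ({z} : Set G) :=
    mem_centralizer_singleton_iff.2 (mul_inv_eq_iff_eq_mul.1 hxz)
  have hne : ¬ Commute x (g : G) := fun hc => hg (by
    have e : (g : G) = (g : G)⁻¹ := by
      conv_lhs => rw [← mul_inv_cancel_right (g : G) x, ← hc.eq]
      exact hi
    have e2 : g * g = 1 := Subtype.ext (by
      rw [Subgroup.coe_mul]
      conv_lhs => arg 2; rw [e]
      simp)
    rw [pow_two, ← map_mul, e2, map_one])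
  have hx1 : x ≠ 1 := fun e => hne (e ▸ Commute.one_left _)
  obtain ⟨c, hc⟩ := h.two_cases (u := ⟨x, hxC⟩) (i := 1)
    (by rw [Subgroup.orderOf_mk, pow_one]; exact orderOf_eq_prime (by rw [pow_two, hx]) hx1)
  rcases hc with ⟨j, hj⟩ | hj <;> simp only [Subgroup.coe_mul, Subgroup.coe_inv] at hj
  · exfalso
    have h2 : a ^ j * a ^ j = 1 := by
      rw [← hj, conj_mul, hx]; group
    rcases h.sq_zpow h2 with e | e <;> rw [e] at hj
    · exact hx1 (conj_eq_one_iff.1 hj)
    · rw [mul_inv_eq_iff_eq_mul, (h.z_comm c).eq] at hj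
      refine hne ?_
      rw [mul_left_cancel hj]
      exact h.z_comm ⟨(g : G), h.rotGroup_le g.2⟩
  · exact ⟨c⁻¹, by rw [Subgroup.coe_inv, ← hj]; group⟩

/-- The exponent of an element inverted by an involution. -/
theorem pow_eq_one_of_inverted (h : Config S a b z k) (r : RotChar a k ρ) {g : rotGroup a k}
    (hg : ρ g ^ 2 ≠ 1) {x : G} (hi : x * (g : G) * x⁻¹ = (g : G)⁻¹) :
    ρ g ^ 2 ^ (k - 1) = 1 := by
  rcases h.mem_of_conj r (g' := g⁻¹) (by simpa using hi) hg with hx | hx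
  · exfalso
    have e : (⟨x, hx⟩ : rotGroup a k) * g * ⟨x, hx⟩⁻¹ = g⁻¹ := Subtype.ext (by simpa using hi)
    have e' := congrArg ρ e
    rw [map_mul, map_mul, map_inv, map_inv, mul_comm (ρ ⟨x, hx⟩) (ρ g), mul_inv_cancel_right] at e'
    refine hg ?_
    rw [pow_two]
    nth_rw 2 [e']
    exact mul_inv_cancel _
  · set y : rotGroup a k := ⟨b * x, hx⟩ * g * ⟨b * x, hx⟩⁻¹ with hy
    have hρy : ρ y = ρ g := by
      rw [hy, map_mul, map_mul, map_inv, mul_comm (ρ ⟨b * x, hx⟩) (ρ g), mul_inv_cancel_right]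
    have e : (⟨b * (y : G) * b⁻¹, h.conj_mem_rot y.2⟩ : rotGroup a k) = g⁻¹ := by
      refine Subtype.ext ?_
      show b * (b * x * (g : G) * (b * x)⁻¹) * b⁻¹ = (g : G)⁻¹
      rw [show b * (b * x * (g : G) * (b * x)⁻¹) * b⁻¹ = (b * b) * (x * (g : G) * x⁻¹) * (b * b)⁻¹ by
        group, h.b_sq, hi]
      simp
    have e' := h.rho_conj_b r y
    rw [e, hρy, map_inv] at e'
    rw [show 2 ^ (k - 1) = sdExp k + 1 by
      have := h.pow_eq; rw [sdExp]; omega, pow_succ, ← e', inv_mul_cancel]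

theorem conj_z_sq (h : Config S a b z k) (p : G) : p * z * p⁻¹ * (p * z * p⁻¹) = 1 := by
  rw [conj_mul, h.z_sq]; group

theorem conj_b_sq (h : Config S a b z k) (p : G) : p * b * p⁻¹ * (p * b * p⁻¹) = 1 := by
  rw [conj_mul, h.b_sq]; group

theorem inverts_of_mul {s t : G} (hs : s * s = 1) (ht : t * t = 1) :
    s * (s * t) * s⁻¹ = (s * t)⁻¹ ∧ t * (s * t) * t⁻¹ = (s * t)⁻¹ := by
  rw [mul_inv_rev, inv_eq_of_mul_eq_one_right hs, inv_eq_of_mul_eq_one_right ht]
  constructor
  · rw [← mul_assoc s s, hs, one_mul]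
  · rw [← mul_assoc t s t, mul_assoc (t * s), ht, mul_one]

/-- On the products of two conjugates of `z` the half character vanishes. -/
theorem theta_half_pairs (h : Config S a b z k) (r : RotChar a k ρ) (x : G) :
    theta ρ (2 ^ (k - 1)) (z * (x * z * x⁻¹)) = 0 := by
  rw [theta, indFun_def, Finset.sum_eq_zero, mul_zero]
  intro y _
  by_cases hm : y⁻¹ * (z * (x * z * x⁻¹)) * y ∈ rotGroup a k
  swap
  · exact extendByZero_apply_notMem _ _ hm
  rw [extendByZero_apply_mem _ _ hm]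
  show (pw 0 - pw (2 ^ (k - 1))) (ρ ⟨_, hm⟩) = 0
  by_cases hu : ρ ⟨_, hm⟩ ^ 2 = 1
  · have := h.pow_eq
    exact vanish hu (by omega)
  have e := (inverts_of_mul (h.conj_z_sq y⁻¹) (h.conj_z_sq (y⁻¹ * x))).1
  rw [show y⁻¹ * z * y⁻¹⁻¹ * (y⁻¹ * x * z * (y⁻¹ * x)⁻¹) = y⁻¹ * (z * (x * z * x⁻¹)) * y by group] at e
  have h1 := h.pow_eq_one_of_inverted r (g := ⟨_, hm⟩) hu e
  simp only [Pi.sub_apply, pw]
  rw [← Units.val_pow_eq_pow_val, ← Units.val_pow_eq_pow_val, h1, pow_zero, sub_self]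

theorem sq_ne_one_of_ne_zero {f : ℂˣ → ℂ} (hf : ∀ u : ℂˣ, u ^ 2 = 1 → f u = 0) {g : G}
    (hg : extendByZero (rotGroup a k) (lift ρ f) g ≠ 0) :
    ∃ hm : g ∈ rotGroup a k, ρ ⟨g, hm⟩ ^ 2 ≠ 1 := by
  by_cases hm : g ∈ rotGroup a k
  · rw [extendByZero_apply_mem _ _ hm] at hg
    exact ⟨hm, fun e => hg (hf _ e)⟩
  · exact absurd (extendByZero_apply_notMem _ _ hm) hg

/-- Two involutions whose product is in the support are conjugate to `b` in `C(z)`. -/
theorem pair_conj_b (h : Config S a b z k) (r : RotChar a k ρ) {f : ℂˣ → ℂ}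
    (hf : ∀ u : ℂˣ, u ^ 2 = 1 → f u = 0) {s t : G} (hs : s * s = 1) (ht : t * t = 1)
    (hne : extendByZero (rotGroup a k) (lift ρ f) (s * t) ≠ 0) :
    (∃ v : centralizer ({z} : Set G), (v : G) * b * (v : G)⁻¹ = s) ∧
      ∃ v : centralizer ({z} : Set G), (v : G) * b * (v : G)⁻¹ = t := by
  obtain ⟨hm, hu⟩ := sq_ne_one_of_ne_zero hf hne
  exact ⟨h.exists_conj_b r (g := ⟨_, hm⟩) hu hs (inverts_of_mul hs ht).1,
    h.exists_conj_b r (g := ⟨_, hm⟩) hu ht (inverts_of_mul hs ht).2⟩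

/-- A conjugate in the support of an element of `C(z)` is conjugate in `C(z)`. -/
theorem mem_C_of_support (h : Config S a b z k) (r : RotChar a k ρ) {x y : G}
    (hx : x ∈ centralizer ({z} : Set G)) (hm : y⁻¹ * x * y ∈ rotGroup a k)
    (hu : ρ ⟨_, hm⟩ ^ 2 ≠ 1) : y ∈ centralizer ({z} : Set G) := by
  obtain ⟨m, hm4, hz⟩ := h.exists_pow_four_sq r hu
  have hp : (y⁻¹ * x * y) ^ m = y⁻¹ * x ^ m * y := by
    conv_lhs => rw [show y⁻¹ * x * y = y⁻¹ * x * y⁻¹⁻¹ by group]
    rw [conj_pow, inv_inv]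
  simp only [hp] at hm4 hz
  rw [show y⁻¹ * x ^ m * y = MulAut.conj y⁻¹ (x ^ m) by simp, MulEquiv.orderOf_eq] at hm4
  have e := h.mul_self_eq_z (pow_mem hx m) hm4
  rw [show y⁻¹ * x ^ m * y * (y⁻¹ * x ^ m * y) = y⁻¹ * (x ^ m * x ^ m) * y by group, e] at hz
  refine mem_centralizer_singleton_iff.2 ?_
  rw [mul_assoc, inv_mul_eq_iff_eq_mul] at hz
  exact hz.symm

/-- An induced lift on `C(z)` is induced to `C(z)`. -/
theorem card_rot_mul_indFun (h : Config S a b z k) (r : RotChar a k ρ) {f : ℂˣ → ℂ}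
    (hf : ∀ u : ℂˣ, u ^ 2 = 1 → f u = 0) {x : G} (hx : x ∈ centralizer ({z} : Set G)) :
    (Nat.card (rotGroup a k) : ℂ) * indFun (rotGroup a k) (lift ρ f) x =
      ∑ y : ↥(centralizer ({z} : Set G)), extendByZero (rotGroup a k) (lift ρ f) ((y : G)⁻¹ * x * (y : G)) := by
  rw [indFun_def, mul_inv_cancel_left₀ (Nat.cast_ne_zero.2 Nat.card_pos.ne')]
  symm
  refine Fintype.sum_of_injective (fun y : ↥(centralizer ({z} : Set G)) => (y : G))
    Subtype.val_injective _ _ (fun y hy => by_contra fun hne => ?_) (fun _ => rfl)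
  obtain ⟨hm, hu⟩ := sq_ne_one_of_ne_zero hf hne
  exact hy ⟨⟨y, h.mem_C_of_support r hx hm hu⟩, rfl⟩

/-- Reciprocity for the restriction of an induced lift to `C(z)`. -/
theorem inner_restrict_indFun (h : Config S a b z k) (r : RotChar a k ρ) {f : ℂˣ → ℂ}
    (hf : ∀ u : ℂˣ, u ^ 2 = 1 → f u = 0) {φ : centralizer ({z} : Set G) → ℂ}
    (hφ : IsClassFunction (centralizer ({z} : Set G)) φ) :
    classInner (fun x : centralizer ({z} : Set G) => indFun (rotGroup a k) (lift ρ f) (x : G)) φ =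
      classInner (lift ρ f) fun g : rotGroup a k => φ ⟨(g : G), h.rotGroup_le g.2⟩ := by
  have hR : (Nat.card (rotGroup a k) : ℂ) ≠ 0 := Nat.cast_ne_zero.2 Nat.card_pos.ne'
  have hx : ∀ x : centralizer ({z} : Set G), indFun (rotGroup a k) (lift ρ f) (x : G) =
      (Nat.card (rotGroup a k) : ℂ)⁻¹ * ∑ y : ↥(centralizer ({z} : Set G)),
        extendByZero (rotGroup a k) (lift ρ f) ((y : G)⁻¹ * (x : G) * (y : G)) := fun x => by
    rw [← h.card_rot_mul_indFun r hf x.2, inv_mul_cancel_left₀ hR]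
  have key : ∑ g : rotGroup a k, lift ρ f g * conj (φ ⟨(g : G), h.rotGroup_le g.2⟩) =
      ∑ x : ↥(centralizer ({z} : Set G)), extendByZero (rotGroup a k) (lift ρ f) (x : G) * conj (φ x) := by
    refine Fintype.sum_of_injective (Subgroup.inclusion h.rotGroup_le)
      (Subgroup.inclusion_injective h.rotGroup_le) _ _ (fun x hx' => ?_) (fun g => ?_)
    · rw [extendByZero_apply_notMem _ _ fun hm => hx' ⟨⟨(x : G), hm⟩, rfl⟩, zero_mul]
    · rw [Subgroup.coe_inclusion, extendByZero_coe]; rfl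
  simp only [Cfsg.classInner, hx, mul_assoc, ← Finset.mul_sum, Finset.sum_mul]
  rw [Finset.sum_comm, key]
  rw [Finset.sum_congr rfl fun (y : ↥(centralizer ({z} : Set G))) _ =>
    (Fintype.sum_equiv (MulAut.conj y⁻¹).toEquiv _
      (fun x => extendByZero (rotGroup a k) (lift ρ f) (x : G) * conj (φ x)) fun x => by
        have e : φ (y⁻¹ * x * y⁻¹⁻¹) = φ x := hφ x y⁻¹
        rw [inv_inv] at e
        simp [mul_assoc] at e ⊢
        exact Or.inl (by rw [e])),
    Finset.sum_const, Finset.card_univ, nsmul_eq_mul, ← Nat.card_eq_fintype_card]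
  field_simp [Char.card_ne_zero (G := ↥(centralizer ({z} : Set G)))]

/-- A sum over the conjugates of `z` supported on the conjugates of `b` in `C(z)`. -/
theorem sum_conj_z (h : Config S a b z k) (φ : G → ℂ)
    (hsupp : ∀ p : G, φ (p * z * p⁻¹) ≠ 0 →
      ∃ v : centralizer ({z} : Set G), (v : G) * b * (v : G)⁻¹ = p * z * p⁻¹) :
    (Nat.card (centralizer ({z, b} : Set G)) : ℂ) * ∑ p : G, φ (p * z * p⁻¹) =
      (Nat.card (centralizer ({z} : Set G)) : ℂ) *
        ∑ v : ↥(centralizer ({z} : Set G)), φ ((v : G) * b * (v : G)⁻¹) := by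
  obtain ⟨t, ht⟩ := isConj_iff.1 h.b_conj
  have hP : ∀ v : centralizer ({z} : Set G),
      (Finset.univ.filter fun p : G => p * z * p⁻¹ = (v : G) * b * (v : G)⁻¹).card =
        Nat.card (centralizer ({z} : Set G)) := by
    intro v
    rw [Nat.card_eq_fintype_card, Fintype.card_subtype]
    refine Finset.card_equiv (Equiv.mulLeft ((v : G) * t)⁻¹) fun p => ?_
    simp only [Finset.mem_filter, Finset.mem_univ, true_and, Equiv.coe_mulLeft,
      mem_centralizer_singleton_iff, ← ht]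
    rw [mul_inv_eq_iff_eq_mul]
    constructor
    · intro e
      rw [mul_assoc, e]; group
    · intro e
      rw [mul_assoc, inv_mul_eq_iff_eq_mul] at e
      rw [e]; group
  have hV : ∀ v₀ : centralizer ({z} : Set G),
      (Finset.univ.filter fun v : ↥(centralizer ({z} : Set G)) =>
        (v : G) * b * (v : G)⁻¹ = (v₀ : G) * b * (v₀ : G)⁻¹).card =
        Nat.card (centralizer ({z, b} : Set G)) := by
    intro v₀
    rw [← Fintype.card_subtype, ← Nat.card_eq_fintype_card]
    refine Nat.card_congr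
      { toFun := fun v => ⟨(v₀ : G)⁻¹ * ((v : ↥(centralizer ({z} : Set G))) : G),
          mem_centralizer_iff.2 ?_⟩
        invFun := fun u => ⟨⟨(v₀ : G) * (u : G), mul_mem v₀.2 (mem_centralizer_iff.2 fun w hw => ?_)⟩, ?_⟩
        left_inv := fun v => Subtype.ext (Subtype.ext (mul_inv_cancel_left _ _))
        right_inv := fun u => Subtype.ext (inv_mul_cancel_left _ _) }
    · rintro w (rfl | rfl)
      · exact mem_centralizer_iff.1 (mul_mem (inv_mem v₀.2) v.1.2) w rfl
      · have e : ((v : ↥(centralizer ({z} : Set G))) : G) * w *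
            ((v : ↥(centralizer ({z} : Set G))) : G)⁻¹ = (v₀ : G) * w * (v₀ : G)⁻¹ := v.2
        generalize ((v : ↥(centralizer ({z} : Set G))) : G) = v' at e ⊢
        rw [mul_inv_eq_iff_eq_mul] at e
        rw [mul_assoc _ v' w, e]; group
    · rw [Set.mem_singleton_iff.1 hw]
      exact mem_centralizer_iff.1 u.2 z (Or.inl rfl)
    · have e : b * (u : G) = (u : G) * b := mem_centralizer_iff.1 u.2 b (Or.inr rfl)
      rw [mul_inv_eq_iff_eq_mul, mul_assoc, ← e]
      group
  have h1 : ∀ p : G, (Nat.card (centralizer ({z, b} : Set G)) : ℂ) * φ (p * z * p⁻¹) =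
      ∑ v : ↥(centralizer ({z} : Set G)),
        if p * z * p⁻¹ = (v : G) * b * (v : G)⁻¹ then φ ((v : G) * b * (v : G)⁻¹) else 0 := by
    intro p
    rw [← Finset.sum_filter, Finset.sum_congr rfl (g := fun _ => φ (p * z * p⁻¹))
      fun v hv => by rw [(Finset.mem_filter.1 hv).2], Finset.sum_const, nsmul_eq_mul]
    by_cases h0 : φ (p * z * p⁻¹) = 0
    · rw [h0, mul_zero, mul_zero]
    obtain ⟨v₀, hv₀⟩ := hsupp p h0
    congr 2
    rw [← hV v₀, hv₀]
    exact congrArg Finset.card (Finset.filter_congr fun v _ => eq_comm)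
  rw [Finset.mul_sum, Finset.sum_congr rfl fun p _ => h1 p, Finset.sum_comm, Finset.mul_sum]
  refine Finset.sum_congr rfl fun v _ => ?_
  rw [← Finset.sum_filter, Finset.sum_const, nsmul_eq_mul, hP]

/-- The restriction of the quarter character to `C(z)` is `1 - σ ± ψ`, with `ψ b = 0`. -/
theorem sum_theta_b (h : Config S a b z k) (r : RotChar a k ρ) (l : Line z b σ Q) :
    (Q : ℂ) * ∑ v : ↥(centralizer ({z} : Set G)),
        theta ρ (2 ^ (k - 2)) (b * ((v : G) * b * (v : G)⁻¹)) =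
      (Nat.card (centralizer ({z} : Set G)) : ℂ) * ((Q : ℂ) - 1) := by
  obtain ⟨e1, e2, e3⟩ := h.pow_eq
  have hev : 2 ^ (k - 2) % 2 = 0 := by
    rw [show k - 2 = (k - 3) + 1 by have := h.three_le; omega, pow_succ]; omega
  set q := 2 ^ (k - 2) with hq
  have hf : ∀ u : ℂˣ, u ^ 2 = 1 → (pw 0 - pw q) u = 0 := fun u hu => vanish hu (by omega)
  set θ : centralizer ({z} : Set G) → ℂ := fun x => theta ρ q (x : G) with hθ
  have hgen : IsGeneralizedCharacter (centralizer ({z} : Set G)) θ := by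
    obtain ⟨χ, χ', h1, h2, h3⟩ := theta_gen (ρ := ρ) q
    exact ⟨_, _, IsCharacter.restrict h1 _, IsCharacter.restrict h2 _, funext fun x => by
      simp only [hθ, h3, Pi.sub_apply]⟩
  have hinner : ∀ {φ : centralizer ({z} : Set G) → ℂ}, IsClassFunction _ φ → classInner θ φ =
      classInner (lift ρ (pw 0 - pw q)) fun g : rotGroup a k => φ ⟨(g : G), h.rotGroup_le g.2⟩ :=
    fun hφ => h.inner_restrict_indFun r hf hφ
  have hone : classInner (lift ρ (pw 0 - pw q)) (fun _ : rotGroup a k => 1) = 1 := by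
    rw [← classInner_indFun _ _ (χ := fun _ : G => 1) (fun _ _ => rfl)]
    show classInner (diff ρ 0 q) _ = 1
    rw [inner_one r, Nat.zero_mod, if_pos rfl, Nat.mod_eq_of_lt (by omega), if_neg (by omega), sub_zero]
  obtain ⟨e, he, hirr⟩ := l.irr
  set κ : IrrCharacter (centralizer ({z} : Set G)) := ⟨_, hirr⟩ with hκdef
  set u := Blocks.trivChar ↥(centralizer ({z} : Set G)) with hu
  have cu : coeff θ u = 1 := by
    apply Int.cast_injective (α := ℂ)
    rw [cast_coeff hgen, hinner (IsIrrCharacter.isClassFunction u.2), Int.cast_one, ← hone]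
    exact congrArg _ (funext fun g => Blocks.trivChar_apply _)
  have cκ : coeff θ κ = -e := by
    apply Int.cast_injective (α := ℂ)
    rw [cast_coeff hgen, hinner (IsIrrCharacter.isClassFunction κ.2)]
    push_cast
    calc _ = -(e : ℂ) * classInner (lift ρ (pw 0 - pw q)) (fun _ : rotGroup a k => 1) := by
          simp only [Cfsg.classInner, Finset.mul_sum]
          refine Finset.sum_congr rfl fun g _ => ?_
          by_cases hg : ρ g ^ 2 = 1
          · rw [show lift ρ (pw 0 - pw q) g = 0 from hf _ hg]; ring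
          · simp only [hκdef]
            rw [l.rot ⟨(g : G), h.rotGroup_le g.2⟩ (h.four_dvd_orderOf r hg)]
            simp only [map_mul, map_neg, map_one, map_intCast]
            ring
      _ = _ := by rw [hone, mul_one]
  have hnorm : ∑ χ, coeff θ χ * coeff θ χ = 3 := by
    apply Int.cast_injective (α := ℂ)
    rw [← classInner_eq_sum_coeff hgen hgen, hinner (IsGeneralizedCharacter.isClassFunction hgen)]
    show classInner (lift ρ (pw 0 - pw q)) (fun g : rotGroup a k => theta ρ q (g : G)) = _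
    rw [← classInner_indFun _ _ (IsGeneralizedCharacter.isClassFunction (theta_gen q))]
    show classInner (theta ρ q) (theta ρ q) = _
    rw [classInner_eq_sum_coeff (theta_gen q) (theta_gen q),
      h.sum_coeff_theta r hev hev (by omega) (by omega) (by omega) (by omega), if_pos rfl,
      if_neg (by omega)]
    norm_num
  have hκu : u ≠ κ := by
    intro heq
    have h1 := congrFun (congrArg Subtype.val heq) 1
    simp only [hκdef, l.one, hu, Blocks.trivChar_apply] at h1
    rw [← Int.cast_mul, ← Int.cast_one, Int.cast_inj] at h1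
    have := l.three_le
    rcases he with rfl | rfl <;> omega
  obtain ⟨χ₁, χ₂, h12, hu1, hu2, -, -, hz0⟩ := norm_three cu hnorm
  obtain ⟨ψ, hψκ, huψ, hzero⟩ : ∃ ψ, κ ≠ ψ ∧ u ≠ ψ ∧
      ∀ i, i ≠ u → i ≠ κ → i ≠ ψ → coeff θ i = 0 := by
    rcases em (κ = χ₁) with rfl | hn1
    · exact ⟨χ₂, h12, hu2, hz0⟩
    rcases em (κ = χ₂) with rfl | hn2
    · exact ⟨χ₁, h12.symm, hu1, fun i x y w => hz0 i x w y⟩
    · have := hz0 κ hκu.symm hn1 hn2
      rw [cκ] at this
      rcases he with rfl | rfl <;> omega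
  set b' : centralizer ({z} : Set G) := ⟨b, h.b_mem_C⟩ with hb'
  have hσb : σ b' = 1 := l.refl b' ⟨1, Commute.one_right b, by simp, by simp [hb']⟩
  have hsum : ∀ F : IrrCharacter (centralizer ({z} : Set G)) → ℂ,
      ∑ χ, (coeff θ χ : ℂ) * F χ = F u - (e : ℂ) * F κ + (coeff θ ψ : ℂ) * F ψ := by
    intro F
    rw [← Finset.sum_subset (Finset.subset_univ ({u, κ, ψ} : Finset _)) fun i _ hi => by
        simp only [Finset.mem_insert, Finset.mem_singleton, not_or] at hi
        rw [hzero i hi.1 hi.2.1 hi.2.2, Int.cast_zero, zero_mul],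
      Finset.sum_insert (by simp [hκu, huψ]), Finset.sum_insert (by simp [hψκ]), Finset.sum_singleton,
      cu, cκ]
    push_cast; ring
  have heC : (e : ℂ) * e = 1 := by rcases he with rfl | rfl <;> norm_num
  have hψb : (coeff θ ψ : ℂ) * (ψ : centralizer ({z} : Set G) → ℂ) b' = 0 := by
    have hb0 : θ b' = 0 := h.theta_eq_zero r hev (by
      show ¬ 4 ∣ orderOf b
      rw [h.orderOf_b]; norm_num)
    have h2 := hsum fun χ => (χ : centralizer ({z} : Set G) → ℂ) b'
    rw [← eq_sum_coeff hgen, hb0] at h2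
    simp only [hκdef, hu, Blocks.trivChar_apply, hσb] at h2
    linear_combination -h2 + heC
  have hv : ∀ v : centralizer ({z} : Set G), theta ρ q (b * ((v : G) * b * (v : G)⁻¹)) =
      ∑ χ, (coeff θ χ : ℂ) * (χ : centralizer ({z} : Set G) → ℂ) (b' * (v * b' * v⁻¹)) := fun v => by
    rw [← eq_sum_coeff hgen]
    simp [hθ, hb']
  rw [Finset.sum_congr rfl fun v _ => hv v, Finset.sum_comm]
  simp only [← Finset.mul_sum]
  rw [hsum, IsIrrCharacter.sum_mul_conjugate u.2, IsIrrCharacter.sum_mul_conjugate κ.2,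
    IsIrrCharacter.sum_mul_conjugate ψ.2]
  simp only [hκdef, hu, Blocks.trivChar_apply, hσb, l.one]
  have hQ : (Q : ℂ) ≠ 0 := Int.cast_ne_zero.2 fun q0 => by have := l.three_le; omega
  have he0 : (e : ℂ) ≠ 0 := by rcases he with rfl | rfl <;> norm_num
  rw [show (coeff θ ψ : ℂ) * ((Nat.card ↥(centralizer ({z} : Set G)) : ℂ) *
      (ψ : centralizer ({z} : Set G) → ℂ) b' * (ψ : centralizer ({z} : Set G) → ℂ) b' /
      (ψ : centralizer ({z} : Set G) → ℂ) 1) = 0 by
    rw [show ∀ s c p d : ℂ, s * (c * p * p / d) = (s * p) * (c * p / d) by intros; ring, hψb,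
      zero_mul]]
  field_simp
  linear_combination (-(Nat.card ↥(centralizer ({z} : Set G)) : ℂ)) * heC

/-- The sum of the quarter character over the products of two conjugates of `z`. -/
theorem sum_theta_quarter (h : Config S a b z k) (r : RotChar a k ρ) (l : Line z b σ Q) :
    (Nat.card (centralizer ({z, b} : Set G)) : ℂ) ^ 2 * (Q : ℂ) *
        ∑ x : G, theta ρ (2 ^ (k - 2)) (z * (x * z * x⁻¹)) =
      (Nat.card (centralizer ({z} : Set G)) : ℂ) ^ 3 * ((Q : ℂ) - 1) := by
  obtain ⟨e1, e2, e3⟩ := h.pow_eq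
  have hev : 2 ^ (k - 2) % 2 = 0 := by
    rw [show k - 2 = (k - 3) + 1 by have := h.three_le; omega, pow_succ]; omega
  set q := 2 ^ (k - 2) with hq
  have hf : ∀ u : ℂˣ, u ^ 2 = 1 → (pw 0 - pw q) u = 0 := fun u hu => vanish hu (by omega)
  set F := extendByZero (rotGroup a k) (lift ρ (pw 0 - pw q)) with hF
  set R : ℂ := (Nat.card (rotGroup a k) : ℂ) with hR
  set c : ℂ := (Nat.card (centralizer ({z} : Set G)) : ℂ) with hc
  set w : ℂ := (Nat.card (centralizer ({z, b} : Set G)) : ℂ) with hw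
  have hR0 : R ≠ 0 := Nat.cast_ne_zero.2 Nat.card_pos.ne'
  have hall : R * ∑ x : G, theta ρ q (z * (x * z * x⁻¹)) =
      ∑ p : G, ∑ p' : G, F (p * z * p⁻¹ * (p' * z * p'⁻¹)) := by
    simp only [theta, indFun_def, ← Finset.mul_sum, hR]
    rw [mul_inv_cancel_left₀ hR0, Finset.sum_comm]
    refine Fintype.sum_equiv (Equiv.inv G) _ _ fun y => ?_
    refine Fintype.sum_equiv (Equiv.mulLeft y⁻¹) _ _ fun x => ?_
    simp only [Equiv.inv_apply, Equiv.coe_mulLeft, hF]
    congr 1
    group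
  have hrow : ∀ v : centralizer ({z} : Set G),
      w * ∑ p : G, F ((v : G) * b * (v : G)⁻¹ * (p * z * p⁻¹)) =
        c * ∑ v' : ↥(centralizer ({z} : Set G)),
          F ((v : G) * b * (v : G)⁻¹ * ((v' : G) * b * (v' : G)⁻¹)) := fun v =>
    h.sum_conj_z (fun t => F ((v : G) * b * (v : G)⁻¹ * t)) fun p hne =>
      (h.pair_conj_b r hf (h.conj_b_sq _) (h.conj_z_sq p) hne).2
  have hcol : w * ∑ p : G, ∑ p' : G, F (p * z * p⁻¹ * (p' * z * p'⁻¹)) =
      c * ∑ v : ↥(centralizer ({z} : Set G)), ∑ p' : G, F ((v : G) * b * (v : G)⁻¹ * (p' * z * p'⁻¹)) :=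
    h.sum_conj_z (fun s => ∑ p' : G, F (s * (p' * z * p'⁻¹))) fun p hne => by
      obtain ⟨p', -, hp'⟩ := Finset.exists_ne_zero_of_sum_ne_zero hne
      exact (h.pair_conj_b r hf (h.conj_z_sq p) (h.conj_z_sq p') hp').1
  have hdiag : ∑ v : ↥(centralizer ({z} : Set G)), ∑ v' : ↥(centralizer ({z} : Set G)),
        F ((v : G) * b * (v : G)⁻¹ * ((v' : G) * b * (v' : G)⁻¹)) =
      R * ∑ v : ↥(centralizer ({z} : Set G)), theta ρ q (b * ((v : G) * b * (v : G)⁻¹)) := by
    rw [Finset.mul_sum, Finset.sum_congr rfl fun (u : ↥(centralizer ({z} : Set G))) _ => show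
      R * theta ρ q (b * ((u : G) * b * (u : G)⁻¹)) = ∑ y : ↥(centralizer ({z} : Set G)),
        F ((y : G)⁻¹ * (b * ((u : G) * b * (u : G)⁻¹)) * (y : G)) from
      h.card_rot_mul_indFun r hf (mul_mem h.b_mem_C (mul_mem (mul_mem u.2 h.b_mem_C) (inv_mem u.2)))]
    rw [Finset.sum_comm (γ := ↥(centralizer ({z} : Set G)))
      (f := fun (u y : ↥(centralizer ({z} : Set G))) =>
        F ((y : G)⁻¹ * (b * ((u : G) * b * (u : G)⁻¹)) * (y : G)))]
    refine Fintype.sum_equiv (Equiv.inv _) _ _ fun v => ?_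
    refine Fintype.sum_equiv (Equiv.mulLeft v⁻¹) _ _ fun v' => ?_
    simp only [Equiv.inv_apply, Equiv.coe_mulLeft, Subgroup.coe_mul, Subgroup.coe_inv]
    congr 1
    group
  refine mul_left_cancel₀ hR0 ?_
  calc R * (w ^ 2 * (Q : ℂ) * ∑ x : G, theta ρ q (z * (x * z * x⁻¹)))
      = (Q : ℂ) * w * (w * (R * ∑ x : G, theta ρ q (z * (x * z * x⁻¹)))) := by ring
    _ = (Q : ℂ) * c * ∑ v : ↥(centralizer ({z} : Set G)),
          w * ∑ p : G, F ((v : G) * b * (v : G)⁻¹ * (p * z * p⁻¹)) := by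
        rw [hall, hcol, ← Finset.mul_sum]; ring
    _ = c * c * R * ((Q : ℂ) * ∑ v : ↥(centralizer ({z} : Set G)),
          theta ρ q (b * ((v : G) * b * (v : G)⁻¹))) := by
        rw [Finset.sum_congr rfl fun v _ => hrow v, ← Finset.mul_sum, hdiag]; ring
    _ = R * (c ^ 3 * ((Q : ℂ) - 1)) := by
        rw [h.sum_theta_b r l]; ring

end Config

end CfsgLib.SDBlock
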