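import Cfsg.Agent.Lib.SDBlock.Coords

/-!
# The values of the exceptional characters at `z`

The signed characters `X`, `E`, `Y`, `Y'` take the values `Q`, `Q - 1`, `Q`, `-1` at `z`.
-/

set_option autoImplicit false
set_option linter.unusedSectionVars false

namespace CfsgLib.SDBlock

open Cfsg Subgroup CfsgLib.Char CfsgLib.BrauerSuzuki
open scoped Classical ComplexConjugate

/-- The small solutions of the Bessel inequality and the congruence. -/
theorem small_coords {m α β : ℤ} (hm : 2 ≤ m) (hb : m * (α + β) ^ 2 + (α - β) ^ 2 < 4 * m + 2)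
    (hc : 2 * m ∣ α - β + 1) : (α = 0 ∧ β = 1) ∨ (α = -1 ∧ β = 0) := by
  obtain ⟨t, ht⟩ := hc
  have hs : α + β ≤ 1 ∧ -1 ≤ α + β := by
    have hpar : α + β = 2 * (α - m * t) + 1 := by linear_combination -ht
    constructor <;> by_contra hh <;> push Not at hh
    · have h3 : 3 ≤ α + β := by omega
      nlinarith [mul_le_mul_of_nonneg_left (mul_le_mul h3 h3 (by norm_num) (by omega))
        (show (0 : ℤ) ≤ m by omega)]
    · have h3 : 3 ≤ -(α + β) := by omega
      nlinarith [mul_le_mul_of_nonneg_left (mul_le_mul h3 h3 (by norm_num) (by omega))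
        (show (0 : ℤ) ≤ m by omega)]
  have hodd : (α + β) ^ 2 = 1 := by
    have : α + β = 1 ∨ α + β = -1 := by
      have hpar : α + β = 2 * (α - m * t) + 1 := by linear_combination -ht
      omega
    rcases this with e | e <;> rw [e] <;> norm_num
  rw [hodd, mul_one] at hb
  have ht0 : t = 0 := by
    by_contra h0
    rcases lt_or_gt_of_ne h0 with h1 | h1
    · have hd : α - β ≤ -(2 * m) - 1 := by nlinarith
      nlinarith
    · have hd : 2 * m - 1 ≤ α - β := by nlinarith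
      nlinarith
  rw [ht0, mul_zero] at ht
  omega

variable {G : Type*} [Group G] [Fintype G] {a : G} {k : ℕ} {ρ : rotGroup a k →* ℂˣ}
variable {S : Sylow 2 G} {b z : G} {σ : centralizer ({z} : Set G) → ℂ} {Q : ℤ}

/-- The signed constituents of the two thetas and their values at `z`. -/
structure Values (a : G) (k : ℕ) (ρ : rotGroup a k →* ℂˣ) (z : G) (Q : ℤ)
    (X E Y Y' : IrrCharacter G) (sx se s t : ℤ) : Prop where
  sx_sq : sx * sx = 1
  se_sq : se * se = 1
  s_sq : s * s = 1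
  t_sq : t * t = 1
  quarter : ∀ g : G, theta ρ (2 ^ (k - 2)) g
      = 1 - (sx : ℂ) * (X : G → ℂ) g + (se : ℂ) * (E : G → ℂ) g
  half : ∀ g : G, theta ρ (2 ^ (k - 1)) g
      = 1 - (sx : ℂ) * (X : G → ℂ) g + (s : ℂ) * (Y : G → ℂ) g + (t : ℂ) * (Y' : G → ℂ) g
  at_X : (sx : ℂ) * (X : G → ℂ) z = (Q : ℂ)
  at_E : (se : ℂ) * (E : G → ℂ) z = (Q : ℂ) - 1
  at_Y : (s : ℂ) * (Y : G → ℂ) z = (Q : ℂ)
  at_Y' : (t : ℂ) * (Y' : G → ℂ) z = -1
  deg_ne : t * (charDegree (Y' : G → ℂ) : ℤ) ≠ -1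

namespace Config

theorem coeff_theta_zero (χ : IrrCharacter G) : coeff (theta ρ 0) χ = 0 := by
  have e : theta ρ 0 = fun _ => 0 := funext fun g => by
    rw [theta, indFun_def, Finset.sum_eq_zero, mul_zero]
    intro x _
    by_cases hm : x⁻¹ * g * x ∈ rotGroup a k
    · rw [extendByZero_apply_mem _ _ hm, lift, sub_self]; rfl
    · rw [extendByZero_apply_notMem _ _ hm]
  simp [coeff, e, Cfsg.classInner]

/-- A linear character is trivial on the Sylow subgroup. -/
theorem apply_a_of_linear (h : Config S a b z k) {χ : IrrCharacter G}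
    (h1 : (χ : G → ℂ) 1 = 1) (j : ℕ) : (χ : G → ℂ) (a ^ j) = 1 := by
  obtain ⟨φ, hφ⟩ := exists_hom_of_apply_one_eq_one (isCharacter_irr χ) h1
  obtain ⟨e1, e2, e3⟩ := h.pow_eq
  have hconj : ∀ {u v : G}, IsConj u v → φ u = φ v := fun huv => by
    obtain ⟨c, rfl⟩ := isConj_iff.1 huv
    rw [map_mul, map_mul, map_inv, mul_comm (φ c), mul_inv_cancel_right]
  have hb : φ b = φ a ^ 2 ^ (k - 1) := by rw [← hconj h.b_conj, h.z_eq, map_pow]
  have hq : φ a ^ 2 ^ (k - 2) = φ b * φ a := by rw [← map_pow, hconj h.four_conj, map_mul]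
  have hk : φ a ^ 2 ^ k = 1 := by rw [← map_pow, ← h.ord_a, pow_orderOf_eq_one, map_one]
  rw [hb, ← pow_succ] at hq
  have hq' : φ a ^ (2 ^ (k - 2) + 1) = 1 := by
    apply mul_left_cancel (a := φ a ^ 2 ^ (k - 2))
    rw [← pow_add, show 2 ^ (k - 2) + (2 ^ (k - 2) + 1) = 2 ^ (k - 1) + 1 by omega, ← hq, mul_one]
  have hcop : (2 ^ (k - 2) + 1).gcd (2 ^ k) = 1 := by
    refine Nat.Coprime.pow_right k (Nat.coprime_two_right.2 ?_)
    rw [Nat.odd_iff, show k - 2 = (k - 3) + 1 by have := h.three_le; omega, pow_succ]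
    omega
  have ha : φ a = 1 := by
    have := pow_gcd_eq_one.2 ⟨hq', hk⟩
    rwa [hcop, pow_one] at this
  rw [hφ]
  simp [ha]

/-- Values of the exceptional characters. -/
theorem exists_values (h : Config S a b z k) (r : RotChar a k ρ) (l : Line z b σ Q)
    {M : Ideal AlgInt} (hM : IsPModular 2 M) :
    ∃ (X E Y Y' : IrrCharacter G) (sx se s t : ℤ), Values a k ρ z Q X E Y Y' sx se s t := by
  obtain ⟨X, E, Y₁, Y₂, sx, se, s₁, s₂, F⟩ := h.exists_family r
  obtain ⟨e1, e2, e3⟩ := h.pow_eq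
  have hk := h.three_le
  set q := 2 ^ (k - 2) with hq
  set hh := 2 ^ (k - 1) with hhh
  have hqe : q % 2 = 0 := by rw [hq, show k - 2 = (k - 3) + 1 by omega, pow_succ]; omega
  have hm0 : (0 : ℕ) ∈ evens k := by simp [evens]
  have hevens : ∀ m ∈ evens k, m ≠ 0 → m % 2 = 0 ∧ 0 < m ∧ m < 2 ^ k := fun m hm h0 => by
    simp [evens] at hm; omega
  have hcard : ((evens k).erase 0).card = hh - 1 := by
    rw [Finset.card_erase_of_mem hm0, (card_evens (by omega)).1]
  -- the sums of the coefficients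
  have sX : ∑ m ∈ evens k, coeff (theta ρ m) X = -(sx * ((hh : ℤ) - 1)) ∧
      ∑ m ∈ evens k, coeff (theta ρ m) X ^ 2 = (hh : ℤ) - 1 := by
    have e : ∀ m ∈ (evens k).erase 0, coeff (theta ρ m) X = -sx := fun m hm => by
      obtain ⟨hm1, hm2⟩ := Finset.mem_erase.1 hm
      obtain ⟨a1, a2, a3⟩ := hevens m hm2 hm1
      exact F.at_X m a1 a2 a3
    constructor
    · rw [← Finset.add_sum_erase _ _ hm0, coeff_theta_zero, Finset.sum_congr rfl e,
        Finset.sum_const, hcard, nsmul_eq_mul, Nat.cast_sub (by omega)]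
      push_cast; ring
    · rw [← Finset.add_sum_erase _ _ hm0, coeff_theta_zero,
        Finset.sum_congr rfl (g := fun _ => (1 : ℤ)) fun m hm => by
          rw [e m hm]; rcases F.sx_sq with p | p <;> rw [p] <;> norm_num,
        Finset.sum_const, hcard, nsmul_eq_mul, Nat.cast_sub (by omega)]
      push_cast; ring
  have sE : ∑ m ∈ evens k, coeff (theta ρ m) E = 2 * se ∧
      ∑ m ∈ evens k, coeff (theta ρ m) E ^ 2 = 2 := by
    have hsub : ({q, 3 * q} : Finset ℕ) ⊆ evens k := by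
      intro m hm
      simp only [Finset.mem_insert, Finset.mem_singleton] at hm
      simp only [evens, Finset.mem_filter, Finset.mem_range]
      omega
    have hz : ∀ m ∈ evens k, m ∉ ({q, 3 * q} : Finset ℕ) → coeff (theta ρ m) E = 0 := by
      intro m hm hn
      simp only [Finset.mem_insert, Finset.mem_singleton, not_or] at hn
      by_cases h0 : m = 0
      · rw [h0, coeff_theta_zero]
      obtain ⟨a1, a2, a3⟩ := hevens m hm h0
      exact F.at_E m a1 a2 a3 hn.1 hn.2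
    rw [← Finset.sum_subset hsub hz, ← Finset.sum_subset hsub (f := fun m => coeff (theta ρ m) E ^ 2)
      fun m hm hn => by rw [hz m hm hn]; norm_num,
      Finset.sum_pair (by omega), Finset.sum_pair (by omega), F.at_E₀ q (Or.inl rfl),
      F.at_E₀ (3 * q) (Or.inr rfl)]
    rcases F.se_sq with p | p <;> rw [p] <;> norm_num
  have sY : ∀ (Y : IrrCharacter G) (s : ℤ), s * s = 1 → coeff (theta ρ hh) Y = s →
      (∀ m, m % 2 = 0 → 0 < m → m < 2 ^ k → m ≠ hh → coeff (theta ρ m) Y = 0) →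
      ∑ m ∈ evens k, coeff (theta ρ m) Y = s ∧ ∑ m ∈ evens k, coeff (theta ρ m) Y ^ 2 = 1 := by
    intro Y s hs h0 hz'
    have hmem : hh ∈ evens k := by
      simp only [evens, Finset.mem_filter, Finset.mem_range]; omega
    have hz : ∀ m ∈ evens k, m ≠ hh → coeff (theta ρ m) Y = 0 := fun m hm hne => by
      by_cases hm0 : m = 0
      · rw [hm0, coeff_theta_zero]
      obtain ⟨a1, a2, a3⟩ := hevens m hm hm0
      exact hz' m a1 a2 a3 hne
    rw [Finset.sum_eq_single_of_mem hh hmem hz, Finset.sum_eq_single_of_mem hh hmem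
      fun m hm hne => by rw [hz m hm hne]; norm_num, h0, sq, hs]
    exact ⟨rfl, rfl⟩
  obtain ⟨tY1, tY1'⟩ := sY Y₁ s₁ (by rcases F.s₁_sq with p | p <;> rw [p] <;> norm_num) F.at_Y₀.1
    fun m a1 a2 a3 a4 => (F.at_Y m a1 a2 a3 a4).1
  obtain ⟨tY2, tY2'⟩ := sY Y₂ s₂ (by rcases F.s₂_sq with p | p <;> rw [p] <;> norm_num) F.at_Y₀.2
    fun m a1 a2 a3 a4 => (F.at_Y m a1 a2 a3 a4).2
  -- coordinates
  have hB : ∀ (χ : IrrCharacter G) (m : ℕ), m % 2 = 0 → coeff (theta ρ m) χ ≠ 0 →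
      χ ∈ principalBlock M G := fun χ m hm hc => h.mem_block_of_coeff r hM hm hc
  have hXB : X ∈ principalBlock M G := hB X q hqe (by
    rw [F.at_X q hqe (by omega) (by omega)]; rcases F.sx_sq with p | p <;> omega)
  have hEB : E ∈ principalBlock M G := hB E q hqe (by
    rw [F.at_E₀ q (Or.inl rfl)]; rcases F.se_sq with p | p <;> omega)
  have hY1B : Y₁ ∈ principalBlock M G := hB Y₁ hh (by omega) (by
    rw [F.at_Y₀.1]; rcases F.s₁_sq with p | p <;> omega)
  have hY2B : Y₂ ∈ principalBlock M G := hB Y₂ hh (by omega) (by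
    rw [F.at_Y₀.2]; rcases F.s₂_sq with p | p <;> omega)
  obtain ⟨αx, βx, hzx, habx⟩ := h.exists_coords l hM hXB
  obtain ⟨αe, βe, hze, habe⟩ := h.exists_coords l hM hEB
  obtain ⟨α₁, β₁, hz1, hab1⟩ := h.exists_coords l hM hY1B
  obtain ⟨α₂, β₂, hz2, hab2⟩ := h.exists_coords l hM hY2B
  obtain ⟨⟨u, hu⟩, -⟩ := h.dvd_Q_add_one l
  have hmq : (2 : ℤ) ≤ (q : ℤ) := by exact_mod_cast e3
  have hhz : (hh : ℤ) = 2 * (q : ℤ) := by exact_mod_cast e2
  have p1 : (2 : ℤ) ^ (k - 2) = (q : ℤ) := by rw [hq]; push_cast; rfl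
  have p2 : (2 : ℤ) ^ k = 4 * (q : ℤ) := by
    rw [← p1, show (4 : ℤ) = 2 ^ 2 from rfl, ← pow_add, show 2 + (k - 2) = k by omega]
  have p3 : (2 : ℤ) ^ (k + 1) = 8 * (q : ℤ) := by rw [pow_succ, p2]; ring
  -- one candidate
  have cand : ∀ {χ : IrrCharacter G} {s α β : ℤ}, χ ∈ principalBlock M G → s * s = 1 →
      (χ : G → ℂ) z = ((α + β * Q : ℤ) : ℂ) →
      (∀ y : centralizer ({z} : Set G), Odd (orderOf (y : G)) →
        (χ : G → ℂ) (z * (y : G)) = (α : ℂ) + (β : ℂ) * σ y) →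
      (∀ m, m % 2 = 1 → coeff (diff ρ 1 m) χ = 0) →
      (2 ^ k * (∑ m ∈ evens k, coeff (theta ρ m) χ ^ 2)
        - 2 * (∑ m ∈ evens k, coeff (theta ρ m) χ) ^ 2 = 4 * (q : ℤ) - 2) →
      ((hh : ℤ) ∣ s * (∑ m ∈ evens k, coeff (theta ρ m) χ) - 1) →
      (s * α = 0 ∧ s * β = 1) ∨ (s * α = -1 ∧ s * β = 0) := by
    intro χ s α β hχ hs hzv hab hd hval hcg
    have hb := h.bound_coords r l hM hχ hab
    obtain ⟨v, hv⟩ := h.congr_coords r hM hχ hd hzv
    obtain ⟨w, hw⟩ := hcg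
    rw [p1, p2, p3] at hb
    rw [p2] at hval
    refine small_coords hmq ?_ ⟨s * v - w - s * β * u, ?_⟩
    · rw [show (s * α + s * β) ^ 2 = (s * s) * (α + β) ^ 2 by ring,
        show (s * α - s * β) ^ 2 = (s * s) * (α - β) ^ 2 by ring, hs, one_mul, one_mul]
      linarith
    · rw [← hhz]
      linear_combination s * hv - hw - s * β * hu
  have hqz : ∀ y : centralizer ({z} : Set G), Odd (orderOf (y : G)) →
      ¬ 4 ∣ orderOf (z * (y : G)) := fun y hy =>
    (invol_mul_not h.orderOf_z (h.z_comm y) hy).2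
  have hsqx : sx * sx = 1 := by rcases F.sx_sq with p | p <;> rw [p] <;> norm_num
  have hsqe : se * se = 1 := by rcases F.se_sq with p | p <;> rw [p] <;> norm_num
  have hsq1 : s₁ * s₁ = 1 := by rcases F.s₁_sq with p | p <;> rw [p] <;> norm_num
  have hsq2 : s₂ * s₂ = 1 := by rcases F.s₂_sq with p | p <;> rw [p] <;> norm_num
  obtain ⟨relα, relβ⟩ : se * αe = sx * αx - 1 ∧ se * βe = sx * βx :=
    h.coords_unique l fun y hy => by
      have e := F.quarter (z * (y : G))
      rw [h.theta_eq_zero r hqe (hqz y hy), habx y hy, habe y hy] at e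
      push_cast
      linear_combination -e
  obtain ⟨hXa, hXb⟩ : sx * αx = 0 ∧ sx * βx = 1 := by
    refine (cand hXB hsqx hzx habx (fun m hm => (F.diff_XE 1 m rfl hm).1) ?_ ?_).resolve_right
      fun ⟨ca, cb⟩ => ?_
    · rw [sX.1, sX.2, hhz, p2]
      linear_combination (-2 * (2 * (q : ℤ) - 1) ^ 2) * hsqx
    · exact ⟨-1, by rw [sX.1]; linear_combination (1 - (hh : ℤ)) * hsqx⟩
    · have hb := h.bound_coords r l hM hEB habe
      rw [sE.1, sE.2, p1, p2, p3] at hb
      rw [ca] at relα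
      rw [cb] at relβ
      have hae : αe = -2 * se := by linear_combination -αe * hsqe + se * relα
      have hbe : βe = 0 := by linear_combination -βe * hsqe + se * relβ
      rw [hae, hbe] at hb
      nlinarith
  rw [hXa] at relα
  rw [hXb] at relβ
  obtain ⟨relY, relY'⟩ : s₁ * α₁ + s₂ * α₂ = -1 ∧ s₁ * β₁ + s₂ * β₂ = 1 :=
    h.coords_unique l fun y hy => by
      have e := F.half (z * (y : G))
      rw [h.theta_eq_zero r (by omega) (hqz y hy), habx y hy, hab1 y hy, hab2 y hy] at e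
      have c1 : (sx : ℂ) * αx = 0 := by exact_mod_cast hXa
      have c2 : (sx : ℂ) * βx = 1 := by exact_mod_cast hXb
      push_cast
      linear_combination -e + c1 + σ y * c2
  have hF1 : ∀ m, m % 2 = 1 → coeff (diff ρ 1 m) Y₁ = 0 ∧ coeff (diff ρ 1 m) Y₂ = 0 := by
    intro m hm
    refine (F.diff_Y 1 m rfl hm).resolve_right fun ⟨hs, heq⟩ => ?_
    obtain ⟨ea, -⟩ := h.coords_unique l (α := α₁) (β := β₁) (α' := α₂) (β' := β₂) fun y hy => by
      rw [← hab1 y hy, ← hab2 y hy, heq _ (hqz y hy)]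
    rw [hs, ea] at relY
    omega
  have cY : ∀ {χ : IrrCharacter G} {s α β : ℤ}, χ ∈ principalBlock M G → s * s = 1 →
      (χ : G → ℂ) z = ((α + β * Q : ℤ) : ℂ) →
      (∀ y : centralizer ({z} : Set G), Odd (orderOf (y : G)) →
        (χ : G → ℂ) (z * (y : G)) = (α : ℂ) + (β : ℂ) * σ y) →
      (∀ m, m % 2 = 1 → coeff (diff ρ 1 m) χ = 0) →
      ∑ m ∈ evens k, coeff (theta ρ m) χ = s → ∑ m ∈ evens k, coeff (theta ρ m) χ ^ 2 = 1 →
      (s * α = 0 ∧ s * β = 1) ∨ (s * α = -1 ∧ s * β = 0) := by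
    intro χ s α β hχ hs hzv hab hd t1 t2
    refine cand hχ hs hzv hab hd ?_ ?_
    · rw [t1, t2, p2]
      linear_combination -2 * hs
    · exact ⟨0, by rw [t1]; linear_combination hs⟩
  have c1 := cY hY1B hsq1 hz1 hab1 (fun m hm => (hF1 m hm).1) tY1 tY1'
  have c2 := cY hY2B hsq2 hz2 hab2 (fun m hm => (hF1 m hm).2) tY2 tY2'
  -- a linear character cannot occur
  have hlin : ∀ (Y : IrrCharacter G) (t : ℤ), Y ∈ principalBlock M G → t * t = 1 →
      ∑ m ∈ evens k, coeff (theta ρ m) Y = t → t * (charDegree (Y : G → ℂ) : ℤ) ≠ -1 := by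
    intro Y t hY ht hsum hd
    have ht' : t = 1 ∨ t = -1 := mul_self_eq_one_iff.1 ht
    have hd1 : charDegree (Y : G → ℂ) = 1 := by
      rcases ht' with p | p <;> rw [p] at hd <;> omega
    have h1 : (Y : G → ℂ) 1 = 1 := by rw [Blocks.irr_one_eq, hd1, Nat.cast_one]
    have hF := h.four'_zero r hM hY
    rw [← Int.cast_sum, hsum, four'_eq] at hF
    have hsumv : ∑ j ∈ Finset.range (2 ^ k), rotVal ρ (Y : G → ℂ) j * pw 0 (root ρ ^ j)
        = ((2 ^ k : ℕ) : ℂ) - 2 := by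
      rw [Finset.sum_congr rfl (g := fun j => (1 : ℂ) -
          if (root ρ ^ j) ^ 2 = 1 then 1 else 0) fun j _ => by
        rw [rotVal, pw, pow_zero, mul_one]
        split_ifs
        · ring
        · rw [h.apply_a_of_linear h1, map_one]; ring,
        Finset.sum_sub_distrib, Finset.sum_const, Finset.card_range, nsmul_eq_mul, mul_one,
        ← Finset.sum_filter, Finset.sum_const, nsmul_eq_mul, mul_one]
      have hS : (Finset.range (2 ^ k)).filter (fun j => (root ρ ^ j) ^ 2 = 1) = {0, hh} := by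
        refine Finset.ext fun j => ?_
        simp only [Finset.mem_filter, Finset.mem_range, Finset.mem_insert, Finset.mem_singleton]
        rw [← pow_mul, ← orderOf_dvd_iff_pow_eq_one, r.root_ord, e1, mul_comm j 2,
          Nat.mul_dvd_mul_iff_left two_pos]
        constructor
        · rintro ⟨hj, c, hc⟩
          rcases Nat.lt_or_ge c 2 with hc2 | hc2
          · interval_cases c <;> omega
          · have := Nat.mul_le_mul_left hh hc2
            omega
        · rintro (rfl | rfl)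
          exacts [⟨by omega, dvd_zero _⟩, ⟨by omega, dvd_refl _⟩]
      rw [hS, Finset.card_pair (show (0 : ℕ) ≠ hh by omega)]
      norm_num
    rw [hsumv] at hF
    have hpk : (2 : ℂ) ^ k = 2 * 2 ^ (k - 1) := by rw [← pow_succ', Nat.sub_add_cancel (by omega)]
    have hne : (2 : ℂ) ^ (k - 1) ≠ 0 := pow_ne_zero _ two_ne_zero
    push_cast at hF
    rw [hpk] at hF
    field_simp at hF
    have hq2 : (hh : ℤ) - 1 = t := by
      apply Int.cast_injective (α := ℂ)
      push_cast [hhh]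
      linear_combination hF
    rcases ht' with p | p <;> rw [p] at hq2 <;> omega
  have gX : (sx : ℂ) * (X : G → ℂ) z = (Q : ℂ) := by
    rw [hzx, ← Int.cast_mul, Int.cast_inj]
    linear_combination hXa + Q * hXb
  have gE : (se : ℂ) * (E : G → ℂ) z = (Q : ℂ) - 1 := by
    rw [hze, ← Int.cast_mul, ← Int.cast_one, ← Int.cast_sub, Int.cast_inj]
    linear_combination relα + Q * relβ
  have gY : ∀ {χ : IrrCharacter G} {s α β u v : ℤ}, (χ : G → ℂ) z = ((α + β * Q : ℤ) : ℂ) →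
      s * α = u → s * β = v → (s : ℂ) * (χ : G → ℂ) z = ((u + v * Q : ℤ) : ℂ) := by
    intro χ s α β u v hzv ha hb
    rw [hzv, ← Int.cast_mul, Int.cast_inj]
    linear_combination ha + Q * hb
  rcases c1 with ⟨a1, b1⟩ | ⟨a1, b1⟩
  · obtain ⟨a2, b2⟩ : s₂ * α₂ = -1 ∧ s₂ * β₂ = 0 := c2.resolve_left fun ⟨a2, _⟩ => by omega
    exact ⟨X, E, Y₁, Y₂, sx, se, s₁, s₂, hsqx, hsqe, hsq1, hsq2, F.quarter, F.half, gX, gE,
      by rw [gY hz1 a1 b1]; simp, by rw [gY hz2 a2 b2]; simp, hlin Y₂ s₂ hY2B hsq2 tY2⟩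
  · obtain ⟨a2, b2⟩ : s₂ * α₂ = 0 ∧ s₂ * β₂ = 1 := c2.resolve_right fun ⟨a2, _⟩ => by omega
    exact ⟨X, E, Y₂, Y₁, sx, se, s₂, s₁, hsqx, hsqe, hsq2, hsq1, F.quarter,
      fun g => by rw [F.half g]; ring, gX, gE,
      by rw [gY hz2 a2 b2]; simp, by rw [gY hz1 a1 b1]; simp, hlin Y₁ s₁ hY1B hsq1 tY1⟩

end Config

end CfsgLib.SDBlock
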