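import Cfsg.Agent.Lib.SDBlock.Statement
import Cfsg.Agent.Lib.SDBlock.Values
import Cfsg.Agent.Lib.SDBlock.Pairs
import Cfsg.Agent.Lib.Blocks.Eigen

/-!
# The order formula for a semidihedral Sylow 2-subgroup

The involution identities for the two thetas, evaluated with the values at `z`.
-/

set_option autoImplicit false
set_option linter.unusedSectionVars false

universe u

namespace CfsgLib.SDBlock

open Cfsg Subgroup CfsgLib.Char CfsgLib.BrauerSuzuki
open scoped Classical

/-- The sum of a signed irreducible character over the products of two conjugates. -/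
theorem sum_signed {G : Type*} [Group G] [Fintype G] (χ : IrrCharacter G) {s : ℤ} (hs : s * s = 1)
    (z : G) {v : ℂ} (hv : (s : ℂ) * (χ : G → ℂ) z = v) :
    (s : ℂ) * ∑ x, (χ : G → ℂ) (z * (x * z * x⁻¹)) =
      (Nat.card G : ℂ) * v ^ 2 / ((s * (charDegree (χ : G → ℂ) : ℤ) : ℤ) : ℂ) := by
  have hs' : (s : ℂ) * s = 1 := by exact_mod_cast hs
  have hs0 : (s : ℂ) ≠ 0 := fun e => by rw [e, zero_mul] at hs'; exact zero_ne_one hs'
  have hd : (charDegree (χ : G → ℂ) : ℂ) ≠ 0 := by
    rw [← Blocks.irr_one_eq]; exact Blocks.irr_one_ne_zero χ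
  rw [Blocks.sum_conj_mul, Blocks.irr_one_eq, ← hv]
  push_cast
  field_simp

/-- The order formula. -/
theorem orderFormula : OrderFormula.{u} := by
  intro G _ _ S a b z k h σ Q l
  haveI := Fintype.ofFinite G
  obtain ⟨ρ, hρ1, hρ2, hρ3⟩ := h.exists_rho
  have r : RotChar a k ρ := ⟨hρ1, hρ2, hρ3⟩
  obtain ⟨M, hM⟩ := Blocks.exists_isPModular Nat.prime_two
  obtain ⟨X, E, Y, Y', sx, se, s, t, V⟩ := h.exists_values r l hM
  obtain ⟨e1, e2, e3⟩ := h.pow_eq
  have hk := h.three_le
  have hqe : 2 ^ (k - 2) % 2 = 0 := by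
    rw [show k - 2 = (k - 3) + 1 by omega, pow_succ]; omega
  have hQ4 := (h.dvd_Q_add_one l).2
  set dX : ℤ := sx * (charDegree (X : G → ℂ) : ℤ) with hdX
  set dE : ℤ := se * (charDegree (E : G → ℂ) : ℤ) with hdE
  set dY : ℤ := s * (charDegree (Y : G → ℂ) : ℤ) with hdY
  set dY' : ℤ := t * (charDegree (Y' : G → ℂ) : ℤ) with hdY'
  have hne : ∀ (χ : IrrCharacter G) (e : ℤ), e * e = 1 → e * (charDegree (χ : G → ℂ) : ℤ) ≠ 0 :=
    fun χ e he => mul_ne_zero (fun h0 => by rw [h0] at he; norm_num at he)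
      (Int.natCast_ne_zero.2 (Blocks.charDegree_pos χ).ne')
  have hX0 : dX ≠ 0 := hne X sx V.sx_sq
  have hE0 : dE ≠ 0 := hne E se V.se_sq
  have hY0 : dY ≠ 0 := hne Y s V.s_sq
  have hY'0 : dY' ≠ 0 := hne Y' t V.t_sq
  have h1 : ∀ m, m % 2 = 0 → theta ρ m (1 : G) = 0 := fun m hm =>
    h.theta_eq_zero r hm (by rw [orderOf_one]; norm_num)
  have relE : dE = dX - 1 := by
    apply Int.cast_injective (α := ℂ)
    have e := V.quarter 1
    rw [h1 _ hqe, Blocks.irr_one_eq, Blocks.irr_one_eq] at e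
    simp only [hdX, hdE]
    push_cast
    linear_combination -e
  have relY : dY + dY' = dX - 1 := by
    apply Int.cast_injective (α := ℂ)
    have e := V.half 1
    rw [h1 _ (by omega), Blocks.irr_one_eq, Blocks.irr_one_eq, Blocks.irr_one_eq] at e
    simp only [hdX, hdY, hdY']
    push_cast
    linear_combination -e
  have hN : (Nat.card G : ℂ) ≠ 0 := Char.card_ne_zero
  have cX := sum_signed X V.sx_sq z V.at_X
  have cE := sum_signed E V.se_sq z V.at_E
  have cY := sum_signed Y V.s_sq z V.at_Y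
  have cY' := sum_signed Y' V.t_sq z V.at_Y'
  rw [← hdX] at cX
  rw [← hdE] at cE
  rw [← hdY] at cY
  rw [← hdY'] at cY'
  -- the equation of the half
  have hhalf : dX * dY * dY' - Q ^ 2 * dY * dY' + Q ^ 2 * dX * dY' + dX * dY = 0 := by
    have e0 : ∑ x : G, theta ρ (2 ^ (k - 1)) (z * (x * z * x⁻¹)) = 0 :=
      Finset.sum_eq_zero fun x _ => h.theta_half_pairs r x
    rw [Finset.sum_congr rfl fun x _ => V.half _, Finset.sum_add_distrib, Finset.sum_add_distrib,
      Finset.sum_sub_distrib, ← Finset.mul_sum, ← Finset.mul_sum, ← Finset.mul_sum, cX, cY, cY',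
      Finset.sum_const, Finset.card_univ, nsmul_eq_mul, mul_one, Fintype.card_eq_nat_card] at e0
    have a1 : (dX : ℂ) ≠ 0 := Int.cast_ne_zero.2 hX0
    have a2 : (dY : ℂ) ≠ 0 := Int.cast_ne_zero.2 hY0
    have a3 : (dY' : ℂ) ≠ 0 := Int.cast_ne_zero.2 hY'0
    apply Int.cast_injective (α := ℂ)
    apply mul_left_cancel₀ hN
    push_cast
    field_simp at e0
    linear_combination e0
  have hprod : dY' * (dX - Q ^ 2) = dX * (dX - 1) := by
    have e : (dY' + 1) * (dY' * (dX - Q ^ 2) - dX * (dX - 1)) = 0 := by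
      have hY : dY = dX - 1 - dY' := by linarith [relY]
      rw [hY] at hhalf
      linear_combination -hhalf
    refine sub_eq_zero.1 ((mul_eq_zero.1 e).resolve_left fun h0 => ?_)
    exact V.deg_ne (by rw [← hdY']; linarith)
  -- the equation of the quarter
  have hquart : (Nat.card G : ℤ) * (Nat.card (centralizer ({z, b} : Set G)) : ℤ) ^ 2 * Q *
      (dX - Q) ^ 2 = (Nat.card (centralizer ({z} : Set G)) : ℤ) ^ 3 * (Q - 1) * dX * (dX - 1) := by
    have e0 := h.sum_theta_quarter r l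
    rw [Finset.sum_congr rfl fun x _ => V.quarter _, Finset.sum_add_distrib,
      Finset.sum_sub_distrib, ← Finset.mul_sum, ← Finset.mul_sum, cX, cE,
      Finset.sum_const, Finset.card_univ, nsmul_eq_mul, mul_one, Fintype.card_eq_nat_card,
      relE] at e0
    have a1 : (dX : ℂ) ≠ 0 := Int.cast_ne_zero.2 hX0
    have a2 : ((dX - 1 : ℤ) : ℂ) ≠ 0 := Int.cast_ne_zero.2 (relE ▸ hE0)
    apply Int.cast_injective (α := ℂ)
    push_cast at e0 a2 ⊢
    field_simp at e0
    linear_combination e0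
  have hXe : dX ≠ 1 := fun e => hE0 (by rw [relE, e]; rfl)
  have hX1 : dX - 1 ≠ 0 := sub_ne_zero.2 hXe
  refine ⟨dX, hX0, hXe, fun e => ?_, fun e => ?_, hQ4, ?_, ?_, ⟨-dY', ?_⟩, hquart⟩
  · rw [e, sub_self, zero_pow two_ne_zero, mul_zero] at hquart
    have hc : (Nat.card (centralizer ({z} : Set G)) : ℤ) ≠ 0 :=
      Int.natCast_ne_zero.2 Nat.card_pos.ne'
    have := l.three_le
    refine (mul_ne_zero (mul_ne_zero (mul_ne_zero (pow_ne_zero 3 hc) ?_) ?_) ?_) hquart.symm <;> omega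
  · rw [e, sub_self, mul_zero] at hprod
    exact mul_ne_zero (e ▸ hX0) (e ▸ hX1) hprod.symm
  · obtain ⟨n, hn⟩ := h.exists_int_z X
    obtain ⟨v, hv⟩ := h.four_dvd_degree X hn
    have hsn : sx * n = Q := by
      have e := V.at_X
      rw [hn] at e
      exact_mod_cast e
    have hkey : dX + 3 * Q = 4 * (sx * v) := by
      rw [hdX, ← hsn]; linear_combination sx * hv
    omega
  · rw [hdX, Int.natAbs_mul, Int.natAbs_natCast]
    have hs1 : sx.natAbs = 1 := by
      rcases mul_self_eq_one_iff.1 V.sx_sq with p | p <;> rw [p] <;> rfl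
    rw [hs1, one_mul]
    exact Blocks.charDegree_dvd X
  · linear_combination -hprod

end CfsgLib.SDBlock
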