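import Cfsg.Agent.Lib.SDBlock.Exceptional
import Cfsg.Agent.Lib.Char.Integral

/-!
# The Fourier coefficients of the exceptional characters

`four' χ 0` is determined by the coefficients of the `theta m`, Parseval bounds the mass of `χ` on
the rotations of order at least four from below, and the restriction to `⟨a⟩` gives a congruence
for `χ z`.
-/

set_option autoImplicit false
set_option linter.unusedSectionVars false

namespace CfsgLib.SDBlock

open Cfsg Subgroup CfsgLib.Char CfsgLib.BrauerSuzuki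
open scoped Classical ComplexConjugate

variable {G : Type*} [Group G] {a : G} {k : ℕ} {ρ : rotGroup a k →* ℂˣ}

/-- The values on the rotations of order at least four, extended by zero. -/
noncomputable def rotVal (ρ : rotGroup a k →* ℂˣ) (χ : G → ℂ) (j : ℕ) : ℂ :=
  if (root ρ ^ j) ^ 2 = 1 then 0 else conj (χ (a ^ j))

theorem four'_eq (χ : G → ℂ) (m : ℕ) :
    four' ρ χ m = ((2 : ℂ) ^ k)⁻¹ * ∑ j ∈ Finset.range (2 ^ k), rotVal ρ χ j * pw m (root ρ ^ j) := rfl

namespace Config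

variable {S : Sylow 2 G} {b z : G} [Fintype G]

theorem sum_pw (r : RotChar a k ρ) (j : ℕ) :
    ∑ m ∈ Finset.range (2 ^ k), pw m (root ρ ^ j) = if root ρ ^ j = 1 then (2 : ℂ) ^ k else 0 := by
  simp only [pw]
  split_ifs with he
  · simp [he]
  · have hne : ((root ρ ^ j : ℂˣ) : ℂ) ≠ 1 := fun e => he (Units.ext e)
    rw [geom_sum_eq hne]
    have : ((root ρ ^ j : ℂˣ) : ℂ) ^ 2 ^ k = 1 := by
      rw [← Units.val_pow_eq_pow_val, ← pow_mul, mul_comm, pow_mul, ← r.root_ord, pow_orderOf_eq_one,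
        one_pow, Units.val_one]
    rw [this, sub_self, zero_div]

theorem neg_pow_pw (r : RotChar a k ρ) (hk : 1 ≤ k) (m j : ℕ) :
    (-1 : ℂ) ^ m * pw m (root ρ ^ j) = pw m (root ρ ^ (2 ^ (k - 1) + j)) := by
  have hh : ((root ρ ^ 2 ^ (k - 1) : ℂˣ) : ℂ) = -1 := by
    have h1 : ((root ρ ^ 2 ^ (k - 1) : ℂˣ) : ℂ) * (root ρ ^ 2 ^ (k - 1) : ℂˣ) = 1 := by
      rw [← Units.val_mul, ← pow_add, ← two_mul, ← pow_succ', Nat.sub_add_cancel hk, ← r.root_ord,
        pow_orderOf_eq_one, Units.val_one]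
    refine (mul_self_eq_one_iff.1 h1).resolve_left fun e => ?_
    have := orderOf_dvd_of_pow_eq_one (Units.ext e : root ρ ^ 2 ^ (k - 1) = 1)
    rw [r.root_ord] at this
    have := Nat.le_of_dvd (Nat.two_pow_pos _) this
    have : 2 ^ (k - 1) < 2 ^ k := Nat.pow_lt_pow_right (by norm_num) (by omega)
    omega
  simp only [pw, pow_add, Units.val_mul, mul_pow, hh]

/-- The coefficients over all exponents sum to zero, also with alternating signs. -/
theorem sum_four' (r : RotChar a k ρ) (hk : 1 ≤ k) (χ : G → ℂ) :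
    ∑ m ∈ Finset.range (2 ^ k), four' ρ χ m = 0 ∧
      ∑ m ∈ Finset.range (2 ^ k), (-1 : ℂ) ^ m * four' ρ χ m = 0 := by
  constructor
  · simp only [four'_eq]
    rw [← Finset.mul_sum, Finset.sum_comm, Finset.sum_eq_zero, mul_zero]
    intro j _
    rw [← Finset.mul_sum, sum_pw r, rotVal]
    split_ifs with h1 h2 <;> simp_all
  · simp only [four'_eq, Finset.mul_sum]
    rw [Finset.sum_comm, Finset.sum_eq_zero]
    intro j _
    have e : ∀ m, (-1 : ℂ) ^ m * (((2 : ℂ) ^ k)⁻¹ * (rotVal ρ χ j * pw m (root ρ ^ j)))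
        = ((2 : ℂ) ^ k)⁻¹ * rotVal ρ χ j * pw m (root ρ ^ (2 ^ (k - 1) + j)) := fun m => by
      rw [← neg_pow_pw r hk]; ring
    rw [Finset.sum_congr rfl fun m _ => e m, ← Finset.mul_sum, sum_pw r, rotVal]
    by_cases h1 : (root ρ ^ j) ^ 2 = 1
    · rw [if_pos h1]; ring
    · rw [if_neg h1]
      have h2 : root ρ ^ (2 ^ (k - 1) + j) ≠ 1 := fun h2 => h1 (by
        have h3 : (root ρ ^ 2 ^ (k - 1)) ^ 2 = 1 := by
          rw [← pow_mul, ← pow_succ, Nat.sub_add_cancel hk, ← r.root_ord, pow_orderOf_eq_one]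
        rw [pow_add] at h2
        calc (root ρ ^ j) ^ 2 = (root ρ ^ 2 ^ (k - 1)) ^ 2 * (root ρ ^ j) ^ 2 := by rw [h3, one_mul]
          _ = 1 := by rw [← mul_pow, h2, one_pow])
      rw [if_neg h2]; ring

/-- The even exponents. -/
def evens (k : ℕ) : Finset ℕ := (Finset.range (2 ^ k)).filter fun m => m % 2 = 0

/-- The odd exponents. -/
def odds (k : ℕ) : Finset ℕ := (Finset.range (2 ^ k)).filter fun m => m % 2 = 1

theorem card_evens {k : ℕ} (hk : 1 ≤ k) : (evens k).card = 2 ^ (k - 1) ∧ (odds k).card = 2 ^ (k - 1) := by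
  have e1 : 2 ^ k = 2 * 2 ^ (k - 1) := by rw [← pow_succ', Nat.sub_add_cancel hk]
  constructor
  · rw [← Finset.card_range (2 ^ (k - 1))]
    refine Finset.card_nbij' (fun m => m / 2) (fun i => 2 * i) ?_ ?_ ?_ ?_ <;>
      intro x hx <;> simp [evens] at hx ⊢ <;> omega
  · rw [← Finset.card_range (2 ^ (k - 1))]
    refine Finset.card_nbij' (fun m => m / 2) (fun i => 2 * i + 1) ?_ ?_ ?_ ?_ <;>
      intro x hx <;> simp [odds] at hx ⊢ <;> omega

theorem sum_evens (r : RotChar a k ρ) (hk : 1 ≤ k) (χ : G → ℂ) :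
    ∑ m ∈ evens k, four' ρ χ m = 0 ∧ ∑ m ∈ odds k, four' ρ χ m = 0 := by
  obtain ⟨h1, h2⟩ := sum_four' r hk χ
  rw [← Finset.sum_filter_add_sum_filter_not _ (fun m => m % 2 = 0)] at h1 h2
  have ef : (Finset.range (2 ^ k)).filter (fun m => ¬ m % 2 = 0) = odds k :=
    Finset.filter_congr fun m _ => by omega
  rw [ef] at h1 h2
  rw [Finset.sum_congr rfl (g := fun m => four' ρ χ m) fun m hm => by
      rw [(Nat.even_iff.2 (Finset.mem_filter.1 hm).2).neg_one_pow, one_mul],
    Finset.sum_congr rfl (s₁ := odds k) (g := fun m => -four' ρ χ m) fun m hm => by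
      rw [(Nat.odd_iff.2 (Finset.mem_filter.1 hm).2).neg_one_pow, neg_one_mul],
    Finset.sum_neg_distrib] at h2
  constructor
  all_goals simp only [evens] at *
  · exact mul_left_cancel₀ two_ne_zero (by linear_combination h1 + h2)
  · exact mul_left_cancel₀ two_ne_zero (by linear_combination h1 - h2)

/-- The coefficient zero from the coefficients of the thetas. -/
theorem four'_zero (h : Config S a b z k) (r : RotChar a k ρ) {M : Ideal AlgInt} (hM : IsPModular 2 M)
    {χ : IrrCharacter G} (hχ : χ ∈ principalBlock M G) :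
    ((2 : ℂ) ^ (k - 1)) * four' ρ (χ : G → ℂ) 0 = ∑ m ∈ evens k, (coeff (theta ρ m) χ : ℂ) := by
  have hk : 1 ≤ k := by have := h.three_le; omega
  rw [Finset.sum_congr rfl fun m hm => by
    rw [cast_coeff (theta_gen m), theta_eq_diff,
      h.inner_irr r hM hχ (m := 0) (m' := m) (by rw [(Finset.mem_filter.1 hm).2])],
    Finset.sum_sub_distrib, (sum_evens r hk _).1, sub_zero, Finset.sum_const, (card_evens hk).1,
    nsmul_eq_mul]
  push_cast
  rfl

theorem four'_eq_sub (h : Config S a b z k) (r : RotChar a k ρ) {M : Ideal AlgInt} (hM : IsPModular 2 M)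
    {χ : IrrCharacter G} (hχ : χ ∈ principalBlock M G) {m : ℕ} (hm : m % 2 = 0) :
    four' ρ (χ : G → ℂ) m = four' ρ (χ : G → ℂ) 0 - coeff (theta ρ m) χ := by
  rw [cast_coeff (theta_gen m), theta_eq_diff, h.inner_irr r hM hχ (m := 0) (m' := m) (by rw [hm])]
  ring

/-- The odd coefficients vanish when the differences have no coefficient. -/
theorem four'_one (h : Config S a b z k) (r : RotChar a k ρ) {M : Ideal AlgInt} (hM : IsPModular 2 M)
    {χ : IrrCharacter G} (hχ : χ ∈ principalBlock M G)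
    (h0 : ∀ m, m % 2 = 1 → coeff (diff ρ 1 m) χ = 0) : four' ρ (χ : G → ℂ) 1 = 0 := by
  have hk : 1 ≤ k := by have := h.three_le; omega
  have e : ∀ m ∈ odds k, four' ρ (χ : G → ℂ) m = four' ρ (χ : G → ℂ) 1 := fun m hm => by
    have hm1 := (Finset.mem_filter.1 hm).2
    have := cast_coeff (diff_gen (ρ := ρ) 1 m) χ
    rw [h0 m hm1, Int.cast_zero, h.inner_irr r hM hχ (m := 1) (m' := m) (by rw [hm1])] at this
    exact (sub_eq_zero.1 this.symm).symm
  have := (sum_evens r hk (χ : G → ℂ)).2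
  rw [Finset.sum_congr rfl e, Finset.sum_const, (card_evens hk).2, nsmul_eq_mul] at this
  exact (mul_eq_zero.1 this).resolve_left (Nat.cast_ne_zero.2 (Nat.two_pow_pos _).ne')

/-- Parseval. -/
theorem parseval (r : RotChar a k ρ) (χ : G → ℂ) :
    ∑ m ∈ Finset.range (2 ^ k), four' ρ χ m * conj (four' ρ χ m) =
      ((2 : ℂ) ^ k)⁻¹ * ∑ j ∈ Finset.range (2 ^ k), rotVal ρ χ j * conj (rotVal ρ χ j) := by
  have horth : ∀ i ∈ Finset.range (2 ^ k), ∀ j ∈ Finset.range (2 ^ k),
      ∑ m ∈ Finset.range (2 ^ k), pw m (root ρ ^ j) * conj (pw m (root ρ ^ i)) =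
        if j = i then (2 : ℂ) ^ k else 0 := by
    intro i hi j hj
    have e := r.mean_pw j i
    rw [mean, Nat.mod_eq_of_lt (Finset.mem_range.1 hj), Nat.mod_eq_of_lt (Finset.mem_range.1 hi),
      inv_mul_eq_iff_eq_mul₀ (pow_ne_zero _ two_ne_zero), mul_ite, mul_one, mul_zero] at e
    rw [← e]
    refine Finset.sum_congr rfl fun m _ => ?_
    simp only [pw, ← Units.val_pow_eq_pow_val, ← pow_mul, mul_comm m]
  simp only [four'_eq, map_mul, map_sum, map_inv₀, map_pow, Complex.conj_ofNat]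
  simp only [Finset.mul_sum, Finset.sum_mul]
  rw [Finset.sum_comm]
  refine Finset.sum_congr rfl fun i hi => ?_
  rw [Finset.sum_comm]
  refine (Finset.sum_eq_single i (fun j hj hne => ?_) (fun hh => absurd hi hh)).trans ?_
  · calc _ = ((2 : ℂ) ^ k)⁻¹ * ((2 : ℂ) ^ k)⁻¹ * rotVal ρ χ j * conj (rotVal ρ χ i) *
          ∑ m ∈ Finset.range (2 ^ k), pw m (root ρ ^ j) * conj (pw m (root ρ ^ i)) := by
            rw [Finset.mul_sum]; exact Finset.sum_congr rfl fun m _ => by ring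
      _ = 0 := by rw [horth i hi j hj, if_neg hne, mul_zero]
  · calc _ = ((2 : ℂ) ^ k)⁻¹ * ((2 : ℂ) ^ k)⁻¹ * rotVal ρ χ i * conj (rotVal ρ χ i) *
          ∑ m ∈ Finset.range (2 ^ k), pw m (root ρ ^ i) * conj (pw m (root ρ ^ i)) := by
            rw [Finset.mul_sum]; exact Finset.sum_congr rfl fun m _ => by ring
      _ = _ := by
            rw [horth i hi i hi, if_pos rfl]
            have : ((2 : ℂ) ^ k) ≠ 0 := pow_ne_zero _ two_ne_zero
            field_simp

/-- The squares of the even coefficients are a lower bound for the mass on the rotations. -/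
theorem evens_le_parseval (r : RotChar a k ρ) (χ : G → ℂ) :
    ∑ m ∈ evens k, Complex.normSq (four' ρ χ m) ≤
      ((2 : ℝ) ^ k)⁻¹ * ∑ j ∈ Finset.range (2 ^ k), Complex.normSq (rotVal ρ χ j) := by
  have e := parseval r χ
  simp only [Complex.mul_conj] at e
  have e' : ∑ m ∈ Finset.range (2 ^ k), Complex.normSq (four' ρ χ m) =
      ((2 : ℝ) ^ k)⁻¹ * ∑ j ∈ Finset.range (2 ^ k), Complex.normSq (rotVal ρ χ j) :=
    Complex.ofReal_injective (by push_cast; exact e)
  rw [← e']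
  exact Finset.sum_le_sum_of_subset_of_nonneg (Finset.filter_subset _ _) fun i _ _ =>
    Complex.normSq_nonneg _

/-- Twice a congruence from the restriction to `⟨a⟩`. -/
theorem exists_int_rot (h : Config S a b z k) (r : RotChar a k ρ) {χ : IrrCharacter G} (m : ℕ) :
    ∃ n : ℤ, conj ((χ : G → ℂ) 1) + (-1 : ℂ) ^ m * conj ((χ : G → ℂ) z)
      + (2 : ℂ) ^ k * four' ρ (χ : G → ℂ) m = (2 : ℂ) ^ k * n := by
  obtain ⟨e1, e2, e3⟩ := h.pow_eq
  set A := Subgroup.zpowers a
  set lam : A →* ℂˣ := ρ.comp (Subgroup.inclusion (Subgroup.zpowers_le.2 a_mem_rot)) with hlam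
  obtain ⟨n, hn⟩ := IsCharacter.classInner_nat (isCharacter_hom (lam ^ m))
    (IsCharacter.restrict (isCharacter_irr χ) A)
  refine ⟨n, ?_⟩
  rw [Cfsg.classInner, inv_mul_eq_iff_eq_mul₀ Char.card_ne_zero] at hn
  rw [show Nat.card A = 2 ^ k from (Nat.card_zpowers a).trans h.ord_a] at hn
  have hs : ∀ F : A → ℂ, ∑ x : A, F x
      = ∑ j ∈ Finset.range (2 ^ k), F ⟨a ^ j, pow_mem (mem_zpowers a) j⟩ := by
    intro F
    refine (Finset.sum_bij (fun j _ => (⟨a ^ j, pow_mem (mem_zpowers a) j⟩ : A))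
      (fun j _ => Finset.mem_univ _) (fun i hi j hj e => ?_) (fun x _ => ?_) fun j _ => rfl).symm
    · exact pow_injOn_Iio_orderOf (x := a) (Set.mem_Iio.2 (by rw [h.ord_a]; exact Finset.mem_range.1 hi))
        (Set.mem_Iio.2 (by rw [h.ord_a]; exact Finset.mem_range.1 hj)) (congrArg Subtype.val e)
    · obtain ⟨j, hj⟩ := mem_powers_iff_mem_zpowers.2 x.2
      exact ⟨j % 2 ^ k, Finset.mem_range.2 (Nat.mod_lt _ (Nat.two_pow_pos k)),
        Subtype.ext (by show a ^ (j % 2 ^ k) = _; rw [← h.ord_a, pow_mod_orderOf]; exact hj)⟩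
  rw [hs] at hn
  have hl : ∀ j : ℕ, ((lam ^ m) ⟨a ^ j, pow_mem (mem_zpowers a) j⟩ : ℂ) = pw m (root ρ ^ j) := by
    intro j
    rw [MonoidHom.pow_apply, pw, Units.val_pow_eq_pow_val]
    congr 1
    rw [hlam, MonoidHom.comp_apply, root, ← map_pow]
    rfl
  simp only [hl] at hn
  rw [four'_eq, mul_inv_cancel_left₀ (pow_ne_zero _ two_ne_zero)]
  have hne : (0 : ℕ) ≠ 2 ^ (k - 1) := by omega
  have hsq : ∀ j ∈ Finset.range (2 ^ k), ((root ρ ^ j) ^ 2 = 1 ↔ j = 0 ∨ j = 2 ^ (k - 1)) := by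
    intro j hj
    rw [← pow_mul, ← orderOf_dvd_iff_pow_eq_one, r.root_ord, e1]
    have := Finset.mem_range.1 hj
    rw [mul_comm j 2, Nat.mul_dvd_mul_iff_left two_pos]
    constructor
    · rintro ⟨c, hc⟩
      rcases Nat.lt_or_ge c 1 with hc1 | hc1
      · left; rw [Nat.lt_one_iff.1 hc1] at hc; simpa using hc
      rcases Nat.lt_or_ge c 2 with hc2 | hc2
      · right; rw [show c = 1 by omega, mul_one] at hc; exact hc
      · exfalso
        have := Nat.mul_le_mul_left (2 ^ (k - 1)) hc2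
        omega
    · rintro (rfl | rfl)
      exacts [dvd_zero _, dvd_refl _]
  have hsum : ∑ j ∈ Finset.range (2 ^ k), rotVal ρ (χ : G → ℂ) j * pw m (root ρ ^ j)
      + (∑ j ∈ ({0, 2 ^ (k - 1)} : Finset ℕ), conj ((χ : G → ℂ) (a ^ j)) * pw m (root ρ ^ j))
      = ∑ j ∈ Finset.range (2 ^ k), conj ((χ : G → ℂ) (a ^ j)) * pw m (root ρ ^ j) := by
    have hsub : ({0, 2 ^ (k - 1)} : Finset ℕ) ⊆ Finset.range (2 ^ k) := by
      intro j hj
      simp only [Finset.mem_insert, Finset.mem_singleton] at hj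
      exact Finset.mem_range.2 (by omega)
    rw [← Finset.sum_sdiff hsub, ← Finset.sum_sdiff hsub
      (f := fun j => conj ((χ : G → ℂ) (a ^ j)) * pw m (root ρ ^ j))]
    rw [Finset.sum_congr rfl (s₁ := ({0, 2 ^ (k - 1)} : Finset ℕ))
      (f := fun j => rotVal ρ (χ : G → ℂ) j * pw m (root ρ ^ j)) (g := fun _ => 0) fun j hj => by
      rw [rotVal, if_pos ((hsq j (hsub hj)).2 (by simpa using hj)), zero_mul], Finset.sum_const_zero,
      add_zero]
    refine congrArg₂ (· + ·) (Finset.sum_congr rfl fun j hj => ?_) rfl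
    obtain ⟨hj1, hj2⟩ := Finset.mem_sdiff.1 hj
    rw [rotVal, if_neg fun e => hj2 (by simpa using (hsq j hj1).1 e)]
  have hroot : pw m (root ρ ^ 2 ^ (k - 1)) = (-1 : ℂ) ^ m := by
    have := neg_pow_pw r (le_trans (by norm_num) h.three_le) m 0 (a := a)
    rw [pow_zero, add_zero, pw, Units.val_one, one_pow, mul_one] at this
    exact this.symm
  rw [Finset.sum_pair hne, pow_zero, ← h.z_eq, pow_zero, hroot, show pw m 1 = 1 by simp [pw], mul_one]
    at hsum
  have hc : ∑ j ∈ Finset.range (2 ^ k), conj ((χ : G → ℂ) (a ^ j)) * pw m (root ρ ^ j)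
      = (((2 ^ k : ℕ) : ℂ)) * (n : ℂ) := by
    rw [← hn]
    exact Finset.sum_congr rfl fun j _ => mul_comm _ _
  push_cast at hc
  linear_combination hsum + hc

end Config

end CfsgLib.SDBlock
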