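import Cfsg.Agent.Lib.SDBlock.Rotation
import Cfsg.Agent.Lib.Blocks.SectionSums
import Cfsg.Agent.Lib.Blocks.TIAbelian
import Cfsg.Agent.Lib.Char.Induced
import Cfsg.Agent.Lib.Char.Virtual

/-!
# Induction from the rotations

Class functions of `R` which factor through `ρ` and vanish at `ρ = ± 1` induce isometrically, and a
character of the principal 2-block of any overgroup is constant on the fibres of `ρ` off `± 1`.
-/

set_option autoImplicit false
set_option linter.unusedSectionVars false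

namespace CfsgLib.SDBlock

open Cfsg Subgroup
open scoped Classical ComplexConjugate

variable {G : Type*} [Group G]

/-- A linear character of the rotations with kernel of odd order. -/
structure RotChar (a : G) (k : ℕ) (ρ : rotGroup a k →* ℂˣ) : Prop where
  ord : orderOf (ρ ⟨a, Config.a_mem_rot⟩) = 2 ^ k
  ker : ∀ g, ρ g = 1 → Odd (orderOf g)
  range : ∀ g, ∃ j : ℕ, ρ g = ρ ⟨a, Config.a_mem_rot⟩ ^ j

variable {a : G} {k : ℕ} {ρ : rotGroup a k →* ℂˣ}

namespace RotChar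

theorem exists_pow (r : RotChar a k ρ) (g : rotGroup a k) :
    ∃ j, j < 2 ^ k ∧ ρ g = ρ ⟨a, Config.a_mem_rot⟩ ^ j := by
  obtain ⟨j, hj⟩ := r.range g
  exact ⟨j % 2 ^ k, Nat.mod_lt _ (Nat.two_pow_pos k), by rw [hj, ← r.ord, pow_mod_orderOf]⟩

theorem pow_two_pow (r : RotChar a k ρ) (g : rotGroup a k) : ρ g ^ 2 ^ k = 1 := by
  obtain ⟨j, -, hj⟩ := r.exists_pow g
  rw [hj, ← pow_mul, mul_comm, pow_mul, ← r.ord, pow_orderOf_eq_one, one_pow]

theorem map_odd (r : RotChar a k ρ) {g : rotGroup a k} (hg : Odd (orderOf g)) : ρ g = 1 :=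
  orderOf_eq_one_iff.1 (Nat.eq_one_of_dvd_coprimes
    (Nat.Coprime.pow_left k (Nat.coprime_two_left.2 hg))
    (orderOf_dvd_of_pow_eq_one (r.pow_two_pow g)) (orderOf_map_dvd ρ g))

/-- A 2-element in the kernel is trivial. -/
theorem eq_one_of_two (r : RotChar a k ρ) {g : rotGroup a k} {j : ℕ} (hg : orderOf g ∣ 2 ^ j)
    (h1 : ρ g = 1) : g = 1 :=
  orderOf_eq_one_iff.1 (Nat.eq_one_of_dvd_coprimes
    (Nat.Coprime.pow_left j (Nat.coprime_two_left.2 (r.ker g h1))) hg (dvd_refl _))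

end RotChar

namespace Config

variable {S : Sylow 2 G} {b z : G} [Finite G]

theorem orderOf_four' (h : Config S a b z k) :
    orderOf (⟨four a k, four_mem_rot⟩ : rotGroup a k) = 4 := by
  rw [Subgroup.orderOf_mk, h.orderOf_four]

theorem rho_four_sq (h : Config S a b z k) (r : RotChar a k ρ) :
    (ρ ⟨four a k, four_mem_rot⟩ : ℂ) * (ρ ⟨four a k, four_mem_rot⟩ : ℂ) = -1 := by
  set y : rotGroup a k := ⟨four a k, four_mem_rot⟩
  have hy4 : y ^ 4 = 1 := orderOf_dvd_iff_pow_eq_one.1 h.orderOf_four'.dvd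
  have hne : ρ (y * y) ≠ 1 := fun e => by
    have h1 : y * y = 1 := r.eq_one_of_two (j := 2) (orderOf_dvd_of_pow_eq_one (by
      rw [← sq, ← pow_mul, show 2 * 2 ^ 2 = 4 * 2 from rfl, pow_mul, hy4, one_pow])) e
    exact h.z_ne_one (h.four_sq.symm.trans (congrArg Subtype.val h1))
  have hsq : ((ρ y : ℂ) * ρ y) * ((ρ y : ℂ) * ρ y) = 1 := by
    have h4 : y ^ 4 = 1 := orderOf_dvd_iff_pow_eq_one.1 h.orderOf_four'.dvd
    rw [← Units.val_mul, ← Units.val_mul, ← map_mul, ← map_mul,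
      show y * y * (y * y) = y ^ 4 by simp [pow_succ, mul_assoc], h4, map_one, Units.val_one]
  refine (mul_self_eq_one_iff.1 hsq).resolve_left fun e => hne (Units.ext ?_)
  rw [map_mul, Units.val_mul, e, Units.val_one]

/-- The elements of order four of the rotations. -/
theorem eq_four_or (h : Config S a b z k) (r : RotChar a k ρ) {y : rotGroup a k}
    (hy : orderOf y = 4) : (y : G) = four a k ∨ (y : G) = (four a k)⁻¹ := by
  set i : rotGroup a k := ⟨four a k, four_mem_rot⟩ with hi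
  have hc : Commute y i := Subtype.ext (mem_centralizer_singleton_iff.1 y.2)
  have h4 : y ^ 4 = 1 := orderOf_dvd_iff_pow_eq_one.1 hy.dvd
  have hi4 : i ^ 4 = 1 := orderOf_dvd_iff_pow_eq_one.1 h.orderOf_four'.dvd
  have hsq : (ρ y : ℂ) * ρ y = -1 := by
    have hsq : ((ρ y : ℂ) * ρ y) * ((ρ y : ℂ) * ρ y) = 1 := by
      rw [← Units.val_mul, ← Units.val_mul, ← map_mul, ← map_mul,
        show y * y * (y * y) = y ^ 4 by simp [pow_succ, mul_assoc], h4, map_one, Units.val_one]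
    refine (mul_self_eq_one_iff.1 hsq).resolve_left fun e => ?_
    have h1 : y * y = 1 := r.eq_one_of_two (j := 2) (orderOf_dvd_of_pow_eq_one (by
      rw [← sq, ← pow_mul, show 2 * 2 ^ 2 = 4 * 2 from rfl, pow_mul, h4, one_pow])) (Units.ext (by
      rw [map_mul, Units.val_mul, e, Units.val_one]))
    have := orderOf_dvd_of_pow_eq_one (n := 2) (x := y) (by rw [sq]; exact h1)
    rw [hy] at this
    norm_num at this
  have key : ∀ u : rotGroup a k, u ^ 4 = 1 → Commute y u → ρ y = ρ u → y = u := by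
    intro u hu hyu e
    have h1 : y * u⁻¹ = 1 := r.eq_one_of_two (j := 2) (orderOf_dvd_of_pow_eq_one (by
      rw [show (2 : ℕ) ^ 2 = 4 from rfl, hyu.inv_right.mul_pow, h4, inv_pow, hu, inv_one, one_mul]))
      (by rw [map_mul, map_inv, e, mul_inv_cancel])
    exact mul_inv_eq_one.1 h1
  rcases mul_self_eq_mul_self_iff.1 (hsq.trans (h.rho_four_sq r).symm) with e | e
  · exact Or.inl (congrArg Subtype.val (key i hi4 hc (Units.ext e)))
  · refine Or.inr (congrArg Subtype.val (key i⁻¹ (by rw [inv_pow, hi4, inv_one]) hc.inv_right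
      (Units.ext ?_)))
    rw [e, map_inv, Units.val_inv_eq_inv_val]
    exact eq_inv_of_mul_eq_one_left (by rw [neg_mul, h.rho_four_sq r, neg_neg])

/-- An element off `ρ = ± 1` has the rotation of order four among its powers. -/
theorem exists_pow_four (h : Config S a b z k) (r : RotChar a k ρ) {g : rotGroup a k}
    (hg : ρ g ^ 2 ≠ 1) : ∃ m : ℕ, orderOf ((g : G) ^ m) = 4 := by
  have h4 : 4 ∣ orderOf g := by
    have h1 : orderOf (ρ g) ∣ orderOf g := orderOf_map_dvd ρ g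
    obtain ⟨i, -, hi⟩ := (Nat.dvd_prime_pow Nat.prime_two).1
      (orderOf_dvd_of_pow_eq_one (r.pow_two_pow g))
    rcases Nat.lt_or_ge i 2 with hi2 | hi2
    · exfalso
      refine hg (orderOf_dvd_iff_pow_eq_one.1 ?_)
      rw [hi]
      calc 2 ^ i ∣ 2 ^ 1 := pow_dvd_pow 2 (by omega)
        _ = 2 := pow_one 2
    · exact dvd_trans (hi ▸ pow_dvd_pow 2 hi2 : 4 ∣ orderOf (ρ g)) h1
  obtain ⟨c, hc⟩ := h4
  have hpos : 0 < orderOf g := orderOf_pos g
  refine ⟨c, ?_⟩
  rw [← Subgroup.coe_pow, Subgroup.orderOf_coe, orderOf_pow_of_dvd (by rintro rfl; omega) ⟨4, by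
    rw [hc, mul_comm]⟩, hc, Nat.mul_div_cancel _ (Nat.pos_of_ne_zero (by rintro rfl; omega))]

theorem four_dvd_orderOf (h : Config S a b z k) (r : RotChar a k ρ) {g : rotGroup a k}
    (hg : ρ g ^ 2 ≠ 1) : 4 ∣ orderOf (g : G) := by
  obtain ⟨m, hm⟩ := h.exists_pow_four r hg
  exact hm ▸ orderOf_pow_dvd m

/-- Conjugation between elements off `ρ = ± 1` stays inside `R ⟨b⟩`. -/
theorem mem_of_conj (h : Config S a b z k) (r : RotChar a k ρ) {g g' : rotGroup a k} {x : G}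
    (hx : x * (g : G) * x⁻¹ = (g' : G)) (hg : ρ g ^ 2 ≠ 1) :
    x ∈ rotGroup a k ∨ b * x ∈ rotGroup a k := by
  obtain ⟨m, hm⟩ := h.exists_pow_four r hg
  have e : x * (g : G) ^ m * x⁻¹ = (g' : G) ^ m := by rw [← hx, conj_pow]
  have hm' : orderOf ((g' : G) ^ m) = 4 := by
    rw [← e, show x * (g : G) ^ m * x⁻¹ = MulAut.conj x ((g : G) ^ m) from rfl, MulEquiv.orderOf_eq, hm]
  rw [← Subgroup.coe_pow, ← Subgroup.coe_pow] at e
  rw [← Subgroup.coe_pow, Subgroup.orderOf_coe] at hm hm'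
  refine h.mem_or_mem ?_
  rcases h.eq_four_or r hm with e1 | e1 <;> rcases h.eq_four_or r hm' with e2 | e2 <;>
    rw [e1, e2] at e
  · exact Or.inl e
  · exact Or.inr e
  · exact Or.inr (inv_injective (by rw [inv_inv]; simpa [mul_assoc] using e))
  · exact Or.inl (inv_injective (by simpa [mul_assoc] using e))

theorem rho_conj_b (h : Config S a b z k) (r : RotChar a k ρ) (g : rotGroup a k) :
    ρ ⟨b * (g : G) * b⁻¹, h.conj_mem_rot g.2⟩ = ρ g ^ sdExp k := by
  obtain ⟨j, -, hj⟩ := r.exists_pow g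
  set a' : rotGroup a k := ⟨a, Config.a_mem_rot⟩
  set w : rotGroup a k := g * (a' ^ j)⁻¹ with hw
  have hρw : ρ w = 1 := by rw [hw, map_mul, map_inv, map_pow, hj, mul_inv_cancel]
  set w' : rotGroup a k := ⟨b * (w : G) * b⁻¹, h.conj_mem_rot w.2⟩ with hw'
  have hodd : Odd (orderOf w') := by
    rw [hw', Subgroup.orderOf_mk, show b * (w : G) * b⁻¹ = MulAut.conj b (w : G) from rfl,
      MulEquiv.orderOf_eq, Subgroup.orderOf_coe]
    exact r.ker w hρw
  have e : (⟨b * (g : G) * b⁻¹, h.conj_mem_rot g.2⟩ : rotGroup a k) = w' * a' ^ (sdExp k * j) := by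
    refine Subtype.ext ?_
    show b * (g : G) * b⁻¹ = b * ((g : G) * (((a' ^ j : rotGroup a k)) : G)⁻¹) * b⁻¹ *
      ((a' ^ (sdExp k * j) : rotGroup a k) : G)
    rw [Subgroup.coe_pow, Subgroup.coe_pow, ← h.conj_rot_pow]
    show b * (g : G) * b⁻¹ = b * ((g : G) * (a ^ j)⁻¹) * b⁻¹ * (b * a ^ j * b⁻¹)
    simp [mul_assoc]
  rw [e, map_mul, r.map_odd hodd, one_mul, map_pow, hj, ← pow_mul, mul_comm]

theorem card_rot_sup (h : Config S a b z k) (x : G) :
    (x ∈ rotGroup a k → b * x ∉ rotGroup a k) := fun hx hbx => by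
  refine h.b_notMem_rot ?_
  simpa using mul_mem hbx (inv_mem hx)

variable [Fintype G]

/-- The class function of the rotations attached to a function of roots of unity. -/
noncomputable def lift (ρ : rotGroup a k →* ℂˣ) (f : ℂˣ → ℂ) : rotGroup a k → ℂ := fun g => f (ρ g)

/-- The value of the induced function on the rotations. -/
theorem indFun_lift_apply (h : Config S a b z k) (r : RotChar a k ρ) {f : ℂˣ → ℂ}
    (hf : ∀ u : ℂˣ, u ^ 2 = 1 → f u = 0) (g : rotGroup a k) :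
    indFun (rotGroup a k) (lift ρ f) (g : G) = f (ρ g) + f (ρ g ^ sdExp k) := by
  have key : ∀ x : G, extendByZero (rotGroup a k) (lift ρ f) (x⁻¹ * (g : G) * x)
      = (if x ∈ rotGroup a k then f (ρ g) else 0)
        + (if x⁻¹ ∈ rotGroup a k then 0 else
            if b * x⁻¹ ∈ rotGroup a k then f (ρ g ^ sdExp k) else 0) := by
    intro x
    by_cases hx : x ∈ rotGroup a k
    · rw [if_pos hx, if_pos (inv_mem hx : x⁻¹ ∈ rotGroup a k), add_zero,
        Char.extendByZero_apply_mem _ _ (mul_mem (mul_mem (inv_mem hx) g.2) hx)]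
      show f (ρ ((⟨x, hx⟩ : rotGroup a k)⁻¹ * g * ⟨x, hx⟩)) = _
      rw [map_mul, map_mul, map_inv, mul_comm (ρ ⟨x, hx⟩)⁻¹, inv_mul_cancel_right]
    · rw [if_neg hx, if_neg (fun hc => hx (by simpa using inv_mem (hc : x⁻¹ ∈ rotGroup a k))),
        zero_add]
      by_cases hbx : b * x⁻¹ ∈ rotGroup a k
      · have e : x⁻¹ * (g : G) * x = b * ((b * x⁻¹ : G) * g * (b * x⁻¹)⁻¹) * b⁻¹ := by
          simp only [mul_inv_rev, inv_inv, h.b_inv, mul_assoc, h.b_sq, mul_one]
          rw [← mul_assoc b b, h.b_sq, one_mul]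
        rw [if_pos hbx, e, Char.extendByZero_apply_mem _ _
          (h.conj_mem_rot (mul_mem (mul_mem hbx g.2) (inv_mem hbx)))]
        show f (ρ ⟨_, h.conj_mem_rot (mul_mem (mul_mem hbx g.2) (inv_mem hbx))⟩) = _
        have := h.rho_conj_b r ((⟨b * x⁻¹, hbx⟩ : rotGroup a k) * g * ⟨b * x⁻¹, hbx⟩⁻¹)
        rw [map_mul, map_mul, map_inv, mul_comm (ρ ⟨b * x⁻¹, hbx⟩) (ρ g), mul_inv_cancel_right] at this
        exact congrArg f this
      · rw [if_neg hbx]
        by_cases hm : x⁻¹ * (g : G) * x ∈ rotGroup a k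
        · rw [Char.extendByZero_apply_mem _ _ hm]
          refine hf _ ?_
          by_contra hne
          rcases h.mem_of_conj r (g := ⟨_, hm⟩) (g' := g) (x := x) (by simp [mul_assoc]) hne with
            hc | hc
          · exact hx hc
          · refine hbx (mem_centralizer_singleton_iff.2 ?_)
            have hc' := h.conj_mem_rot (inv_mem hc)
            rw [show b * (b * x)⁻¹ * b⁻¹ = b * x⁻¹ * (b⁻¹ * b⁻¹) by group, h.b_inv, h.b_sq, mul_one] at hc'
            exact mem_centralizer_singleton_iff.1 hc'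
        · rw [Char.extendByZero_apply_notMem _ _ hm]
  have hcard : ∀ (P : G → Prop) (c : ℂ) (e : G ≃ G), (∀ x, P (e x) ↔ x ∈ rotGroup a k) →
      ∑ x : G, (if P x then c else 0) = (Nat.card (rotGroup a k) : ℂ) * c := by
    intro P c e he
    rw [← e.sum_comp]
    simp only [he]
    rw [← Finset.sum_filter, Finset.sum_const, nsmul_eq_mul, Nat.card_eq_fintype_card,
      Fintype.card_subtype]
  have hsecond : ∀ x : G, (if x⁻¹ ∈ rotGroup a k then (0 : ℂ) else
      if b * x⁻¹ ∈ rotGroup a k then f (ρ g ^ sdExp k) else 0)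
      = if b * x⁻¹ ∈ rotGroup a k then f (ρ g ^ sdExp k) else 0 := by
    intro x
    by_cases hx : x⁻¹ ∈ rotGroup a k
    · rw [if_pos hx, if_neg (h.card_rot_sup _ hx)]
    · rw [if_neg hx]
  rw [Char.indFun_def, Finset.sum_congr rfl fun x _ => key x, Finset.sum_add_distrib,
    hcard (fun x => x ∈ rotGroup a k) _ (Equiv.refl G) (fun x => Iff.rfl),
    Finset.sum_congr rfl fun x _ => hsecond x,
    hcard (fun x => b * x⁻¹ ∈ rotGroup a k) _ ((Equiv.mulLeft b⁻¹).trans (Equiv.inv G))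
      (fun x => by simp),
    ← mul_add, inv_mul_cancel_left₀ (Nat.cast_ne_zero.2 Nat.card_pos.ne')]

/-- Sums over the rotations of functions of `ρ`. -/
theorem sum_lift (r : RotChar a k ρ) (F : ℂˣ → ℂ) :
    ∑ g : rotGroup a k, F (ρ g) = (Nat.card ρ.ker : ℂ) *
      ∑ j ∈ Finset.range (2 ^ k), F (ρ ⟨a, Config.a_mem_rot⟩ ^ j) := by
  set a' : rotGroup a k := ⟨a, Config.a_mem_rot⟩
  rw [Finset.mul_sum, ← Finset.sum_fiberwise_of_maps_to
    (g := fun g : rotGroup a k => (r.exists_pow g).choose) (t := Finset.range (2 ^ k))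
    (fun g _ => Finset.mem_range.2 (r.exists_pow g).choose_spec.1)]
  refine Finset.sum_congr rfl fun j hj => ?_
  have hiff : ∀ g : rotGroup a k, (r.exists_pow g).choose = j ↔ ρ g = ρ a' ^ j := fun g => by
    obtain ⟨hlt, he⟩ := (r.exists_pow g).choose_spec
    refine ⟨fun hh => by rw [hh] at he; exact he, fun hh => ?_⟩
    exact pow_injOn_Iio_orderOf (x := ρ a') (Set.mem_Iio.2 (by rw [r.ord]; exact hlt))
      (Set.mem_Iio.2 (by rw [r.ord]; exact Finset.mem_range.1 hj)) (he.symm.trans hh)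
  rw [Finset.sum_congr rfl (g := fun _ => F (ρ a' ^ j)) fun g hg => by
      rw [(hiff g).1 (Finset.mem_filter.1 hg).2],
    Finset.sum_const, nsmul_eq_mul]
  congr 2
  rw [Nat.card_eq_fintype_card, ← Finset.card_univ]
  symm
  refine Finset.card_bij (fun g _ => a' ^ j * (g : rotGroup a k)) (fun g _ => ?_)
    (fun g _ g' _ e => Subtype.ext (mul_left_cancel e)) fun g hg => ?_
  · refine Finset.mem_filter.2 ⟨Finset.mem_univ _, (hiff _).2 ?_⟩
    rw [map_mul, map_pow, MonoidHom.mem_ker.1 g.2, mul_one]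
  · refine ⟨⟨(a' ^ j)⁻¹ * g, ?_⟩, Finset.mem_univ _, mul_inv_cancel_left _ _⟩
    rw [MonoidHom.mem_ker, map_mul, map_inv, map_pow, (hiff g).1 (Finset.mem_filter.1 hg).2,
      inv_mul_cancel]

theorem card_rot (r : RotChar a k ρ) : Nat.card (rotGroup a k) = 2 ^ k * Nat.card ρ.ker := by
  have h1 := sum_lift r (fun _ => 1)
  simp only [Finset.sum_const, Finset.card_univ, Finset.card_range, nsmul_eq_mul, mul_one,
    ← Nat.card_eq_fintype_card] at h1
  exact_mod_cast h1.trans (mul_comm _ _)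

theorem mem_rot_of_commute (h : Config S a b z k) (r : RotChar a k ρ) {u : rotGroup a k}
    (hu : ρ u ^ 2 ≠ 1) {x : G} (hx : Commute x (u : G)) : x ∈ rotGroup a k := by
  have e : x * (u : G) * x⁻¹ = (u : G) := by rw [hx.eq, mul_inv_cancel_right]
  refine (h.mem_of_conj r e hu).resolve_right fun hbx => hu ?_
  set y : rotGroup a k := ⟨b * x, hbx⟩ * u * ⟨b * x, hbx⟩⁻¹ with hy
  have h1 : ρ y = ρ u := by
    rw [hy, map_mul, map_mul, map_inv, mul_comm (ρ ⟨b * x, hbx⟩) (ρ u), mul_inv_cancel_right]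
  have h2 : y = ⟨b * (u : G) * b⁻¹, h.conj_mem_rot u.2⟩ := by
    refine Subtype.ext ?_
    show b * x * (u : G) * (b * x)⁻¹ = _
    rw [show b * x * (u : G) * (b * x)⁻¹ = b * (x * (u : G) * x⁻¹) * b⁻¹ by group, e]
  rw [h2, h.rho_conj_b r] at h1
  obtain ⟨j, -, hj⟩ := r.exists_pow u
  have e1 : (ρ u : ℂˣ) ^ (sdExp k + 1) = ρ u ^ 2 := by rw [pow_succ, h1, sq]
  obtain ⟨p1, p2, p3⟩ := h.pow_eq
  rw [show sdExp k + 1 = 2 ^ (k - 1) by rw [sdExp]; omega] at e1
  rcases Nat.even_or_odd j with ⟨i, rfl⟩ | hodd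
  · rw [hj, ← pow_mul, show (i + i) * 2 ^ (k - 1) = i * (2 * 2 ^ (k - 1)) by ring, ← p1, mul_comm i,
      pow_mul, ← r.ord, pow_orderOf_eq_one, one_pow, ← hj] at e1
    exact e1.symm
  · exfalso
    rw [hj, ← pow_mul, ← pow_mul, pow_inj_mod, r.ord] at e1
    rw [← Nat.ModEq] at e1
    have h2 : 2 ^ 2 ∣ 2 ^ k := pow_dvd_pow 2 (by have := h.three_le; omega)
    have := (e1.of_dvd h2)
    have h4 : 2 ^ 2 ∣ j * 2 ^ (k - 1) :=
      (pow_dvd_pow 2 (by have := h.three_le; omega)).trans (dvd_mul_left _ _)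
    obtain ⟨i, rfl⟩ := hodd
    rw [Nat.ModEq, Nat.mod_eq_zero_of_dvd h4] at this
    omega

/-- The part of a fibre with given 2-part is the section of a 2-element of the rotations. -/
theorem npc_centralizer (h : Config S a b z k) (r : RotChar a k ρ) {u : rotGroup a k}
    (hu : ρ u ^ 2 ≠ 1) :
    Cfsg.HasNormalPComplement 2 ↥(centralizer ({(u : G)} : Set G)) := by
  haveI : Fact (Nat.Prime 2) := ⟨Nat.prime_two⟩
  refine BrauerSuzuki.npc_of_cyclic_two_subgroups fun P hP => ?_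
  set ι : ↥(centralizer ({(u : G)} : Set G)) →* rotGroup a k :=
    Subgroup.inclusion fun x hx => h.mem_rot_of_commute r hu (mem_centralizer_singleton_iff.1 hx)
  set φ : ↥P →* ℂˣ := (ρ.comp ι).comp P.subtype
  have hφ : Function.Injective φ := by
    rw [injective_iff_map_eq_one]
    intro x hx
    obtain ⟨j, hj⟩ := hP x
    refine Subtype.ext (Subgroup.inclusion_injective _ (r.eq_one_of_two (j := j) ?_ hx))
    refine orderOf_dvd_of_pow_eq_one ?_
    rw [← map_pow, ← Subgroup.coe_pow, hj, OneMemClass.coe_one, map_one]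
  haveI : Finite φ.range := Finite.of_surjective _ φ.rangeRestrict_surjective
  haveI : IsCyclic φ.range := isCyclic_subgroup_units _
  exact isCyclic_of_injective φ.rangeRestrict fun x y e => hφ (congrArg Subtype.val e)

/-- A character of the principal block is constant on the fibres. -/
theorem apply_eq (h : Config S a b z k) (r : RotChar a k ρ) {M : Ideal AlgInt}
    (hM : IsPModular 2 M) {χ : IrrCharacter G} (hχ : χ ∈ principalBlock M G) {g : rotGroup a k}
    (hg : ρ g ^ 2 ≠ 1) {j : ℕ} (hj : ρ g = ρ ⟨a, Config.a_mem_rot⟩ ^ j) :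
    (χ : G → ℂ) (g : G) = (χ : G → ℂ) (a ^ j) := by
  haveI : Fact (Nat.Prime 2) := ⟨Nat.prime_two⟩
  obtain ⟨u, y, -, huy, hcomm, hy, ⟨i, hi⟩, hu, hyz⟩ :=
    Blocks.exists_isPPart Nat.prime_two (g : G)
  have huR : u ∈ rotGroup a k := Subgroup.zpowers_le.2 g.2 hu
  have hyR : y ∈ rotGroup a k := Subgroup.zpowers_le.2 g.2 hyz
  have hρy : ρ ⟨y, hyR⟩ = 1 := r.map_odd (by
    rw [Subgroup.orderOf_mk, Nat.odd_iff]; omega)
  have hρu : ρ ⟨u, huR⟩ = ρ g := by
    conv_rhs => rw [show g = ⟨u, huR⟩ * ⟨y, hyR⟩ from Subtype.ext huy.symm, map_mul, hρy, mul_one]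
  rw [← huy, Blocks.SectionSums.apply_section hM hχ ⟨i, hi⟩
    (h.npc_centralizer r (u := ⟨u, huR⟩) (hρu ▸ hg)) hcomm.symm hy]
  -- move the 2-element into `⟨a⟩`
  set a' : rotGroup a k := ⟨a, Config.a_mem_rot⟩
  have hpA : IsPGroup 2 (zpowers a') := IsPGroup.of_card (n := k) (by
    rw [Nat.card_zpowers, Subgroup.orderOf_mk, h.ord_a])
  obtain ⟨P, hAP⟩ := hpA.exists_le_sylow
  obtain ⟨c, hc⟩ := Blocks.TIAbelian.exists_conj_mem_sylow_p P
    (R := zpowers (⟨u, huR⟩ : rotGroup a k)) (IsPGroup.of_card (n := i) (by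
      rw [Nat.card_zpowers, Subgroup.orderOf_mk, hi]))
  have hcu := hc _ (mem_zpowers _)
  rw [h.card_le_of_isPGroup _ P.2 (hAP (mem_zpowers a'))] at hcu
  obtain ⟨l, hl⟩ := (mem_powers_iff_mem_zpowers).2 hcu
  have hρ : ρ a' ^ l = ρ a' ^ j := by
    rw [← hj, ← hρu, ← map_pow]
    have := congrArg ρ hl
    rw [map_mul, map_mul, map_inv, mul_comm (ρ c) (ρ ⟨u, huR⟩), mul_inv_cancel_right] at this
    exact this
  have hcu' : (c : G) * u * (c : G)⁻¹ = a ^ j := by
    rw [pow_inj_mod, r.ord, ← h.ord_a, ← pow_inj_mod] at hρ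
    rw [← hρ]
    exact (congrArg Subtype.val hl).symm
  rw [← hcu', Blocks.irr_conj_apply]

/-- Outside the principal block the fibres sum to zero. -/
theorem sum_fibre_eq_zero (h : Config S a b z k) (r : RotChar a k ρ) {M : Ideal AlgInt}
    (hM : IsPModular 2 M) {χ : IrrCharacter G} (hχ : χ ∉ principalBlock M G) {v : ℂˣ}
    (hv : v ^ 2 ≠ 1) :
    ∑ g : rotGroup a k with ρ g = v, (χ : G → ℂ) (g : G) = 0 := by
  haveI : Fact (Nat.Prime 2) := ⟨Nat.prime_two⟩
  have hp : ∀ g : rotGroup a k, ∃ u : G, IsPPart 2 (g : G) u := fun g => by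
    obtain ⟨u, y, hu, -⟩ := Blocks.exists_isPPart Nat.prime_two (g : G)
    exact ⟨u, hu⟩
  choose p hp using hp
  rw [← Finset.sum_fiberwise_of_maps_to (g := p) (t := Finset.univ) fun _ _ => Finset.mem_univ _]
  refine Finset.sum_eq_zero fun u _ => ?_
  rcases Finset.eq_empty_or_nonempty
    ((Finset.univ.filter fun g : rotGroup a k => ρ g = v).filter fun g => p g = u) with he | ⟨g₀, hg₀⟩
  · rw [he, Finset.sum_empty]
  simp only [Finset.mem_filter, Finset.mem_univ, true_and] at hg₀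
  obtain ⟨u', y, hu', huy, hcomm, hy, hord, hu, hyz⟩ := Blocks.exists_isPPart Nat.prime_two (g₀ : G)
  obtain rfl : u' = u := (Blocks.isPPart_unique Nat.prime_two hu' (hg₀.2 ▸ hp g₀))
  have huR : u' ∈ rotGroup a k := Subgroup.zpowers_le.2 g₀.2 hu
  have hyR : y ∈ rotGroup a k := Subgroup.zpowers_le.2 g₀.2 hyz
  have hρ : ∀ s : rotGroup a k, ¬ 2 ∣ orderOf (s : G) → ρ s = 1 := fun s hs => r.map_odd (by
    rw [← Subgroup.orderOf_coe, Nat.odd_iff]; omega)
  have hρu : ρ ⟨u', huR⟩ = v := by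
    rw [← hg₀.1, show g₀ = ⟨u', huR⟩ * ⟨y, hyR⟩ from Subtype.ext huy.symm, map_mul,
      hρ ⟨y, hyR⟩ hy, mul_one]
  have hu2 : ρ ⟨u', huR⟩ ^ 2 ≠ 1 := hρu ▸ hv
  have hle : ∀ s : centralizer ({u'} : Set G), (s : G) ∈ rotGroup a k := fun s =>
    h.mem_rot_of_commute r hu2 (mem_centralizer_singleton_iff.1 s.2)
  rw [← Blocks.SectionSums.sum_section_eq_zero hM hχ hord]
  symm
  refine Finset.sum_bij (fun (s : centralizer ({u'} : Set G)) _ =>
    (⟨u' * (s : G), mul_mem huR (hle s)⟩ : rotGroup a k)) (fun s hs => ?_) (fun s _ t _ e => ?_)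
    (fun g hg => ?_) fun s _ => rfl
  · have hs' : ¬ 2 ∣ orderOf (s : G) := by
      rw [Subgroup.orderOf_coe]; exact (Finset.mem_filter.1 hs).2
    refine Finset.mem_filter.2 ⟨Finset.mem_filter.2 ⟨Finset.mem_univ _, ?_⟩, ?_⟩
    · rw [show (⟨u' * (s : G), mul_mem huR (hle s)⟩ : rotGroup a k) = ⟨u', huR⟩ * ⟨s, hle s⟩ from rfl,
        map_mul, hρ ⟨s, hle s⟩ hs', mul_one, hρu]
    · exact Blocks.isPPart_unique Nat.prime_two (hp _) ⟨(s : G), rfl,
        (mem_centralizer_singleton_iff.1 s.2).symm, hord, hs'⟩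
  · exact Subtype.ext (mul_left_cancel (congrArg Subtype.val e))
  · obtain ⟨-, hg⟩ := Finset.mem_filter.1 hg
    obtain ⟨y', he, hc, -, hy'⟩ := (hg ▸ hp g : IsPPart 2 (g : G) u')
    refine ⟨⟨y', mem_centralizer_singleton_iff.2 hc.eq.symm⟩, Finset.mem_filter.2 ⟨Finset.mem_univ _,
      ?_⟩, Subtype.ext he⟩
    show ¬ 2 ∣ orderOf (⟨y', _⟩ : centralizer ({u'} : Set G))
    rwa [Subgroup.orderOf_mk]

end Config

end CfsgLib.SDBlock
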