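import Cfsg.Agent.Lib.GWDihedral.LTwoField
import Cfsg.Agent.Lib.GWDihedral.Consumers.QuasiDihedral

/-!
# The action of `Aut PSL(2,q)` on the projective line, `q` odd

`ptHom` is the permutation action of the automorphism group on the `q + 1` points; an involution of
`pgl` fixes none or two of them, as its determinant class decides.
-/

set_option autoImplicit false
set_option linter.style.haveILetI false
set_option linter.unusedSectionVars false

namespace CfsgLib.SDBlock.LineModel

open Matrix Projectivization CfsgLib.KnownC.AutPSL CfsgLib.GWDihedral.LTwoAut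

variable {F : Type} [Field F] [Fintype F]

local notation "SL₂" => Matrix.SpecialLinearGroup (Fin 2) F
local notation "PSL" => Matrix.ProjectiveSpecialLinearGroup (Fin 2) F

/-! ### The action -/

/-- An injective map equivariant for an automorphism is determined by it. -/
theorem equivariant_unique {α : MulAut PSL} {f g : Pt F 2 → Pt F 2} (hf : Function.Injective f)
    (hfe : ∀ (h : PSL) P, f (h • P) = α h • f P) (hge : ∀ (h : PSL) P, g (h • P) = α h • g P) :
    f = g := by
  funext P
  by_contra hne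
  obtain ⟨h', h1, h2⟩ := exists_psl_move hne
  have hP : α.symm h' • P = P := hf (by rw [hfe, α.apply_symm_apply, h1])
  have := hge (α.symm h') P
  rw [hP, α.apply_symm_apply] at this
  exact h2 this.symm

theorem exists_perm (α : MulAut PSL) :
    ∃ π : Equiv.Perm (Pt F 2), ∀ (h : PSL) P, π (h • P) = α h • π P := by
  obtain ⟨A, σ, rfl⟩ := exists_semi' α
  exact ⟨Equiv.ofBijective _ (semiPt_bijective A σ), semiPt_equivariant A σ⟩

/-- The action of an automorphism on the points. -/
noncomputable def ptHom : MulAut PSL →* Equiv.Perm (Pt F 2) :=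
  MonoidHom.mk' (fun α => (exists_perm α).choose) fun α β => by
    refine Equiv.coe_fn_injective (equivariant_unique (α := α * β) (Equiv.injective _)
      (exists_perm (α * β)).choose_spec fun h P => ?_)
    show (exists_perm α).choose ((exists_perm β).choose (h • P)) =
      (α * β) h • (exists_perm α).choose ((exists_perm β).choose P)
    rw [(exists_perm β).choose_spec, (exists_perm α).choose_spec]
    rfl

theorem ptHom_smul (α : MulAut PSL) (h : PSL) (P : Pt F 2) :
    ptHom α (h • P) = α h • ptHom α P := (exists_perm α).choose_spec h P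

theorem ptHom_semi (A : GL (Fin 2) F) (σ : F ≃+* F) (P : Pt F 2) :
    ptHom (semiAut A σ) P = semiPt A σ P :=
  congrFun (equivariant_unique (α := semiAut A σ) (ptHom (semiAut A σ)).injective
    (fun h => ptHom_smul _ h) (semiPt_equivariant A σ)) P

theorem ptHom_sa (A : GL (Fin 2) F) {v : Fin 2 → F} (hv : v ≠ 0) :
    ptHom (sa A) (Projectivization.mk F v hv) =
      Projectivization.mk F ((A : Matrix (Fin 2) (Fin 2) F) *ᵥ v) (gl_ne_zero A hv) := by
  rw [sa_apply, ptHom_semi, semiPt_mk]
  rfl

theorem ptHom_conj (g : PSL) (P : Pt F 2) : ptHom (MulAut.conj g) P = g • P :=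
  congrFun (equivariant_unique (α := MulAut.conj g) (ptHom (MulAut.conj g)).injective
    (fun h => ptHom_smul _ h) fun h Q => by
      rw [MulAut.conj_apply, mul_smul, mul_smul, inv_smul_smul]) P

theorem card_pt : Nat.card (Pt F 2) = Fintype.card F + 1 := by
  rw [Projectivization.card_of_finrank_two F _ (by simp), Nat.card_eq_fintype_card]

theorem det_ne {v w : Fin 2 → F} (hv : v ≠ 0) (hw : w ≠ 0)
    (h : Projectivization.mk F v hv ≠ Projectivization.mk F w hw) : v 0 * w 1 - v 1 * w 0 ≠ 0 := by
  intro e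
  by_cases h0 : v 0 = 0
  · have h1 : v 1 ≠ 0 := fun h1 => hv (funext fun i => by fin_cases i <;> assumption)
    have hw0 : w 0 = 0 := by
      rw [h0, zero_mul, zero_sub, neg_eq_zero] at e
      exact (mul_eq_zero.1 e).resolve_left h1
    have hw1 : w 1 ≠ 0 := fun h1' => hw (funext fun i => by fin_cases i <;> assumption)
    refine h (mk_congr hv hw (v 1 / w 1) (funext fun i => ?_))
    fin_cases i
    · simp [h0, hw0]
    · simp [hw1]
  · have hw0 : w 0 ≠ 0 := fun hw0 => by
      rw [hw0, mul_zero, sub_zero] at e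
      exact hw (funext fun i => by
        fin_cases i
        · exact hw0
        · exact (mul_eq_zero.1 e).resolve_left h0)
    refine h (mk_congr hv hw (v 0 / w 0) (funext fun i => ?_))
    fin_cases i
    · simp [hw0]
    · simp only [Pi.smul_apply, smul_eq_mul]
      show v 0 / w 0 * w 1 = v 1
      field_simp
      linear_combination e

theorem exists_smul_pair {P Q P' Q' : Pt F 2} (h : P ≠ Q) (h' : P' ≠ Q') :
    ∃ g : PSL, g • P = P' ∧ g • Q = Q' := by
  induction P using Projectivization.ind with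
  | _ v hv =>
  induction Q using Projectivization.ind with
  | _ w hw =>
  induction P' using Projectivization.ind with
  | _ v' hv' =>
  induction Q' using Projectivization.ind with
  | _ w' hw' =>
  have hd := det_ne hv hw h
  have hd' := det_ne hv' hw' h'
  set d := v 0 * w 1 - v 1 * w 0 with hdd
  set d' := v' 0 * w' 1 - v' 1 * w' 0 with hdd'
  set c := d / d' with hc
  set M : Matrix (Fin 2) (Fin 2) F :=
    !![(v' 0 * w 1 - c * w' 0 * v 1) / d, (c * w' 0 * v 0 - v' 0 * w 0) / d;
      (v' 1 * w 1 - c * w' 1 * v 1) / d, (c * w' 1 * v 0 - v' 1 * w 0) / d] with hM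
  have hMd : M.det = 1 := by
    rw [hM, Matrix.det_fin_two_of, hc]
    field_simp
    rw [hdd, hdd']
    ring
  have hMv : M *ᵥ v = v' := funext fun i => by
    fin_cases i <;> simp [hM, Matrix.mulVec, dotProduct, Fin.sum_univ_two] <;> field_simp <;>
      rw [hdd] <;> ring
  have hMw : M *ᵥ w = c • w' := funext fun i => by
    fin_cases i <;> simp [hM, Matrix.mulVec, dotProduct, Fin.sum_univ_two] <;> field_simp <;>
      rw [hdd] <;> ring
  refine ⟨QuotientGroup.mk (⟨M, hMd⟩ : SL₂), ?_, ?_⟩
  · exact (psl_smul_mk (⟨M, hMd⟩ : SL₂) hv).trans (mk_congr _ _ 1 (by rw [one_smul]; exact hMv.symm))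
  · exact (psl_smul_mk (⟨M, hMd⟩ : SL₂) hw).trans (mk_congr _ _ c hMw.symm)

/-! ### Fixed points of involutions -/

/-- The number of fixed points of an automorphism. -/
noncomputable def fixNum (α : MulAut PSL) : ℕ := Nat.card {P : Pt F 2 // ptHom α P = P}

theorem fixNum_conj (α β : MulAut PSL) : fixNum (β * α * β⁻¹) = fixNum α := by
  refine (Nat.card_congr ((ptHom β).subtypeEquiv fun P => ?_)).symm
  rw [map_mul, map_mul, map_inv, Equiv.Perm.mul_apply, Equiv.Perm.mul_apply,
    Equiv.Perm.inv_def, Equiv.symm_apply_apply, Equiv.apply_eq_iff_eq]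

theorem fixNum_one : fixNum (1 : MulAut PSL) = Fintype.card F + 1 := by
  rw [fixNum, ← card_pt]
  exact Nat.card_congr (Equiv.subtypeUnivEquiv fun P => by rw [map_one]; rfl)

theorem ptHom_jm (δ : Fˣ) (x y : F) (hv : (![x, y] : Fin 2 → F) ≠ 0) :
    ptHom (sa (jm δ)) (Projectivization.mk F ![x, y] hv) = Projectivization.mk F ![x, y] hv ↔
      ∃ c : F, c * x = y ∧ c * y = δ * x := by
  rw [ptHom_sa, mk_eq_mk_iff']
  refine exists_congr fun c => ?_
  rw [jm_val, funext_iff, Fin.forall_fin_two]
  simp [Matrix.mulVec, dotProduct, Fin.sum_univ_two]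

theorem fixNum_jm (h2 : (2 : F) ≠ 0) (δ : Fˣ) [Decidable (IsSquare (δ : F))] :
    fixNum (sa (jm δ) : MulAut PSL) = if IsSquare (δ : F) then 2 else 0 := by
  have key : ∀ P : Pt F 2, ptHom (sa (jm δ)) P = P →
      ∃ c : F, c * c = δ ∧ ∃ hv : (![1, c] : Fin 2 → F) ≠ 0, P = Projectivization.mk F ![1, c] hv := by
    intro P
    induction P using Projectivization.ind with
    | _ v hv =>
    intro hP
    have hv' : v = ![v 0, v 1] := funext fun i => by fin_cases i <;> rfl
    obtain ⟨c, h0, h1⟩ : ∃ c : F, c * v 0 = v 1 ∧ c * v 1 = δ * v 0 := by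
      have hv2 : (![v 0, v 1] : Fin 2 → F) ≠ 0 := hv' ▸ hv
      refine (ptHom_jm δ _ _ hv2).1 ?_
      have e : Projectivization.mk F ![v 0, v 1] hv2 = Projectivization.mk F v hv :=
        mk_congr _ _ 1 (by rw [one_smul]; exact hv')
      rw [e]
      exact hP
    have hx : v 0 ≠ 0 := fun hx => hv (funext fun i => by
      fin_cases i
      · exact hx
      · rw [hx, mul_zero] at h0; exact h0.symm)
    refine ⟨c, mul_right_cancel₀ hx (by linear_combination h1 + c * h0), fun e => ?_,
      mk_congr _ _ (v 0) (funext fun i => ?_)⟩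
    · simpa using congrFun e 0
    · fin_cases i
      · simp
      · simp [← h0, mul_comm]
  by_cases hδ : IsSquare (δ : F)
  · rw [if_pos hδ]
    obtain ⟨r, hr⟩ := hδ
    have hr0 : r ≠ 0 := fun e => δ.ne_zero (by rw [hr, e, mul_zero])
    have hne : ∀ c : F, (![1, c] : Fin 2 → F) ≠ 0 := fun c e => by simpa using congrFun e 0
    have hfix : ∀ c : F, c * c = δ →
        ptHom (sa (jm δ)) (Projectivization.mk F ![1, c] (hne c)) =
          Projectivization.mk F ![1, c] (hne c) :=
      fun c hc => (ptHom_jm δ 1 c (hne c)).2 ⟨c, mul_one c, by rw [hc, mul_one]⟩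
    rw [fixNum, Nat.card_eq_two_iff]
    refine ⟨⟨_, hfix r hr.symm⟩, ⟨_, hfix (-r) (by rw [neg_mul_neg]; exact hr.symm)⟩, fun e => ?_,
      Set.eq_univ_of_forall fun P => ?_⟩
    · obtain ⟨c, hc⟩ := (mk_eq_mk_iff' F _ _ _ _).1 (congrArg Subtype.val e)
      have e0 : c = 1 := by simpa using congrFun hc 0
      have e1 : -r = r := by simpa [e0] using congrFun hc 1
      exact mul_ne_zero h2 hr0 (by linear_combination -e1)
    · obtain ⟨c, hc, hv, hP⟩ := key P.1 P.2
      rw [hr] at hc
      rcases mul_self_eq_mul_self_iff.1 hc with rfl | rfl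
      · exact Or.inl (Subtype.ext hP)
      · exact Or.inr (Subtype.ext hP)
  · rw [if_neg hδ, fixNum, Nat.card_eq_zero]
    refine Or.inl ⟨fun P => hδ ?_⟩
    obtain ⟨c, hc, -⟩ := key P.1 P.2
    exact ⟨c, hc.symm⟩

/-- An involution of `pgl`: its fixed points and the order of its centraliser in `pgl`. -/
theorem involution_data (hodd : Odd (Fintype.card F)) {α : MulAut PSL}
    (hα : α ∈ (pgl : Subgroup (MulAut PSL))) (h2 : α * α = 1) (h1 : α ≠ 1) :
    ∃ n : ℕ, fixNum α = n ∧
      ((n = 2 ∧ (α ∈ (inn : Subgroup (MulAut PSL)) ↔ Fintype.card F % 4 ≠ 3) ∧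
          Nat.card ↥((pgl : Subgroup (MulAut PSL)) ⊓ Subgroup.centralizer {α}) =
            2 * (Fintype.card F - 1)) ∨
       (n = 0 ∧ (α ∈ (inn : Subgroup (MulAut PSL)) ↔ Fintype.card F % 4 = 3) ∧
          Nat.card ↥((pgl : Subgroup (MulAut PSL)) ⊓ Subgroup.centralizer {α}) =
            2 * (Fintype.card F + 1))) := by
  classical
  have h20 := two_ne_zero_of_odd (F := F) hodd
  obtain ⟨A, rfl⟩ := hα
  obtain ⟨P, δ, hdet, hconj⟩ := exists_conj_jm h20 h2 h1
  have hn : fixNum (sa A : MulAut PSL) = if IsSquare (δ : F) then 2 else 0 := by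
    rw [← fixNum_jm h20, ← hconj, fixNum_conj]
  have hinn : (sa A : MulAut PSL) ∈ (inn : Subgroup (MulAut PSL)) ↔
      (IsSquare (δ : F) ↔ Fintype.card F % 4 ≠ 3) := by
    rw [sa_mem_inn, hdet, isSquare_units, Units.val_neg, neg_eq_neg_one_mul,
      isSquare_mul_iff hodd (neg_ne_zero.2 one_ne_zero) δ.ne_zero, FiniteField.isSquare_neg_one_iff]
    exact ⟨fun h => h.symm, fun h => h.symm⟩
  have hsaP : (sa P : MulAut PSL) ∈ (pgl : Subgroup (MulAut PSL)) := sa_mem_pgl P
  have hcard : Nat.card ↥((pgl : Subgroup (MulAut PSL)) ⊓ Subgroup.centralizer {(sa A : MulAut PSL)}) =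
      2 * Nat.card (tor δ : Subgroup (MulAut PSL)) := by
    rw [← card_centralizer h20 δ, ← hconj]
    refine Nat.card_congr ((MulAut.conj (sa P : MulAut PSL)).toEquiv.subtypeEquiv fun x => ?_)
    simp only [Subgroup.mem_inf, Subgroup.mem_centralizer_singleton_iff, MulEquiv.toEquiv_eq_coe,
      MulEquiv.coe_toEquiv, MulAut.conj_apply]
    refine and_congr ?_ ?_
    · rw [Subgroup.mul_mem_cancel_right _ (inv_mem hsaP), Subgroup.mul_mem_cancel_left _ hsaP]
    · constructor <;> intro h
      · simp only [mul_assoc, inv_mul_cancel_left]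
        rw [← mul_assoc x, h, mul_assoc]
      · refine mul_left_cancel (a := sa P) (mul_right_cancel (b := (sa P : MulAut PSL)⁻¹) ?_)
        simpa [mul_assoc] using h
  refine ⟨_, hn, ?_⟩
  have ht := card_tor h20 δ
  by_cases hδ : IsSquare (δ : F)
  · rw [if_pos hδ] at ht ⊢
    refine Or.inl ⟨rfl, hinn.trans ⟨fun h => h.1 hδ, fun h => iff_of_true hδ h⟩, ?_⟩
    rw [hcard]
    omega
  · rw [if_neg hδ] at ht ⊢
    refine Or.inr ⟨rfl, hinn.trans ⟨fun h => not_not.1 fun h' => hδ (h.2 h'),
      fun h => iff_of_false hδ (not_not.2 h)⟩, ?_⟩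
    rw [hcard]
    omega

/-- A linear map exchanging two points has order two. -/
theorem mul_self_of_swap {α : MulAut PSL} (hα : α ∈ (pgl : Subgroup (MulAut PSL))) {P Q : Pt F 2}
    (hne : P ≠ Q) (h1 : ptHom α P = Q) (h2 : ptHom α Q = P) : α * α = 1 := by
  obtain ⟨A, rfl⟩ := hα
  induction P using Projectivization.ind with
  | _ v hv =>
  induction Q using Projectivization.ind with
  | _ w hw =>
  rw [ptHom_sa, mk_eq_mk_iff'] at h1 h2
  obtain ⟨c, hc⟩ := h1
  obtain ⟨d, hd⟩ := h2
  have hcd : c * d ≠ 0 := by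
    refine mul_ne_zero (fun e => ?_) fun e => ?_
    · rw [e, zero_smul] at hc; exact gl_ne_zero A hv hc.symm
    · rw [e, zero_smul] at hd; exact gl_ne_zero A hw hd.symm
  set M : Matrix (Fin 2) (Fin 2) F :=
    (A : Matrix (Fin 2) (Fin 2) F) * (A : Matrix (Fin 2) (Fin 2) F)
  have hMv : M *ᵥ v = (c * d) • v := by
    rw [← Matrix.mulVec_mulVec, ← hc, Matrix.mulVec_smul, ← hd, smul_smul]
  have hMw : M *ᵥ w = (c * d) • w := by
    rw [← Matrix.mulVec_mulVec, ← hd, Matrix.mulVec_smul, ← hc, smul_smul, mul_comm d c]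
  have hdet := det_ne hv hw hne
  have hM : M = !![c * d, 0; 0, c * d] := by
    have a0 := congrFun hMv 0
    have a1 := congrFun hMv 1
    have b0 := congrFun hMw 0
    have b1 := congrFun hMw 1
    simp only [Matrix.mulVec, dotProduct, Fin.sum_univ_two, Pi.smul_apply, smul_eq_mul] at a0 a1 b0 b1
    rw [Matrix.eta_fin_two M]
    ext i j
    fin_cases i <;> fin_cases j <;> simp <;> apply mul_right_cancel₀ hdet
    · linear_combination w 1 * a0 - v 1 * b0
    · linear_combination v 0 * b0 - w 0 * a0
    · linear_combination w 1 * a1 - v 1 * b1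
    · linear_combination v 0 * b1 - w 0 * a1
  rw [← map_mul, sa_eq_one]
  refine ⟨Units.mk0 _ hcd, Units.ext ?_⟩
  rw [scl_val, Units.val_mul]
  exact hM

/-! ### Two facts about `SL(2,q)` -/

theorem mem_center_of_sq (h2 : (2 : F) ≠ 0) {s : SL₂} (hs : s * s = 1) :
    s ∈ Subgroup.center SL₂ := by
  have hm := congrArg (fun t : SL₂ => (t : Matrix (Fin 2) (Fin 2) F)) hs
  simp only [Matrix.SpecialLinearGroup.coe_mul, Matrix.SpecialLinearGroup.coe_one] at hm
  have e00 := congrFun (congrFun hm 0) 0
  have e01 := congrFun (congrFun hm 0) 1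
  have e10 := congrFun (congrFun hm 1) 0
  have e11 := congrFun (congrFun hm 1) 1
  simp [Matrix.mul_apply, Fin.sum_univ_two] at e00 e01 e10 e11
  have hdet := s.2
  rw [Matrix.det_fin_two] at hdet
  set a := (s : Matrix (Fin 2) (Fin 2) F) 0 0
  set b := (s : Matrix (Fin 2) (Fin 2) F) 0 1
  set c := (s : Matrix (Fin 2) (Fin 2) F) 1 0
  set d := (s : Matrix (Fin 2) (Fin 2) F) 1 1
  have hsum : a * (a + d) = 2 := by linear_combination e00 + hdet
  have hne : a + d ≠ 0 := fun e => h2 (by rw [← hsum, e, mul_zero])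
  have hb : b = 0 := (mul_eq_zero.1 (by linear_combination e01 : b * (a + d) = 0)).resolve_right hne
  have hc : c = 0 := (mul_eq_zero.1 (by linear_combination e10 : c * (a + d) = 0)).resolve_right hne
  have had : a = d := mul_right_cancel₀ hne (by linear_combination e00 - e11)
  rw [Matrix.SpecialLinearGroup.mem_center_iff]
  refine ⟨a, ?_, ?_⟩
  · rw [Fintype.card_fin]
    linear_combination e00 - c * hb
  · ext i j
    fin_cases i <;> fin_cases j
    · simp; rfl
    · simpa using hb.symm
    · simpa using hc.symm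
    · simpa using had

/-- A subgroup of order `q` whose nontrivial elements fix exactly one point. -/
theorem exists_unipotent :
    ∃ U : Subgroup PSL, Nat.card U = Fintype.card F ∧
      ∀ u ∈ U, u ≠ 1 → Nat.card {P : Pt F 2 // u • P = P} = 1 := by
  let m : F → SL₂ := fun t => ⟨!![1, t; 0, 1], by rw [Matrix.det_fin_two_of]; ring⟩
  let f : Multiplicative F →* PSL := MonoidHom.mk' (fun t => QuotientGroup.mk (m t.toAdd)) fun s t => by
    rw [← QuotientGroup.mk_mul]
    refine congrArg _ (Subtype.ext ?_)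
    show !![1, (s * t).toAdd; 0, 1] = !![1, s.toAdd; 0, 1] * !![1, t.toAdd; 0, 1]
    rw [Matrix.mul_fin_two, toAdd_mul]
    simp [add_comm]
  have hinj : Function.Injective f := (injective_iff_map_eq_one f).2 fun t ht => by
    obtain ⟨r, -, hr⟩ := Matrix.SpecialLinearGroup.mem_center_iff.1 ((QuotientGroup.eq_one_iff _).1 ht)
    exact toAdd_eq_zero.1 (by simpa [m] using (congrFun (congrFun hr 0) 1).symm)
  refine ⟨f.range, ?_, ?_⟩
  · rw [← Nat.card_congr (MonoidHom.ofInjective hinj).toEquiv, Nat.card_eq_fintype_card,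
      Fintype.card_multiplicative]
  rintro _ ⟨t, rfl⟩ ht
  have ht0 : t.toAdd ≠ 0 := fun e => ht (by rw [toAdd_eq_zero.1 e, map_one])
  rw [Nat.card_eq_one_iff_unique]
  have hne : (![1, 0] : Fin 2 → F) ≠ 0 := fun e => by simpa using congrFun e 0
  refine ⟨⟨fun P Q => ?_⟩, ⟨Projectivization.mk F ![1, 0] hne, ?_⟩⟩
  · have key : ∀ P : Pt F 2, f t • P = P → P = Projectivization.mk F ![1, 0] hne := by
      intro P
      induction P using Projectivization.ind with
      | _ v hv =>
      intro hP
      obtain ⟨c, hc⟩ := (mk_eq_mk_iff' F _ _ _ _).1 ((psl_smul_mk (m t.toAdd) hv).symm.trans hP)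
      have c0 : c * v 0 = v 0 + t.toAdd * v 1 := by
        simpa [m, Matrix.mulVec, dotProduct, Fin.sum_univ_two] using congrFun hc 0
      have c1 : c * v 1 = v 1 := by
        simpa [m, Matrix.mulVec, dotProduct, Fin.sum_univ_two] using congrFun hc 1
      have hv1 : v 1 = 0 := by
        by_contra h1
        have hc1 : c = 1 := mul_right_cancel₀ h1 (by linear_combination c1)
        exact mul_ne_zero ht0 h1 (by linear_combination -c0 + v 0 * hc1)
      refine mk_congr hv hne (v 0) (funext fun i => ?_)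
      fin_cases i
      · simp
      · simpa using hv1.symm
    exact Subtype.ext ((key P.1 P.2).trans (key Q.1 Q.2).symm)
  · show (QuotientGroup.mk (m t.toAdd) : PSL) • _ = _
    rw [psl_smul_mk]
    refine mk_congr _ _ 1 (funext fun i => ?_)
    fin_cases i <;> simp [m, Matrix.mulVec, dotProduct, Fin.sum_univ_two]

/-- Passing from automorphisms of `SL(2,q)` to automorphisms of `PSL(2,q)`. -/
def toAut : MulAut SL₂ →* MulAut PSL :=
  MonoidHom.mk' toPSL fun a b => MulEquiv.ext fun x => by
    induction x using QuotientGroup.induction_on with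
    | _ s => rfl

theorem toAut_mk (a : MulAut SL₂) (s : SL₂) :
    toAut a (QuotientGroup.mk s) = QuotientGroup.mk (a s) := rfl

theorem toAut_conj (s : SL₂) : toAut (MulAut.conj s) = MulAut.conj (QuotientGroup.mk s : PSL) :=
  MulEquiv.ext fun x => by
    induction x using QuotientGroup.induction_on with
    | _ t => rfl

end CfsgLib.SDBlock.LineModel
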