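import Cfsg.Agent.Lib.SDBlock.LineOfCore
import Cfsg.Agent.S0157

/-!
# The line character of the centralizer of an involution

If `C(z) / O(C(z))` has derived subgroup `SL(2,q)`, then `± (fix - 1)` for the action on the `q + 1`
points is a `Line` with `Q = ± q ≡ 3 (mod 4)`, and `q |Q + 1| |C(z,b)|` divides `|C(z)|`.
-/

set_option autoImplicit false
set_option linter.style.haveILetI false
set_option linter.unusedSectionVars false

namespace CfsgLib.SDBlock.LineOf

open Subgroup CfsgLib.GWDihedral.LTwoAut CfsgLib.SDBlock.LineModel CfsgLib.KnownC.AutPSL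

universe u

/-- A permutation with an odd power fixing one of the two fixed points of a commuting one fixes it. -/
theorem fix_of_pow {Ω : Type*} [Finite Ω] {π g : Equiv.Perm Ω} (hc : Commute π g)
    (h2 : Nat.card {P // g P = P} = 2) {P : Ω} (hP : g P = P) {r : ℕ} (hr : Odd r)
    (h : (π ^ r) P = P) : π P = P := by
  by_contra hne
  have hfix : ∀ R, g R = R → g (π R) = π R := fun R hR => by
    rw [← Equiv.Perm.mul_apply, ← hc.eq, Equiv.Perm.mul_apply, hR]
  obtain ⟨u, -, huniq⟩ := (Nat.card_eq_two_iff' (⟨P, hP⟩ : {P // g P = P})).1 h2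
  have hsq : (π ^ 2) P = P := by
    by_contra h3
    have e1 := huniq ⟨π P, hfix P hP⟩ (fun e => hne (congrArg Subtype.val e))
    have e2 := huniq ⟨π (π P), hfix _ (hfix P hP)⟩ (fun e => h3 (by
      rw [pow_two, Equiv.Perm.mul_apply]; exact congrArg Subtype.val e))
    exact hne (π.injective (congrArg Subtype.val (e2.trans e1.symm)))
  obtain ⟨j, rfl⟩ := hr
  rw [pow_succ', Equiv.Perm.mul_apply, pow_mul,
    Equiv.Perm.pow_apply_eq_self_of_apply_eq_self hsq j] at h
  exact hne h

/-- The order of a subgroup through its image and its part of the kernel. -/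
theorem card_map_mul {X Y : Type*} [Group X] [Finite X] [Group Y] (f : X →* Y) (W : Subgroup X) :
    Nat.card (W.map f) * Nat.card ↥(W ⊓ f.ker) = Nat.card W := by
  have h1 := card_eq_card_quotient_mul_card_subgroup (f.comp W.subtype).ker
  rw [Nat.card_congr (QuotientGroup.quotientKerEquivRange (f.comp W.subtype)).toEquiv,
    MonoidHom.range_comp, W.range_subtype] at h1
  rw [h1, ← Nat.card_congr (subgroupOfEquivOfLe (inf_le_left : W ⊓ f.ker ≤ W)).toEquiv,
    inf_subgroupOf_left]
  rfl

variable {F : Type} [Field F] [Fintype F]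
variable {G : Type u} [Group G] [Finite G] {S : Sylow 2 G} {a b z : G} {k : ℕ}
  (h : Config S a b z k) (hodd : Odd (Fintype.card F))
  (N : Subgroup (↥(centralizer ({z} : Set G)) ⧸ Cfsg.oddCore ↥(centralizer ({z} : Set G))))
  [N.Normal] (e : ↥N ≃* Matrix.SpecialLinearGroup (Fin 2) F)

set_option quotPrecheck false in
local notation "C" => ↥(centralizer ({z} : Set G))

/-- The signed permutation character less one. -/
noncomputable def sigma (x : C) : ℂ :=
  (if Fintype.card F % 4 = 3 then 1 else -1 : ℤ) * ((fixNum (act N e x) : ℂ) - 1)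

include h hodd

/-- The fixed points of an element of order divisible by four. -/
theorem fix_rot {x : C} (hx : 4 ∣ orderOf (x : G)) :
    fixNum (act N e x) = if Fintype.card F % 4 = 3 then 0 else 2 := by
  rw [Subgroup.orderOf_coe] at hx
  obtain ⟨v, m, hm, hn⟩ := Nat.exists_eq_two_pow_mul_odd (orderOf_pos x).ne'
  have hv : 2 ≤ v := by
    by_contra hv
    rw [hn] at hx
    have h4 : (4 : ℕ) ∣ 2 ^ v := by
      refine Nat.Coprime.dvd_of_dvd_mul_right ?_ hx
      rw [show (4 : ℕ) = 2 ^ 2 by norm_num]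
      exact (Nat.coprime_two_left.2 hm).pow_left 2
    interval_cases v <;> omega
  set x₂ := x ^ m with hx₂
  have ho₂ : orderOf x₂ = 2 ^ v := by
    rw [hx₂, orderOf_pow_of_dvd (by obtain ⟨j, rfl⟩ := hm; omega) ⟨2 ^ v, by rw [hn, mul_comm]⟩, hn,
      Nat.mul_div_cancel _ (by obtain ⟨j, rfl⟩ := hm; omega)]
  set g := x₂ ^ 2 ^ (v - 2) with hg
  have hog : orderOf g = 4 := by
    rw [hg, orderOf_pow_of_dvd (by positivity) (ho₂ ▸ pow_dvd_pow 2 (by omega)), ho₂,
      Nat.pow_div (by omega) two_pos, show v - (v - 2) = 2 by omega]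
    norm_num
  have hgp := four_mem_pre h hodd N e hog
  have hg1 := act_four_ne_one h hodd N e hog
  have hg2 : act N e g * act N e g = 1 := by
    rw [← map_mul]
    refine act_of_sq N e (two_ne_zero_of_odd hodd) (mul_mem hgp hgp) ?_
    rw [← pow_two, ← pow_two, ← pow_mul, show 2 * 2 = 4 by norm_num, ← hog, pow_orderOf_eq_one]
  obtain ⟨n, hfn, hcase⟩ := involution_data hodd (inn_le (act_pre_mem N e hgp)) hg2 hg1
  have hgi := act_pre_mem N e hgp
  have hxg : x ^ (m * 2 ^ (v - 2)) = g := by rw [hg, hx₂, pow_mul]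
  have hpow : ∀ P, ptHom (act N e x) P = P → ptHom (act N e g) P = P := fun P hP => by
    rw [← hxg, map_pow, map_pow]
    exact Equiv.Perm.pow_apply_eq_self_of_apply_eq_self hP _
  by_cases hq : Fintype.card F % 4 = 3
  · rw [if_pos hq]
    rcases hcase with ⟨-, hinn, -⟩ | ⟨rfl, -, -⟩
    · exact absurd hq (hinn.1 hgi)
    · rw [fixNum, Nat.card_eq_zero] at hfn ⊢
      refine Or.inl ⟨fun P => ?_⟩
      rcases hfn with hfn | hfn
      · exact hfn.false ⟨P.1, hpow P.1 P.2⟩
      · exact not_finite {P : Pt F 2 // ptHom (act N e g) P = P}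
  · rw [if_neg hq]
    rcases hcase with ⟨rfl, -, -⟩ | ⟨-, hinn, -⟩
    swap
    · exact absurd (hinn.1 hgi) hq
    refine Eq.trans ?_ hfn
    refine (Nat.card_congr (Equiv.subtypeEquivRight fun P => ⟨fun hP => hpow P hP, fun hP => ?_⟩))
    -- the 2-part cannot exchange the two points
    have hc₂ : Commute (ptHom (act N e x₂)) (ptHom (act N e g)) :=
      (((Commute.refl x₂).pow_right _).map (act N e)).map ptHom
    have h₂ : ptHom (act N e x₂) P = P := by
      by_contra hne
      have hfix' : ptHom (act N e g) (ptHom (act N e x₂) P) = ptHom (act N e x₂) P := by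
        rw [← Equiv.Perm.mul_apply, ← hc₂.eq, Equiv.Perm.mul_apply, hP]
      have hback : ptHom (act N e x₂) (ptHom (act N e x₂) P) = P := by
        obtain ⟨u, -, huniq⟩ := (Nat.card_eq_two_iff'
          (⟨P, hP⟩ : {R // ptHom (act N e g) R = R})).1 hfn
        by_contra h3
        have hfix'' : ptHom (act N e g) (ptHom (act N e x₂) (ptHom (act N e x₂) P)) =
            ptHom (act N e x₂) (ptHom (act N e x₂) P) := by
          rw [← Equiv.Perm.mul_apply, ← hc₂.eq, Equiv.Perm.mul_apply, hfix']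
        have e1 := huniq ⟨_, hfix'⟩ (fun e1 => hne (congrArg Subtype.val e1))
        have e2 := huniq ⟨_, hfix''⟩ (fun e1 => h3 (congrArg Subtype.val e1))
        exact hne ((ptHom (act N e x₂)).injective (congrArg Subtype.val (e2.trans e1.symm)))
      have hsq : act N e x₂ * act N e x₂ = 1 :=
        mul_self_of_swap (field_two h hodd N e ho₂) (Ne.symm hne) rfl hback
      rcases Nat.lt_or_ge v 3 with hv3 | hv3
      · have : g = x₂ := by rw [hg, show v - 2 = 0 by omega, pow_zero, pow_one]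
        exact hne (this ▸ hP)
      · refine hg1 ?_
        rw [hg, map_pow, show v - 2 = v - 3 + 1 by omega, pow_succ', pow_mul, pow_two, hsq, one_pow]
    refine fix_of_pow ?_ hfn hP hm (by rw [← map_pow, ← map_pow]; exact h₂)
    rw [← hxg]
    exact (((Commute.refl x).pow_right _).map (act N e)).map ptHom

/-- `b` acts as an involution of `pgl` outside `inn`. -/
theorem b_data : ∃ n : ℕ, fixNum (act N e ⟨b, h.b_mem_C⟩) = n ∧
    ((Fintype.card F % 4 = 3 ∧ n = 2 ∧
        Nat.card ↥((pgl : Subgroup (MulAut _)) ⊓ centralizer {act N e ⟨b, h.b_mem_C⟩}) =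
          2 * (Fintype.card F - 1)) ∨
      (Fintype.card F % 4 ≠ 3 ∧ n = 0 ∧
        Nat.card ↥((pgl : Subgroup (MulAut _)) ⊓ centralizer {act N e ⟨b, h.b_mem_C⟩}) =
          2 * (Fintype.card F + 1))) := by
  have hout := act_b_outer h hodd N e
  obtain ⟨n, hn, hcase⟩ := involution_data hodd (fieldHom_eq_one.1 (field_b h hodd N e))
    (by rw [← map_mul, show (⟨b, h.b_mem_C⟩ : C) * ⟨b, h.b_mem_C⟩ = 1 from Subtype.ext h.b_sq,
      map_one])
    (fun e1 => hout (e1 ▸ one_mem _))
  refine ⟨n, hn, ?_⟩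
  rcases hcase with ⟨hn2, hinn, hc⟩ | ⟨hn0, hinn, hc⟩
  · exact Or.inl ⟨not_not.1 fun hq => hout (hinn.2 hq), hn2, hc⟩
  · exact Or.inr ⟨fun hq => hout (hinn.2 hq), hn0, hc⟩

/-- The fixed points on the section of `b`. -/
theorem fix_refl {x : C} {y : G} (hby : Commute b y) (hy : Odd (orderOf y)) (hx : (x : G) = b * y) :
    fixNum (act N e x) = if Fintype.card F % 4 = 3 then 2 else 0 := by
  set B : C := ⟨b, h.b_mem_C⟩
  set Y : C := B⁻¹ * x
  have hY : (Y : G) = y := by
    show b⁻¹ * (x : G) = y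
    rw [hx, inv_mul_cancel_left]
  have hxBY : x = B * Y := (mul_inv_cancel_left B x).symm
  have hBY : Commute B Y := Subtype.ext (by
    show b * (Y : G) = (Y : G) * b
    rw [hY]; exact hby.eq)
  have hyo : Y ^ orderOf y = 1 := Subtype.ext (by
    rw [SubgroupClass.coe_pow, hY, pow_orderOf_eq_one]; rfl)
  obtain ⟨r, hr⟩ := hy
  have hB2 : B * B = 1 := Subtype.ext h.b_sq
  have hxr : x ^ orderOf y = B := by
    rw [hxBY, hBY.mul_pow, hyo, mul_one, hr, pow_succ, pow_mul, pow_two, hB2, one_pow, one_mul]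
  have hsub : ∀ P, ptHom (act N e x) P = P → ptHom (act N e B) P = P := fun P hP => by
    rw [← hxr, map_pow, map_pow]
    exact Equiv.Perm.pow_apply_eq_self_of_apply_eq_self hP _
  obtain ⟨n, hn, hcase⟩ := b_data h hodd N e
  rcases hcase with ⟨hq, rfl, -⟩ | ⟨hq, rfl, -⟩
  · rw [if_pos hq]
    refine Eq.trans ?_ hn
    refine Nat.card_congr (Equiv.subtypeEquivRight fun P => ⟨hsub P, fun hP => ?_⟩)
    have hYP : ptHom (act N e Y) P = P :=
      fix_of_pow ((hBY.symm.map (act N e)).map ptHom) hn hP ⟨r, hr⟩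
        (by rw [← map_pow, ← map_pow, hyo, map_one, map_one]; rfl)
    rw [hxBY, map_mul, map_mul, Equiv.Perm.mul_apply, hYP, hP]
  · rw [if_neg hq]
    rw [fixNum, Nat.card_eq_zero] at hn ⊢
    refine Or.inl ⟨fun P => ?_⟩
    rcases hn with hn | hn
    · exact hn.false ⟨P.1, hsub P.1 P.2⟩
    · exact not_finite {P : Pt F 2 // ptHom (act N e B) P = P}

/-- `-1`, `1` and the regular subgroup. -/
theorem sigma_facts :
    (∀ x : C, 4 ∣ orderOf (x : G) → sigma N e x = -1) ∧
      (∀ x : C, (∃ y : G, Commute b y ∧ Odd (orderOf y) ∧ (x : G) = b * y) → sigma N e x = 1) := by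
  constructor
  · intro x hx
    rw [sigma, fix_rot h hodd N e hx]
    split_ifs <;> push_cast <;> ring
  · rintro x ⟨y, hby, hy, hx⟩
    rw [sigma, fix_refl h hodd N e hby hy hx]
    split_ifs <;> push_cast <;> ring

/-- The regular subgroup. -/
theorem exists_regular (Q : ℤ)
    (hQ : Q = (if Fintype.card F % 4 = 3 then 1 else -1) * (Fintype.card F : ℤ)) :
    ∃ P P₀ : Subgroup C, P₀ ≤ P ∧ Odd (Nat.card P) ∧ Nat.card P = Q.natAbs * Nat.card P₀ ∧
      (∀ x ∈ P₀, sigma N e x = (Q : ℂ)) ∧ ∀ x ∈ P, x ∉ P₀ → sigma N e x = 0 := by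
  obtain ⟨U, hU, hUfix⟩ := exists_unipotent (F := F)
  obtain ⟨f, hp, hq⟩ := FiniteField.card F (ringChar F)
  haveI : Fact (ringChar F).Prime := ⟨hp⟩
  have hV : IsPGroup (ringChar F) (U.map MulAut.conj) := by
    refine (IsPGroup.of_card (n := (f : ℕ)) ?_).map _
    rw [hU, hq]
  have hVle : U.map MulAut.conj ≤ (pre N).map (act N e) :=
    (Subgroup.map_le_range _ _).trans (inn_le_map N e)
  obtain ⟨P, hP, -, hPV⟩ := exists_lift N e (pre N) hV hVle
  have hp2 : ringChar F ≠ 2 := fun e2 => by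
    rw [hq, e2] at hodd
    exact Nat.not_even_iff_odd.2 hodd ((even_two).pow_of_ne_zero f.ne_zero)
  have hcard : Nat.card (U.map MulAut.conj) = Fintype.card F := by
    rw [Subgroup.card_map_of_injective conj_injective, hU]
  have hprod := card_map_mul (act N e) P
  rw [hPV, hcard] at hprod
  refine ⟨P, P ⊓ (act N e).ker, inf_le_left, ?_, ?_, ?_, ?_⟩
  · obtain ⟨j, hj⟩ := IsPGroup.iff_card.1 hP
    rw [hj]
    exact ((hp.eq_two_or_odd').resolve_left hp2).pow
  · rw [← hprod, hQ, Int.natAbs_mul, Int.natAbs_natCast]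
    split_ifs <;> simp
  · rintro x ⟨-, hx⟩
    rw [sigma, MonoidHom.mem_ker.1 hx, fixNum_one, hQ]
    push_cast
    ring
  · intro x hx hx0
    obtain ⟨g, hg, hgx⟩ := hPV.le ⟨x, hx, rfl⟩
    have hg1 : g ≠ 1 := fun e1 => hx0 ⟨hx, MonoidHom.mem_ker.2 (by rw [← hgx, e1, map_one])⟩
    have h1 : fixNum (act N e x) = 1 := by
      rw [fixNum, ← hgx, ← hUfix g hg hg1]
      exact Nat.card_congr (Equiv.subtypeEquivRight fun P => by rw [ptHom_conj])
    rw [sigma, h1]
    simp

/-- The signed permutation character less one is irreducible. -/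
theorem sigma_irr : ∃ ε : ℤ, (ε = 1 ∨ ε = -1) ∧
    Cfsg.IsIrrCharacter C fun x => (ε : ℂ) * sigma N e x := by
  refine ⟨if Fintype.card F % 4 = 3 then 1 else -1, by split_ifs <;> simp, ?_⟩
  haveI : Fintype (Pt F 2) := Fintype.ofFinite _
  haveI : Fintype C := Fintype.ofFinite _
  letI : MulAction C (Pt F 2) := MulAction.compHom _ ((ptHom (F := F)).comp (act N e))
  have hlift : ∀ g : Matrix.ProjectiveSpecialLinearGroup (Fin 2) F,
      ∃ m : C, ∀ P : Pt F 2, m • P = g • P := fun g => by
    obtain ⟨m, -, hm⟩ := inn_le_map N e ⟨g, rfl⟩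
    exact ⟨m, fun P => (congrArg (fun w => ptHom w P) hm).trans (ptHom_conj g P)⟩
  haveI : MulAction.IsPretransitive C (Pt F 2) := ⟨fun P Q => by
    obtain ⟨g, hg⟩ := MulAction.exists_smul_eq (Matrix.ProjectiveSpecialLinearGroup (Fin 2) F) P Q
    obtain ⟨m, hm⟩ := hlift g
    exact ⟨m, (hm P).trans hg⟩⟩
  have h2 : MulAction.IsMultiplyPretransitive C (Pt F 2) 2 := by
    rw [MulAction.is_two_pretransitive_iff]
    intro P Q P' Q' hne hne'
    obtain ⟨g, hg1, hg2⟩ := exists_smul_pair hne hne'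
    obtain ⟨m, hm⟩ := hlift g
    exact ⟨m, (hm P).trans hg1, (hm Q).trans hg2⟩
  have hirr := (Cfsg.Agent.S0157.iff_two_transitive (Pt F 2)
    (by rw [card_pt]; have := Fintype.card_pos (α := F); omega)).2 h2
  convert hirr using 1
  funext x
  have hfx : Nat.card (MulAction.fixedBy (Pt F 2) x) = fixNum (act N e x) := rfl
  rw [sigma, hfx]
  split_ifs <;> push_cast <;> ring

/-- The part of the kernel in the preimage. -/
theorem card_ker_dvd :
    Nat.card ↥(pre N ⊓ (act N e).ker) ∣ 2 * Nat.card (Cfsg.oddCore C) := by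
  set π := QuotientGroup.mk' (Cfsg.oddCore C)
  rw [← card_map_mul π]
  refine mul_dvd_mul ?_ ?_
  · have hle : (pre N ⊓ (act N e).ker).map π ≤ zpowers (π zC) := by
      rintro _ ⟨m, ⟨hm, hk⟩, rfl⟩
      rcases ker_cases N e hodd (zC_comm h) (zC_sq h) (zC_ne_one h) (zC_mem h hodd N e) hm
        (MonoidHom.mem_ker.1 hk) with hc | hc
      · rw [show π m = 1 from (QuotientGroup.eq_one_iff m).2 hc]; exact one_mem _
      · have : π m = (π zC)⁻¹ := eq_inv_of_mul_eq_one_right (by
          rw [← map_mul]; exact (QuotientGroup.eq_one_iff _).2 hc)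
        rw [this]; exact inv_mem (mem_zpowers _)
    refine (Subgroup.card_dvd_of_le hle).trans ?_
    rw [Nat.card_zpowers]
    refine orderOf_dvd_of_pow_eq_one ?_
    rw [← map_pow, pow_two, zC_sq h, map_one]
  · refine Subgroup.card_dvd_of_le (le_trans inf_le_right ?_)
    rw [QuotientGroup.ker_mk']

/-- The centralizer of `b` in the preimage has no subgroup of order four. -/
theorem not_four_dvd (e' : ↥N ≃* Matrix.SpecialLinearGroup (Fin 2) F) :
    ¬ 4 ∣ Nat.card ↥(pre N ⊓ centralizer {(⟨b, h.b_mem_C⟩ : C)}) := by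
  intro h4
  haveI : Fact (Nat.Prime 2) := ⟨Nat.prime_two⟩
  set B : C := ⟨b, h.b_mem_C⟩
  set D := pre N ⊓ centralizer {B}
  obtain ⟨P₁, hP₁⟩ := Sylow.exists_subgroup_card_pow_prime (G := D) 2 (n := 2) (by simpa using h4)
  set P := P₁.map D.subtype with hP
  have hPc : Nat.card P = 4 := by
    rw [hP, Subgroup.card_map_of_injective D.subtype_injective, hP₁]; norm_num
  have hPD : P ≤ D := Subgroup.map_subtype_le _
  have hnorm : zpowers B ≤ normalizer (P : Set C) := zpowers_le.2 (centralizer_le_normalizer _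
    (mem_centralizer_iff.2 fun p hp => (mem_centralizer_singleton_iff.1 (hPD hp).2)))
  have hsup : IsPGroup 2 ↥(P ⊔ zpowers B) := IsPGroup.to_sup_of_normal_left'
    (IsPGroup.of_card (n := 2) (by rw [hPc]; norm_num))
    (IsPGroup.of_card (n := 1) (by
      rw [Nat.card_zpowers, pow_one, ← Subgroup.orderOf_coe]; exact h.orderOf_b)) hnorm
  obtain ⟨c, hc⟩ := exists_conj h _ hsup
  have hbp : c * B * c⁻¹ ∉ pre N := fun hm => b_notMem_pre h hodd N e'
    ((conj_mem_pre_iff h N).1 hm)
  have hb2 : (c * B * c⁻¹ : C) * (c * B * c⁻¹) = 1 := by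
    rw [show c * B * c⁻¹ * (c * B * c⁻¹) = c * (B * B) * c⁻¹ by group,
      show B * B = 1 from Subtype.ext h.b_sq, mul_one, mul_inv_cancel]
  obtain ⟨i, hi⟩ : ∃ i : ℤ, ((c * B * c⁻¹ : C) : G) = b * a ^ i := by
    refine (h.cases (hc B (mem_sup_right (mem_zpowers B)))).resolve_left ?_
    rintro ⟨j, hj⟩
    rcases h.sq_zpow (j := j) (by rw [← hj, ← Subgroup.coe_mul, hb2]; rfl) with e1 | e1
    · exact hbp (by rw [show c * B * c⁻¹ = 1 from Subtype.ext (hj.trans e1)]; exact one_mem _)
    · exact hbp (by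
        rw [show c * B * c⁻¹ = zC from Subtype.ext (hj.trans e1)]; exact zC_mem h hodd N e')
  have hsmall : P ≤ zpowers (zC (z := z) : C) := by
    intro p hp
    have hcomm : Commute ((c * p * c⁻¹ : C) : G) ((c * B * c⁻¹ : C) : G) := by
      have h1 : Commute p B := mem_centralizer_singleton_iff.1 (hPD hp).2
      exact (h1.map (MulAut.conj c)).map (centralizer ({z} : Set G)).subtype
    have key : ∀ w : C, (∃ l : ℤ, (w : G) = a ^ l) → Commute (w : G) ((c * B * c⁻¹ : C) : G) →
        w = 1 ∨ w = zC := by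
      rintro w ⟨l, hl⟩ hw
      rw [hi, hl] at hw
      have hbl : Commute b (a ^ l) := by
        have h1 := hw.mul_right (((Commute.refl a).zpow_zpow l (-i)))
        rw [mul_assoc, ← zpow_add, add_neg_cancel, zpow_zero, mul_one] at h1
        exact h1.symm
      rcases h.sq_zpow (j := l) (by rw [← pow_two]; exact h.sq_of_commute hbl) with e1 | e1
      · exact Or.inl (Subtype.ext (hl.trans e1))
      · exact Or.inr (Subtype.ext (hl.trans e1))
    rcases h.cases (hc p (mem_sup_left hp)) with ⟨l, hl⟩ | ⟨l, hl⟩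
    · rcases key _ ⟨l, hl⟩ hcomm with e1 | e1
      · rw [conj_eq_one_iff] at e1; rw [e1]; exact one_mem _
      · have : p = zC := by
          rw [show p = c⁻¹ * (c * p * c⁻¹) * c by group, e1, mul_assoc, (zC_comm h c).eq,
            inv_mul_cancel_left]
        rw [this]; exact mem_zpowers _
    · exfalso
      have hw : (((c * B * c⁻¹)⁻¹ * (c * p * c⁻¹) : C) : G) = a ^ (-i + l) := by
        rw [Subgroup.coe_mul, Subgroup.coe_inv, hi, hl, zpow_add, zpow_neg]
        group
      have hmem : (c * B * c⁻¹)⁻¹ * (c * p * c⁻¹) ∈ pre N := by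
        rcases key _ ⟨_, hw⟩ (by
          rw [Subgroup.coe_mul, Subgroup.coe_inv]
          exact (Commute.refl _).inv_left.mul_left hcomm) with e1 | e1
        · rw [e1]; exact one_mem _
        · rw [e1]; exact zC_mem h hodd N e'
      refine hbp ?_
      have := mul_mem ((pre_normal N).conj_mem p (hPD hp).1 c) (inv_mem hmem)
      rwa [mul_inv_rev, inv_inv, mul_inv_cancel_left] at this
  have := Subgroup.card_le_of_le hsmall
  rw [hPc, Nat.card_zpowers] at this
  have := orderOf_le_of_pow_eq_one two_pos ((pow_two (zC (z := z) : C)).trans (zC_sq h))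
  omega

include e in
/-- The index of `C(z, b)`. -/
theorem centralizer_dvd :
    Fintype.card F * (if Fintype.card F % 4 = 3 then Fintype.card F + 1 else Fintype.card F - 1) *
      Nat.card (centralizer ({z, b} : Set G)) ∣ Nat.card C := by
  set B : C := ⟨b, h.b_mem_C⟩
  set O := Nat.card (Cfsg.oddCore C)
  set q := Fintype.card F with hqdef
  set t' := if q % 4 = 3 then q + 1 else q - 1
  set t := if q % 4 = 3 then q - 1 else q + 1
  set D := pre N ⊓ centralizer {B}
  have hq1 : 1 ≤ q := Fintype.card_pos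
  -- the order of the preimage
  have hpre : Nat.card (pre N) = O * (q * (t * t')) := by
    have hps : 2 * Nat.card (Matrix.ProjectiveSpecialLinearGroup (Fin 2) F) = q * ((q - 1) * (q + 1)) :=
      CfsgLib.KGroups.AbelianTwo.card_psl2_odd hodd
    have hN : Nat.card N = q * (t * t') := by
      obtain ⟨-, hc2⟩ := CfsgLib.GWDihedral.Consumers.card_sl2_ge (F := F) hodd
      rw [Nat.card_congr e.toEquiv, card_eq_card_quotient_mul_card_subgroup (center _), hc2,
        mul_comm, show Nat.card (_ ⧸ center (Matrix.SpecialLinearGroup (Fin 2) F)) =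
          Nat.card (Matrix.ProjectiveSpecialLinearGroup (Fin 2) F) from rfl, hps]
      simp only [t, t']
      split_ifs
      · rfl
      · rw [mul_comm (q - 1)]
    have h1 := card_map_mul (QuotientGroup.mk' (Cfsg.oddCore C)) (pre N)
    rw [pre, map_comap_eq_self_of_surjective (QuotientGroup.mk'_surjective _), QuotientGroup.ker_mk',
      inf_eq_right.2 (show Cfsg.oddCore C ≤ N.comap (QuotientGroup.mk' _) from fun x hx => by
        rw [mem_comap, QuotientGroup.mk'_apply, (QuotientGroup.eq_one_iff x).2 hx]; exact one_mem _),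
      hN] at h1
    rw [pre, ← h1]
    ring
  -- the centralizer of `b` in it
  have hD : Nat.card D ∣ t * O := by
    have hD4 : Nat.card D ∣ 2 * t * (2 * O) := by
      rw [← card_map_mul (act N e) D]
      refine mul_dvd_mul ?_ ((Subgroup.card_dvd_of_le ?_).trans (card_ker_dvd h hodd N e))
      · obtain ⟨n, -, hcase⟩ := b_data h hodd N e
        have hc : Nat.card ↥((pgl : Subgroup (MulAut _)) ⊓ centralizer {act N e B}) = 2 * t := by
          rcases hcase with ⟨hq, -, hc⟩ | ⟨hq, -, hc⟩
          · rw [hc]; simp [t, hq, q]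
          · rw [hc]; simp [t, hq, q]
        rw [← hc]
        refine Subgroup.card_dvd_of_le ?_
        rintro _ ⟨m, ⟨hm, hmb⟩, rfl⟩
        refine ⟨inn_le (act_pre_mem N e hm), mem_centralizer_singleton_iff.2 ?_⟩
        rw [← map_mul, mem_centralizer_singleton_iff.1 hmb, map_mul]
      · exact le_inf (inf_le_left.trans inf_le_left) inf_le_right
    have h4 : ¬ 4 ∣ Nat.card D := not_four_dvd h hodd N e
    obtain ⟨s, hs⟩ : 2 ∣ t := by
      obtain ⟨j, hj⟩ := hodd
      simp only [t, q, hj]
      split_ifs <;> omega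
    rcases Nat.even_or_odd' (Nat.card D) with ⟨d, hd | hd⟩
    · have hdo : Odd d := Nat.not_even_iff_odd.1 fun hev => h4 (by
        obtain ⟨j, hj⟩ := hev
        exact ⟨j, by omega⟩)
      rw [hd, hs] at hD4 ⊢
      rw [mul_assoc 2 (2 * s)] at hD4
      have h2 : d ∣ 2 * (2 * (s * O)) := by
        have := Nat.dvd_of_mul_dvd_mul_left two_pos hD4
        rwa [show 2 * s * (2 * O) = 2 * (2 * (s * O)) by ring] at this
      have h3 := (Nat.coprime_two_right.2 hdo).dvd_of_dvd_mul_left h2
      have h5 := (Nat.coprime_two_right.2 hdo).dvd_of_dvd_mul_left h3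
      rw [mul_assoc]
      exact Nat.mul_dvd_mul_left 2 h5
    · have hdo : Odd (Nat.card D) := ⟨d, hd⟩
      rw [show 2 * t * (2 * O) = 2 * (2 * (t * O)) by ring] at hD4
      exact (Nat.coprime_two_right.2 hdo).dvd_of_dvd_mul_left
        ((Nat.coprime_two_right.2 hdo).dvd_of_dvd_mul_left hD4)
  -- the normal subgroup
  set K := centralizer ({B} : Set C)
  have hrel : (pre N).relIndex K ∣ (pre N).index := relIndex_dvd_index_of_normal _ _
  have hK : Nat.card D * (pre N).relIndex K = Nat.card K := by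
    rw [← card_mul_index ((pre N).subgroupOf K), ← inf_subgroupOf_right,
      Nat.card_congr (subgroupOfEquivOfLe (inf_le_right : pre N ⊓ K ≤ K)).toEquiv, inf_subgroupOf_right]
    rfl
  have hC : Nat.card (pre N) * (pre N).index = Nat.card C := card_mul_index _
  have hKG : Nat.card (centralizer ({z, b} : Set G)) = Nat.card K := by
    rw [show Nat.card K = Nat.card (K.map (centralizer ({z} : Set G)).subtype) from
      (card_map_of_injective (centralizer ({z} : Set G)).subtype_injective).symm]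
    congr 2
    ext x
    simp only [mem_centralizer_iff, Set.mem_insert_iff, Set.mem_singleton_iff, forall_eq_or_imp,
      forall_eq, Subgroup.mem_map]
    constructor
    · rintro ⟨hz, hb⟩
      exact ⟨⟨x, mem_centralizer_singleton_iff.2 hz.symm⟩,
        mem_centralizer_singleton_iff.2 (Subtype.ext hb.symm), rfl⟩
    · rintro ⟨y, hy, rfl⟩
      exact ⟨(h.z_comm y).eq,
        (congrArg Subtype.val (mem_centralizer_singleton_iff.1 hy)).symm⟩
  obtain ⟨x, hx⟩ := hD
  obtain ⟨r, hr⟩ := hrel
  rw [hKG, ← hK]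
  refine ⟨x * r, ?_⟩
  rw [← hC, hr, hpre]
  calc O * (q * (t * t')) * ((pre N).relIndex K * r) = (t * O) * (q * t' * ((pre N).relIndex K * r)) := by ring
    _ = _ := by rw [hx]; ring

end CfsgLib.SDBlock.LineOf

namespace CfsgLib.SDBlock

open Subgroup

universe v

/-- The line character: `C(z)/O(C(z))` with derived subgroup `SL(2,q)`, `q` odd. -/
theorem exists_line {G : Type v} [Group G] [Finite G] (S : Sylow 2 G) {a b z : G} {k : ℕ}
    (h : Config S a b z k) {F : Type} [Field F] [Fintype F] (hodd : Odd (Fintype.card F))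
    (he : Nonempty (↥(commutator (↥(centralizer ({z} : Set G)) ⧸
      Cfsg.oddCore ↥(centralizer ({z} : Set G)))) ≃* Matrix.SpecialLinearGroup (Fin 2) F)) :
    ∃ (σ : centralizer ({z} : Set G) → ℂ) (Q : ℤ), Q.natAbs = Fintype.card F ∧ Q % 4 = 3 ∧
      Line z b σ Q ∧ Fintype.card F * (Q + 1).natAbs * Nat.card (centralizer ({z, b} : Set G)) ∣
        Nat.card (centralizer ({z} : Set G)) := by
  obtain ⟨e⟩ := he
  obtain ⟨j, hj⟩ := hodd
  have hodd' : Odd (Fintype.card F) := ⟨j, hj⟩
  have hq1 := Fintype.one_lt_card (α := F)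
  set Q : ℤ := (if Fintype.card F % 4 = 3 then 1 else -1) * (Fintype.card F : ℤ) with hQ
  have habs : Q.natAbs = Fintype.card F := by
    rw [hQ]; split_ifs <;> simp
  obtain ⟨hrot, hrefl⟩ := LineOf.sigma_facts h hodd' _ e
  refine ⟨LineOf.sigma _ e, Q, habs, ?_, ⟨LineOf.sigma_irr h hodd' _ e, ?_, by omega, ?_, hrot,
    hrefl, LineOf.exists_regular h hodd' _ e Q hQ⟩, ?_⟩
  · rw [hQ]; split_ifs <;> omega
  · rw [LineOf.sigma, map_one, LineModel.fixNum_one, hQ]
    push_cast
    ring
  · intro x y hxy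
    have : x = LineOf.zC * y := Subtype.ext hxy
    rw [LineOf.sigma, LineOf.sigma, this, map_mul, LineOf.act_zC h, one_mul]
  · have : (Q + 1).natAbs =
        if Fintype.card F % 4 = 3 then Fintype.card F + 1 else Fintype.card F - 1 := by
      rw [hQ]; split_ifs <;> omega
    rw [this]
    exact LineOf.centralizer_dvd h hodd' _ e

end CfsgLib.SDBlock
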