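import Cfsg.Agent.Lib.SDBlock.LineModel
import Cfsg.Agent.Lib.SDBlock.Central

/-!
# The centralizer of an involution acting on `L₂(q)`

For a configuration with `C = C(z)` and a normal `N ≅ SL(2,q)` of `C / O(C)`, `act` is the induced
map of `C` to `Aut PSL(2,q)`.  The preimage of `N` contains the elements of order four, the 2-elements
act as elements of `pgl`, `b` as an outer involution, and the kernel meets the 2-elements in `⟨z⟩`.
-/

set_option autoImplicit false
set_option linter.style.haveILetI false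
set_option linter.unusedSectionVars false

namespace CfsgLib.SDBlock.LineOf

open Subgroup CfsgLib.GWDihedral.LTwoAut CfsgLib.SDBlock.LineModel CfsgLib.KnownC.AutPSL

universe u

variable {F : Type} [Field F] [Fintype F]

local notation "SL₂" => Matrix.SpecialLinearGroup (Fin 2) F
local notation "PSL" => Matrix.ProjectiveSpecialLinearGroup (Fin 2) F

/-! ### The map to the automorphism group -/

section Quot

variable {X : Type u} [Group X] (N : Subgroup (X ⧸ Cfsg.oddCore X)) [N.Normal] (e : ↥N ≃* Matrix.SpecialLinearGroup (Fin 2) F)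

/-- The preimage of `N`. -/
def pre : Subgroup X := N.comap (QuotientGroup.mk' (Cfsg.oddCore X))

instance pre_normal : (pre N).Normal := Subgroup.Normal.comap inferInstance _

/-- The action on `PSL(2,q)`. -/
def act : X →* MulAut PSL :=
  (((toAut (F := F)).comp (MulAut.congr e).toMonoidHom).comp (MulAut.conjNormal (H := N))).comp
    (QuotientGroup.mk' (Cfsg.oddCore X))

theorem act_pre {m : X} (hm : m ∈ pre N) :
    act N e m = MulAut.conj (QuotientGroup.mk (e ⟨QuotientGroup.mk m, hm⟩) : PSL) := by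
  rw [← toAut_conj]
  refine congrArg toAut (MulEquiv.ext fun s => ?_)
  show e (MulAut.conjNormal (QuotientGroup.mk m : X ⧸ Cfsg.oddCore X) (e.symm s)) = MulAut.conj _ s
  rw [MulAut.conj_apply, ← e.apply_symm_apply s, ← map_inv, ← map_mul, ← map_mul, e.symm_apply_apply]
  exact congrArg e (Subtype.ext (by simp [MulAut.conjNormal_apply]))

theorem act_eq_one_of_central {x : X} (hx : ∀ y, Commute x y) : act N e x = 1 := by
  have h1 : MulAut.conjNormal (QuotientGroup.mk x : X ⧸ Cfsg.oddCore X) = (1 : MulAut N) := by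
    refine MulEquiv.ext fun n => Subtype.ext ?_
    obtain ⟨y, hy⟩ := QuotientGroup.mk_surjective (n : X ⧸ Cfsg.oddCore X)
    rw [MulAut.conjNormal_apply, MulAut.one_apply, ← hy, ← QuotientGroup.mk_mul, (hx y).eq,
      QuotientGroup.mk_mul, mul_inv_cancel_right]
  show toAut (MulAut.congr e (MulAut.conjNormal (QuotientGroup.mk x : X ⧸ Cfsg.oddCore X))) = 1
  rw [h1, map_one, map_one]

theorem act_pre_mem {m : X} (hm : m ∈ pre N) : act N e m ∈ (inn : Subgroup (MulAut PSL)) :=
  ⟨_, (act_pre N e hm).symm⟩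

theorem inn_le_map : (inn : Subgroup (MulAut PSL)) ≤ (pre N).map (act N e) := by
  rintro _ ⟨g, rfl⟩
  obtain ⟨s, rfl⟩ := QuotientGroup.mk_surjective g
  obtain ⟨m, hm⟩ := QuotientGroup.mk_surjective ((e.symm s : N) : X ⧸ Cfsg.oddCore X)
  have hmp : m ∈ pre N := by
    show (QuotientGroup.mk m : X ⧸ Cfsg.oddCore X) ∈ N
    rw [hm]; exact (e.symm s).2
  refine ⟨m, hmp, ?_⟩
  rw [act_pre N e hmp, show (⟨QuotientGroup.mk m, hmp⟩ : N) = e.symm s from Subtype.ext hm,
    e.apply_symm_apply]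

theorem mem_center_of_act {m : X} (hm : m ∈ pre N) (h : act N e m = 1) :
    e ⟨QuotientGroup.mk m, hm⟩ ∈ center SL₂ := by
  rw [act_pre N e hm] at h
  exact (QuotientGroup.eq_one_iff _).1 (conj_injective (h.trans (map_one _).symm))

theorem act_of_sq (h2 : (2 : F) ≠ 0) {m : X} (hm : m ∈ pre N) (h : m * m = 1) : act N e m = 1 := by
  rw [act_pre N e hm, (QuotientGroup.eq_one_iff _).2, map_one]
  refine mem_center_of_sq h2 ?_
  rw [← map_mul, show (⟨QuotientGroup.mk m, hm⟩ : N) * ⟨QuotientGroup.mk m, hm⟩ = 1 from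
    Subtype.ext (by rw [Subgroup.coe_mul, ← QuotientGroup.mk_mul, h]; rfl), map_one]

variable [Finite X]

theorem eq_one_of_core {x : X} (hx : x ∈ Cfsg.oddCore X) {j : ℕ} (h : x ^ 2 ^ j = 1) : x = 1 :=
  orderOf_eq_one_iff.1 (Nat.eq_one_of_dvd_coprimes
    ((Nat.coprime_two_left.2 ((Nat.coprime_two_right.1
      (CfsgLib.Solvable.Cores.coprime_card_pPrimeCore 2)).of_dvd_nat
      (Subgroup.orderOf_dvd_natCard _ hx))).pow_left j)
    (orderOf_dvd_of_pow_eq_one h) dvd_rfl)

theorem odd_card_core : Odd (Nat.card (Cfsg.oddCore X)) :=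
  Nat.coprime_two_right.1 (CfsgLib.Solvable.Cores.coprime_card_pPrimeCore 2)

/-- The kernel of the action inside the preimage, given a central involution in it. -/
theorem ker_cases (hodd : Odd (Fintype.card F)) {z : X} (hz : ∀ y, Commute z y) (hz2 : z * z = 1)
    (hz1 : z ≠ 1) (hzp : z ∈ pre N) {m : X} (hm : m ∈ pre N) (h : act N e m = 1) :
    m ∈ Cfsg.oddCore X ∨ z * m ∈ Cfsg.oddCore X := by
  obtain ⟨-, hc2⟩ := CfsgLib.GWDihedral.Consumers.card_sl2_ge (F := F) hodd
  have hzc := mem_center_of_act N e hzp (act_eq_one_of_central N e hz)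
  have hmc := mem_center_of_act N e hm h
  set ze : center SL₂ := ⟨_, hzc⟩
  have hne : ze ≠ 1 := fun e1 => hz1 (eq_one_of_core (j := 1) ((QuotientGroup.eq_one_iff z).1
    (congrArg Subtype.val (e.map_eq_one_iff.1 (congrArg Subtype.val e1)))) (by rw [pow_one, pow_two, hz2]))
  obtain ⟨x, y, hxy, huniv⟩ := Nat.card_eq_two_iff.1 hc2
  have hall : ∀ w : center SL₂, w = 1 ∨ w = ze := fun w => by
    have hw : w = x ∨ w = y := by
      have := huniv.ge (Set.mem_univ w); simpa using this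
    have h1 : (1 : center SL₂) = x ∨ (1 : center SL₂) = y := by
      have := huniv.ge (Set.mem_univ (1 : center SL₂)); simpa using this
    have h2 : ze = x ∨ ze = y := by
      have := huniv.ge (Set.mem_univ ze); simpa using this
    rcases h1 with e1 | e1 <;> rcases h2 with e2 | e2 <;> rcases hw with e3 | e3 <;>
      first
      | exact Or.inl (e3.trans e1.symm)
      | exact Or.inr (e3.trans e2.symm)
      | exact absurd (e2.trans e1.symm) hne
  rcases hall ⟨_, hmc⟩ with e1 | e1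
  · exact Or.inl ((QuotientGroup.eq_one_iff m).1
      (congrArg Subtype.val (e.map_eq_one_iff.1 (congrArg Subtype.val e1))))
  · refine Or.inr ((QuotientGroup.eq_one_iff (z * m)).1 ?_)
    have e2 : (QuotientGroup.mk m : X ⧸ Cfsg.oddCore X) = QuotientGroup.mk z :=
      congrArg Subtype.val (e.injective (congrArg Subtype.val e1))
    rw [QuotientGroup.mk_mul, e2, ← QuotientGroup.mk_mul, hz2]
    rfl

/-- A `p`-subgroup of the image lifts to a `p`-subgroup. -/
theorem exists_lift {p : ℕ} [Fact p.Prime] (D : Subgroup X) {V : Subgroup (MulAut PSL)}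
    (hV : IsPGroup p V) (hle : V ≤ D.map (act N e)) :
    ∃ P : Subgroup X, IsPGroup p P ∧ P ≤ D ∧ P.map (act N e) = V := by
  set W := D ⊓ V.comap (act N e) with hW
  obtain ⟨P⟩ : Nonempty (Sylow p W) := inferInstance
  set f : W →* V := ((act N e).comp W.subtype).codRestrict V (fun w => w.2.2) with hf
  have hfs : Function.Surjective f := fun v => by
    obtain ⟨d, hd, hdv⟩ := hle v.2
    refine ⟨⟨d, hd, ?_⟩, Subtype.ext hdv⟩
    show act N e d ∈ V
    rw [hdv]; exact v.2
  have htop : (P.mapSurjective hfs : Subgroup V) = ⊤ :=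
    ((P.mapSurjective hfs).is_maximal' (hV.to_subgroup ⊤) le_top).symm
  refine ⟨(P : Subgroup W).map W.subtype, P.2.map _, ?_, le_antisymm ?_ fun v hv => ?_⟩
  · rintro _ ⟨w, -, rfl⟩; exact w.2.1
  · rintro _ ⟨_, ⟨w, -, rfl⟩, rfl⟩; exact w.2.2
  · obtain ⟨w, hw, e1⟩ := htop.ge (mem_top (⟨v, hv⟩ : V))
    exact ⟨w, ⟨w, hw, rfl⟩, congrArg Subtype.val e1⟩

end Quot

/-- Two involutions of a cyclic subgroup are equal. -/
theorem eq_of_invol {H : Type*} [Group H] [Finite H] {g u v : H} (hu : u ∈ zpowers g)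
    (hv : v ∈ zpowers g) (hu2 : u * u = 1) (hv2 : v * v = 1) (hu1 : u ≠ 1) (hv1 : v ≠ 1) : u = v := by
  have key : ∀ w, w ∈ zpowers g → w * w = 1 → w ≠ 1 → w = g ^ (orderOf g / 2) := by
    intro w hw hw2 hw1
    obtain ⟨i, rfl⟩ := mem_zpowers_iff.1 hw
    rw [← zpow_add, ← orderOf_dvd_iff_zpow_eq_one] at hw2
    rw [Ne, ← orderOf_dvd_iff_zpow_eq_one] at hw1
    rcases Nat.even_or_odd' (orderOf g) with ⟨m, hm | hm⟩
    · rw [hm] at hw1 hw2
      push_cast at hw1 hw2
      have hw2' : 2 * (m : ℤ) ∣ 2 * i := by rw [two_mul i]; exact hw2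
      obtain ⟨t, ht⟩ := Int.dvd_of_mul_dvd_mul_left two_ne_zero hw2'
      subst ht
      rcases Int.even_or_odd' t with ⟨l, rfl | rfl⟩
      · exact absurd ⟨l, by ring⟩ hw1
      · rw [show orderOf g / 2 = m by omega, ← zpow_natCast, zpow_eq_zpow_iff_modEq,
          Int.modEq_iff_dvd, hm]
        exact ⟨-l, by push_cast; ring⟩
    · exfalso
      obtain ⟨t, ht⟩ := hw2
      refine hw1 ⟨i - m * t, ?_⟩
      rw [hm] at ht ⊢
      push_cast at ht ⊢
      linear_combination (-(m : ℤ)) * ht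
  rw [key u hu hu2 hu1, key v hv hv2 hv1]

/-- A group generated by commuting involutions has exponent two. -/
theorem sq_of_closure {H : Type*} [Group H] {T : Set H} (h2 : ∀ x ∈ T, x * x = 1)
    (hc : ∀ x ∈ T, ∀ y ∈ T, Commute x y) {w : H} (hw : w ∈ closure T) : w * w = 1 := by
  have hcomm : ∀ x ∈ closure T, ∀ y ∈ closure T, Commute x y := by
    have h1 : closure T ≤ centralizer (T : Set H) := (closure_le _).2 fun x hx =>
      mem_centralizer_iff.2 fun y hy => (hc y hy x hx).eq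
    intro x hx y hy
    have h3 : closure T ≤ centralizer ({x} : Set H) := (closure_le _).2 fun t ht =>
      mem_centralizer_singleton_iff.2 (mem_centralizer_iff.1 (h1 hx) t ht)
    exact (mem_centralizer_singleton_iff.1 (h3 hy)).symm
  induction hw using closure_induction with
  | mem x hx => exact h2 x hx
  | one => rw [mul_one]
  | mul x y hx hy ex ey =>
    rw [mul_assoc, ← mul_assoc y x y, (hcomm y hy x hx).eq, mul_assoc x y y, ey, mul_one, ex]
  | inv x _ ex => rw [← mul_inv_rev, ex, inv_one]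

theorem isPGroup_closure {H : Type*} [Group H] {T : Set H} (h2 : ∀ x ∈ T, x * x = 1)
    (hc : ∀ x ∈ T, ∀ y ∈ T, Commute x y) : IsPGroup 2 (closure T) := fun w =>
  ⟨1, Subtype.ext (by
    show (w : H) ^ 2 ^ 1 = 1
    rw [pow_one, pow_two]; exact sq_of_closure h2 hc w.2)⟩

/-! ### The configuration -/

variable {G : Type u} [Group G] [Finite G] {S : Sylow 2 G} {a b z : G} {k : ℕ}
  (h : Config S a b z k) (hodd : Odd (Fintype.card F))
  (N : Subgroup (↥(centralizer ({z} : Set G)) ⧸ Cfsg.oddCore ↥(centralizer ({z} : Set G))))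
  [N.Normal] (e : ↥N ≃* Matrix.SpecialLinearGroup (Fin 2) F)

set_option quotPrecheck false in
local notation "C" => ↥(centralizer ({z} : Set G))

/-- The central involution as an element of `C`. -/
def zC : C := ⟨z, mem_centralizer_singleton_iff.2 rfl⟩

section

include h

theorem zC_comm (y : C) : Commute (zC (z := z)) y := Subtype.ext (h.z_comm y).eq

theorem zC_sq : (zC (z := z) : C) * zC = 1 := Subtype.ext h.z_sq

theorem zC_ne_one : (zC (z := z) : C) ≠ 1 := fun e1 => h.z_ne_one (congrArg Subtype.val e1)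

theorem act_zC : act N e (zC (z := z)) = 1 := act_eq_one_of_central N e (zC_comm h)

/-- A 2-subgroup of `C` is conjugate in `C` into `S`, staying in normal subgroups. -/
theorem exists_conj (P : Subgroup C) (hP : IsPGroup 2 P) :
    ∃ c : C, ∀ p ∈ P, ((c * p * c⁻¹ : C) : G) ∈ S :=
  h.exists_conj_sylow hP

include hodd e

/-- The preimage meets the Sylow subgroup outside the rotations. -/
theorem exists_outside : ∃ s : C, (s : G) ∈ S ∧ s ∈ pre N ∧ (s : G) ∉ zpowers a := by
  haveI : Fact (Nat.Prime 2) := ⟨Nat.prime_two⟩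
  haveI := finite_aut (F := F)
  by_contra hall
  push Not at hall
  obtain ⟨x, y, hx, hy, hxx, hyy, hx1, hy1, hxy, hcomm, -⟩ := exists_fixed_four (F := F) hodd
  have h2 : ∀ w ∈ ({x, y} : Set (MulAut PSL)), w * w = 1 := by
    rintro w (rfl | rfl) <;> assumption
  have hc : ∀ v ∈ ({x, y} : Set (MulAut PSL)), ∀ w ∈ ({x, y} : Set (MulAut PSL)), Commute v w := by
    rintro v (rfl | rfl) w (rfl | rfl)
    exacts [Commute.refl _, hcomm, hcomm.symm, Commute.refl _]
  obtain ⟨P, hP, hPD, hPV⟩ := exists_lift N e (pre N) (isPGroup_closure h2 hc)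
    (((closure_le _).2 (by rintro w (rfl | rfl) <;> assumption)).trans (inn_le_map N e))
  obtain ⟨c, hc'⟩ := exists_conj h P hP
  set A : C := ⟨a, h.a_mem_C⟩
  have hin : ∀ v ∈ ({x, y} : Set (MulAut PSL)),
      act N e c * v * (act N e c)⁻¹ ∈ zpowers (act N e A) := by
    intro v hv
    obtain ⟨p, hp, rfl⟩ := hPV.ge (subset_closure hv)
    obtain ⟨j, hj⟩ := mem_zpowers_iff.1
      (hall _ (hc' p hp) ((pre_normal N).conj_mem p (hPD hp) c))
    refine mem_zpowers_iff.2 ⟨j, ?_⟩
    rw [← map_zpow, show A ^ j = c * p * c⁻¹ from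
      Subtype.ext (by rw [SubgroupClass.coe_zpow]; exact hj), map_mul, map_mul, map_inv]
  have hinj := (MulAut.conj (act N e c)).injective
  refine hxy (hinj ?_)
  simp only [MulAut.conj_apply]
  exact eq_of_invol (hin x (Or.inl rfl)) (hin y (Or.inr rfl))
    (by rw [← MulAut.conj_apply, ← map_mul, hxx, map_one])
    (by rw [← MulAut.conj_apply, ← map_mul, hyy, map_one])
    (fun e1 => hx1 (hinj (by rwa [MulAut.conj_apply, map_one])))
    (fun e1 => hy1 (hinj (by rwa [MulAut.conj_apply, map_one])))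

/-- The squares of the rotations lie in the preimage. -/
theorem a_sq_mem : (⟨a, h.a_mem_C⟩ : C) ^ 2 ∈ pre N := by
  obtain ⟨e1, e2, e3⟩ := h.pow_eq
  obtain ⟨s, hsS, hsp, hsa⟩ := exists_outside h hodd N e
  obtain ⟨j, hj⟩ := (h.cases hsS).resolve_left fun ⟨j, hj⟩ => hsa (hj ▸ zpow_mem (mem_zpowers a) j)
  set A : C := ⟨a, h.a_mem_C⟩
  have ht : s * (A * s⁻¹ * A⁻¹) ∈ pre N :=
    mul_mem hsp ((pre_normal N).conj_mem _ (inv_mem hsp) A)
  have hd : 1 ≤ 2 ^ (k - 2) := by omega
  have hval : s * (A * s⁻¹ * A⁻¹) = (A ^ 2) ^ (2 ^ (k - 2) - 1) := by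
    refine Subtype.ext ?_
    simp only [Subgroup.coe_mul, Subgroup.coe_inv, SubgroupClass.coe_pow, A, hj]
    rw [show b * a ^ j * (a * (b * a ^ j)⁻¹ * a⁻¹) = (b * a * b⁻¹) * a⁻¹ by group, h.conj_a,
      ← pow_mul, mul_inv_eq_iff_eq_mul, ← pow_succ]
    congr 1
    omega
  rw [hval] at ht
  have hcop : (2 ^ (k - 2) - 1).Coprime (orderOf (A ^ 2)) := by
    refine Nat.Coprime.coprime_dvd_right (orderOf_pow_dvd 2) ?_
    rw [← Subgroup.orderOf_coe, show ((A : C) : G) = a from rfl, h.ord_a]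
    refine Nat.Coprime.pow_right k (Nat.coprime_two_right.2 ?_)
    rw [Nat.odd_iff]
    have : 2 ^ (k - 2) = 2 * 2 ^ (k - 3) := by
      rw [← pow_succ', show k - 3 + 1 = k - 2 by have := h.three_le; omega]
    omega
  obtain ⟨m, hm⟩ := exists_pow_eq_self_of_coprime hcop
  rw [← hm]
  exact pow_mem ht m

theorem zC_mem : (zC (z := z) : C) ∈ pre N := by
  obtain ⟨e1, e2, e3⟩ := h.pow_eq
  have := pow_mem (a_sq_mem h hodd N e) (2 ^ (k - 2))
  rw [← pow_mul, show 2 * 2 ^ (k - 2) = 2 ^ (k - 1) from e2.symm] at this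
  convert this
  exact Subtype.ext (by rw [SubgroupClass.coe_pow]; exact h.z_eq)

/-- The 2-elements of the kernel inside the preimage. -/
theorem sq_ker {m : C} (hm : m ∈ pre N) (h1 : act N e m = 1) {j : ℕ} (hj : m ^ 2 ^ j = 1) :
    m = 1 ∨ m = zC := by
  rcases ker_cases N e hodd (zC_comm h) (zC_sq h) (zC_ne_one h) (zC_mem h hodd N e) hm h1 with hc | hc
  · exact Or.inl (eq_one_of_core hc hj)
  · refine Or.inr ?_
    have e1 := eq_one_of_core hc (j := j + 1) (by
      rw [(zC_comm h m).mul_pow, pow_succ, pow_mul, pow_mul, hj, one_pow, mul_one,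
        ← pow_mul, mul_comm, pow_mul, pow_two, zC_sq h, one_pow])
    rw [← inv_eq_of_mul_eq_one_right e1, inv_eq_of_mul_eq_one_right (zC_sq h)]

theorem b_notMem_pre : (⟨b, h.b_mem_C⟩ : C) ∉ pre N := fun hb => by
  have hb2 : (⟨b, h.b_mem_C⟩ : C) * ⟨b, h.b_mem_C⟩ = 1 := Subtype.ext h.b_sq
  rcases sq_ker h hodd N e hb (act_of_sq N e (two_ne_zero_of_odd hodd) hb hb2) (j := 1)
    (by rw [pow_one, pow_two, hb2]) with e1 | e1
  · exact h.b_notMem (by rw [show b = 1 from congrArg Subtype.val e1]; exact one_mem _)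
  · exact h.b_ne_z (congrArg Subtype.val e1)

theorem ba_mem : (⟨b, h.b_mem_C⟩ : C) * ⟨a, h.a_mem_C⟩ ∈ pre N := by
  obtain ⟨s, hsS, hsp, hsa⟩ := exists_outside h hodd N e
  obtain ⟨j, hj⟩ := (h.cases hsS).resolve_left fun ⟨j, hj⟩ => hsa (hj ▸ zpow_mem (mem_zpowers a) j)
  set A : C := ⟨a, h.a_mem_C⟩
  set B : C := ⟨b, h.b_mem_C⟩
  have hs : s = B * A ^ j := Subtype.ext (by
    rw [Subgroup.coe_mul, SubgroupClass.coe_zpow]; exact hj)
  have hA := a_sq_mem h hodd N e
  rcases Int.even_or_odd' j with ⟨l, rfl | rfl⟩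
  · refine absurd ?_ (b_notMem_pre h hodd N e)
    show B ∈ pre N
    rw [show B = s * ((A ^ 2) ^ l)⁻¹ by rw [hs, ← zpow_natCast A 2, ← zpow_mul]; simp]
    exact mul_mem hsp (inv_mem (zpow_mem hA l))
  · rw [show B * A = s * ((A ^ 2) ^ l)⁻¹ by
      rw [hs, ← zpow_natCast A 2, ← zpow_mul, mul_assoc, ← zpow_neg, ← zpow_add]; simp]
    exact mul_mem hsp (inv_mem (zpow_mem hA l))

omit hodd e in
theorem conj_mem_pre_iff {c m : C} : c * m * c⁻¹ ∈ pre N ↔ m ∈ pre N := by
  refine ⟨fun hm => ?_, fun hm => (pre_normal N).conj_mem m hm c⟩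
  have := (pre_normal N).conj_mem _ hm c⁻¹
  simpa [mul_assoc] using this

/-- The elements of order four lie in the preimage. -/
theorem four_mem_pre {x : C} (hx : orderOf x = 4) : x ∈ pre N := by
  obtain ⟨c, ⟨j, hj⟩ | hb⟩ := h.two_cases (u := x) (i := 2) hx
  · rw [← conj_mem_pre_iff h N (c := c)]
    obtain ⟨e1, e2, e3⟩ := h.pow_eq
    have h4 : (a ^ j) ^ 4 = 1 := by
      rw [← hj, ← SubgroupClass.coe_pow, conj_pow, ← hx, pow_orderOf_eq_one, mul_one, mul_inv_cancel]
      rfl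
    rw [← zpow_natCast, ← zpow_mul, ← orderOf_dvd_iff_zpow_eq_one, h.ord_a] at h4
    obtain ⟨l, hl⟩ : (2 : ℤ) ∣ j := by
      obtain ⟨t, ht⟩ := h4
      have e4 : 2 ^ k = 8 * 2 ^ (k - 3) := by
        rw [show (8 : ℕ) = 2 ^ 3 by norm_num, ← pow_add]; congr 1; have := h.three_le; omega
      rw [e4] at ht
      exact ⟨2 ^ (k - 3) * t, by push_cast at ht; linarith⟩
    have : c * x * c⁻¹ = ((⟨a, h.a_mem_C⟩ : C) ^ 2) ^ l := by
      refine Subtype.ext ?_
      rw [hj, SubgroupClass.coe_zpow, SubgroupClass.coe_pow, ← zpow_natCast, ← zpow_mul, hl]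
      norm_num
    rw [this]
    exact zpow_mem (a_sq_mem h hodd N e) l
  · exfalso
    have := h.orderOf_b
    rw [← hb, Subgroup.orderOf_coe, show c * x * c⁻¹ = MulAut.conj c x from rfl, MulEquiv.orderOf_eq,
      hx] at this
    omega

theorem act_four_ne_one {x : C} (hx : orderOf x = 4) : act N e x ≠ 1 := fun h1 => by
  rcases sq_ker h hodd N e (four_mem_pre h hodd N e hx) h1 (j := 2)
    (by rw [show 2 ^ 2 = 4 by norm_num, ← hx, pow_orderOf_eq_one]) with rfl | rfl
  · rw [orderOf_one] at hx; omega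
  · have := orderOf_le_of_pow_eq_one two_pos ((pow_two _).trans (zC_sq h))
    omega

/-- The field part of `b` is trivial. -/
theorem field_b : fieldHom (act N e ⟨b, h.b_mem_C⟩) = 1 := by
  haveI : Fact (Nat.Prime 2) := ⟨Nat.prime_two⟩
  classical
  set B : C := ⟨b, h.b_mem_C⟩ with hB
  obtain ⟨A, θ, hAθ⟩ := exists_semi' (act N e B)
  rw [hAθ, fieldHom_semi]
  by_contra hθ
  have hB2 : B * B = 1 := Subtype.ext h.b_sq
  have hsq : semiAut A θ * semiAut A θ = (1 : MulAut PSL) := by rw [← hAθ, ← map_mul, hB2, map_one]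
  have hA : sa A ∈ (inn : Subgroup (MulAut PSL)) := isSquare_det hodd hθ hsq
  obtain ⟨x, y, hx, hy, hxx, hyy, hx1, hy1, hxy, hcomm, hfix⟩ := exists_fixed_four (F := F) hodd
  set s : MulAut PSL := semiAut 1 θ with hs
  have hθ2 : θ * θ = 1 := by rw [← fieldHom_semi A θ, ← map_mul, hsq, map_one]
  have hss : s * s = 1 := by
    rw [hs, semiAut_mul, map_one, mul_one, show θ.trans θ = RingEquiv.refl F from hθ2, semiAut_one]
  have hsinn : s ∉ (inn : Subgroup (MulAut PSL)) := fun hm =>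
    hθ (by rw [← fieldHom_semi (1 : GL (Fin 2) F) θ]; exact fieldHom_eq_one.2 (inn_le hm))
  set D : Subgroup C := pre N ⊔ zpowers B with hD
  have hsD : s ∈ D.map (act N e) := by
    have e1 : s = (sa A)⁻¹ * act N e B := by
      rw [hAθ, sa_apply, ← (std_conj A θ).1, inv_mul_cancel_left]
    rw [e1]
    exact mul_mem (inv_mem (Subgroup.map_mono le_sup_left (inn_le_map N e hA)))
      ⟨B, mem_sup_right (mem_zpowers B), rfl⟩
  set T : Set (MulAut PSL) := {x, y, s}
  have h2 : ∀ w ∈ T, w * w = 1 := by rintro w (rfl | rfl | rfl) <;> assumption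
  have hc : ∀ v ∈ T, ∀ w ∈ T, Commute v w := by
    rintro v (rfl | rfl | rfl) w (rfl | rfl | rfl)
    exacts [Commute.refl _, hcomm, (hfix θ).1, hcomm.symm, Commute.refl _, (hfix θ).2,
      (hfix θ).1.symm, (hfix θ).2.symm, Commute.refl _]
  have hTD : closure T ≤ D.map (act N e) := (closure_le _).2 (by
    rintro w (rfl | rfl | rfl)
    exacts [Subgroup.map_mono le_sup_left (inn_le_map N e hx),
      Subgroup.map_mono le_sup_left (inn_le_map N e hy), hsD])
  obtain ⟨P, hP, hPD, hPV⟩ := exists_lift N e D (isPGroup_closure h2 hc) hTD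
  obtain ⟨c, hcS⟩ := exists_conj h P hP
  -- the squares of the lifts lie in `⟨z⟩`
  have hPsq : ∀ p ∈ P, p * p = 1 ∨ p * p = zC := by
    intro p hp
    obtain ⟨m, hm, w, hw, rfl⟩ := Subgroup.mem_sup_of_normal_left.1 (hPD hp)
    have hw2 : w * w = 1 :=
      sq_of_closure (T := ({B} : Set C)) (by rintro v rfl; exact hB2)
        (by rintro v rfl v' rfl; exact Commute.refl _) (by rwa [← zpowers_eq_closure])
    have hmem : (m * w) * (m * w) ∈ pre N := by
      rw [show m * w * (m * w) = m * (w * m * w⁻¹) * (w * w) by group, hw2, mul_one]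
      exact mul_mem hm ((pre_normal N).conj_mem m hm w)
    obtain ⟨j, hj⟩ := (P.mul_mem hp hp) |> fun hq => hP ⟨_, hq⟩
    refine sq_ker h hodd N e hmem ?_ (j := j) (congrArg Subtype.val hj)
    rw [map_mul]
    exact sq_of_closure h2 hc (hPV.le ⟨_, hp, rfl⟩)
  -- the conjugates: at most four images
  set P' := P.map (MulAut.conj c).toMonoidHom with hP'
  have hP'S : ∀ p ∈ P', ((p : C) : G) ∈ S := by rintro _ ⟨p, hp, rfl⟩; exact hcS p hp
  have hP'sq : ∀ p ∈ P', p * p = 1 ∨ p * p = zC := by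
    rintro _ ⟨p, hp, rfl⟩
    rw [MulEquiv.coe_toMonoidHom, ← map_mul]
    rcases hPsq p hp with e1 | e1 <;> rw [e1]
    · exact Or.inl (map_one _)
    · exact Or.inr (by rw [MulAut.conj_apply, ← (zC_comm h c).eq, mul_inv_cancel_right])
  set Ff : C := ⟨four a k, pow_mem h.a_mem_C _⟩
  have hFF : act N e Ff * act N e Ff = 1 := by
    rw [← map_mul, show Ff * Ff = zC from Subtype.ext h.four_sq, act_zC h N e]
  have hrot : ∀ p ∈ P', ((p : C) : G) ∈ zpowers a →
      act N e p = 1 ∨ act N e p = act N e Ff := by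
    intro p hp hpa
    obtain ⟨j, hj⟩ := mem_zpowers_iff.1 hpa
    obtain ⟨e1, e2, e3⟩ := h.pow_eq
    have h4 : (a ^ j) ^ 4 = 1 := by
      rw [hj, show (4 : ℕ) = 2 * 2 by norm_num, pow_mul, pow_two (p : G)]
      rcases hP'sq p hp with e4 | e4
      · rw [← Subgroup.coe_mul, e4, Subgroup.coe_one, one_pow]
      · rw [← Subgroup.coe_mul, e4, pow_two]; exact h.z_sq
    rw [← zpow_natCast, ← zpow_mul, ← orderOf_dvd_iff_zpow_eq_one, h.ord_a] at h4
    obtain ⟨l, hl⟩ : ((2 ^ (k - 2) : ℕ) : ℤ) ∣ j := by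
      obtain ⟨t, ht⟩ := h4
      refine ⟨t, ?_⟩
      rw [e1, e2] at ht
      push_cast at ht ⊢
      linarith
    have hpe : p = Ff ^ l := Subtype.ext (by
      rw [SubgroupClass.coe_zpow, show ((Ff : C) : G) = four a k from rfl, four, ← zpow_natCast,
        ← zpow_mul, ← hl]
      exact hj.symm)
    rcases Int.even_or_odd' l with ⟨i, rfl | rfl⟩ <;> rw [hpe, map_zpow]
    · left; rw [zpow_mul, zpow_two, hFF, one_zpow]
    · right; rw [zpow_add, zpow_mul, zpow_two, hFF, one_zpow, one_mul, zpow_one]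
  obtain ⟨u, hu⟩ : ∃ u : C, ∀ p ∈ P',
      act N e p ∈ ({1, act N e Ff, act N e u, act N e u * act N e Ff} : Finset (MulAut PSL)) := by
    by_cases hall : ∀ p ∈ P', ((p : C) : G) ∈ zpowers a
    · exact ⟨1, fun p hp => by rcases hrot p hp (hall p hp) with e1 | e1 <;> simp [e1]⟩
    push Not at hall
    obtain ⟨u, hu, hua⟩ := hall
    refine ⟨u, fun p hp => ?_⟩
    by_cases hpa : ((p : C) : G) ∈ zpowers a
    · rcases hrot p hp hpa with e1 | e1 <;> simp [e1]
    · have hm := (Subgroup.mul_mem_iff_of_index_two h.index_two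
        (a := (⟨_, hP'S u hu⟩ : (S : Subgroup G))⁻¹) (b := ⟨_, hP'S p hp⟩)).2
        (by simp [mem_subgroupOf, hua, hpa])
      have hup : act N e p = act N e u * act N e (u⁻¹ * p) := by
        rw [← map_mul, mul_inv_cancel_left]
      rcases hrot _ (mul_mem (inv_mem hu) hp) (by simpa [mem_subgroupOf] using hm) with e1 | e1 <;>
        rw [hup, e1] <;> simp
  have hsub : ({1, x, y, x * y, s} : Finset (MulAut PSL)).image (MulAut.conj (act N e c)) ⊆
      {1, act N e Ff, act N e u, act N e u * act N e Ff} := by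
    intro v hv
    obtain ⟨w, hw, rfl⟩ := Finset.mem_image.1 hv
    have hwT : w ∈ closure T := by
      simp only [Finset.mem_insert, Finset.mem_singleton] at hw
      rcases hw with rfl | rfl | rfl | rfl | rfl
      exacts [one_mem _, subset_closure (Or.inl rfl), subset_closure (Or.inr (Or.inl rfl)),
        mul_mem (subset_closure (Or.inl rfl)) (subset_closure (Or.inr (Or.inl rfl))),
        subset_closure (Or.inr (Or.inr rfl))]
    obtain ⟨p, hp, rfl⟩ := hPV.ge hwT
    have := hu (c * p * c⁻¹) ⟨p, hp, rfl⟩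
    rwa [map_mul, map_mul, map_inv] at this
  have hxy1 : x * y ≠ 1 := fun e1 => hxy (by
    rw [← inv_eq_of_mul_eq_one_right e1, inv_eq_of_mul_eq_one_right hxx])
  have hxyx : x * y ≠ x := fun e1 => hy1 (mul_eq_left.1 e1)
  have hxyy : x * y ≠ y := fun e1 => hx1 (mul_eq_right.1 e1)
  have hsne : ∀ w ∈ (inn : Subgroup (MulAut PSL)), w ≠ s := fun w hw e1 => hsinn (e1 ▸ hw)
  have h5 : ({1, x, y, x * y, s} : Finset (MulAut PSL)).card = 5 := by
    rw [Finset.card_insert_of_notMem, Finset.card_insert_of_notMem, Finset.card_insert_of_notMem,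
      Finset.card_insert_of_notMem, Finset.card_singleton] <;>
      simp only [Finset.mem_insert, Finset.mem_singleton, not_or]
    exacts [hsne _ (mul_mem hx hy), ⟨hxyy.symm, hsne _ hy⟩, ⟨hxy, hxyx.symm, hsne _ hx⟩,
      ⟨Ne.symm hx1, Ne.symm hy1, hxy1.symm, hsne _ (one_mem _)⟩]
  have h4 : ({1, act N e Ff, act N e u, act N e u * act N e Ff} : Finset (MulAut PSL)).card ≤ 4 :=
    Finset.card_le_four
  have := Finset.card_le_card hsub
  rw [Finset.card_image_of_injective _ (MulAut.conj _).injective, h5] at this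
  omega

/-- The 2-elements act linearly. -/
theorem field_two {x : C} {i : ℕ} (hx : orderOf x = 2 ^ i) :
    act N e x ∈ (pgl : Subgroup (MulAut PSL)) := by
  rw [← fieldHom_eq_one]
  have hb := field_b h hodd N e
  have ha : fieldHom (act N e ⟨a, h.a_mem_C⟩) = 1 := by
    have h1 : fieldHom (act N e ((⟨b, h.b_mem_C⟩ : C) * ⟨a, h.a_mem_C⟩)) = 1 :=
      fieldHom_eq_one.2 (inn_le (act_pre_mem N e (ba_mem h hodd N e)))
    rwa [map_mul, map_mul, hb, one_mul] at h1
  obtain ⟨c, ⟨j, hj⟩ | hb'⟩ := h.two_cases hx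
  all_goals
    have hconj : fieldHom (act N e (c * x * c⁻¹)) = fieldHom (act N e x) := by
      have h0 := fieldHom_comm (act N e c) (act N e x)
      rw [← mul_inv_eq_one, ← map_inv, ← map_mul]
      rw [map_mul (act N e), map_mul (act N e), map_inv (act N e)]
      exact h0
    rw [← hconj]
  · rw [show c * x * c⁻¹ = (⟨a, h.a_mem_C⟩ : C) ^ j from
      Subtype.ext (by rw [hj, SubgroupClass.coe_zpow]), map_zpow, map_zpow, ha, one_zpow]
  · rw [show c * x * c⁻¹ = (⟨b, h.b_mem_C⟩ : C) from Subtype.ext hb', hb]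

/-- The 2-elements of the kernel. -/
theorem two_ker {w : C} {i : ℕ} (hw : orderOf w = 2 ^ i) (h1 : act N e w = 1) : w = 1 ∨ w = zC := by
  have hzc : ∀ c : C, c⁻¹ * zC * c = zC := fun c => by
    rw [mul_assoc, (zC_comm h c).eq, inv_mul_cancel_left]
  obtain ⟨c, hc⟩ := h.two_cases hw
  have h1' : act N e (c * w * c⁻¹) = 1 := by
    rw [map_mul, map_mul, map_inv, h1, mul_one, mul_inv_cancel]
  obtain ⟨e1, e2, e3⟩ := h.pow_eq
  have h3 := h.three_le
  rcases hc with ⟨j, hj⟩ | hb
  · have hmem : c * w * c⁻¹ ∈ pre N := by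
      rcases Int.even_or_odd' j with ⟨l, rfl | rfl⟩
      · rw [show c * w * c⁻¹ = ((⟨a, h.a_mem_C⟩ : C) ^ 2) ^ l from Subtype.ext (by
          rw [hj, SubgroupClass.coe_zpow, SubgroupClass.coe_pow, ← zpow_natCast, ← zpow_mul]
          norm_num)]
        exact zpow_mem (a_sq_mem h hodd N e) l
      · exfalso
        set A : C := ⟨a, h.a_mem_C⟩
        have hval : (c * w * c⁻¹) ^ 2 = (A ^ 2) ^ (2 * l + 1) := Subtype.ext (by
          rw [SubgroupClass.coe_pow, hj, SubgroupClass.coe_zpow, SubgroupClass.coe_pow,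
            ← zpow_natCast, ← zpow_natCast, ← zpow_mul, ← zpow_mul]
          ring_nf
          rfl)
        have hcase := sq_ker h hodd N e (m := (c * w * c⁻¹) ^ 2)
          (hval ▸ zpow_mem (a_sq_mem h hodd N e) _) (by rw [map_pow, h1', one_pow]) (j := i)
          (by rw [← pow_mul, conj_pow, mul_comm, pow_mul, ← hw, pow_orderOf_eq_one, one_pow, mul_one,
            mul_inv_cancel])
        have h4 : (a ^ (2 * l + 1)) ^ 4 = 1 := by
          rw [← hj, show (4 : ℕ) = 2 * 2 by norm_num, pow_mul, ← SubgroupClass.coe_pow]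
          rcases hcase with e4 | e4 <;> rw [e4]
          · rw [Subgroup.coe_one, one_pow]
          · rw [pow_two]; exact h.z_sq
        rw [← zpow_natCast, ← zpow_mul, ← orderOf_dvd_iff_zpow_eq_one, h.ord_a] at h4
        obtain ⟨t, ht⟩ := h4
        have e4 : 2 ^ k = 8 * 2 ^ (k - 3) := by
          rw [show (8 : ℕ) = 2 ^ 3 by norm_num, ← pow_add]; congr 1; omega
        rw [e4] at ht
        push_cast at ht
        set T : ℤ := 2 ^ (k - 3) * t
        have ht' : (2 * l + 1) * 4 = 8 * T := by rw [ht]; ring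
        omega
    rcases sq_ker h hodd N e hmem h1' (j := i)
      (by rw [conj_pow, ← hw, pow_orderOf_eq_one, mul_one, mul_inv_cancel]) with e4 | e4
    · exact Or.inl (by simpa using conj_eq_one_iff.1 e4)
    · refine Or.inr ?_
      rw [← hzc c, ← e4]; group
  · exfalso
    rw [show c * w * c⁻¹ = (⟨b, h.b_mem_C⟩ : C) from Subtype.ext hb] at h1'
    -- then the commutator of `b` and `a` acts trivially
    set A : C := ⟨a, h.a_mem_C⟩
    set B : C := ⟨b, h.b_mem_C⟩
    have hval : B * A * B⁻¹ * A⁻¹ = (A ^ 2) ^ (2 ^ (k - 2) - 1) := by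
      refine Subtype.ext ?_
      simp only [Subgroup.coe_mul, Subgroup.coe_inv, SubgroupClass.coe_pow, A, B]
      rw [h.conj_a, ← pow_mul, mul_inv_eq_iff_eq_mul, ← pow_succ]
      congr 1
      omega
    have h5 : (B * A * B⁻¹ * A⁻¹) ^ 2 ^ k = 1 := by
      have hA : A ^ 2 ^ k = 1 := Subtype.ext (by
        rw [SubgroupClass.coe_pow, show ((A : C) : G) = a from rfl, ← h.ord_a, pow_orderOf_eq_one]
        rfl)
      rw [hval, ← pow_mul, ← pow_mul, ← mul_assoc, mul_comm, pow_mul, hA, one_pow]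
    have hcase := sq_ker h hodd N e (hval ▸ pow_mem (a_sq_mem h hodd N e) _)
      (by rw [map_mul, map_mul, map_mul, map_inv, map_inv, h1', inv_one, mul_one, one_mul,
        mul_inv_cancel]) h5
    have h4 : a ^ (2 * (2 ^ (k - 2) - 1) * 2) = 1 := by
      rw [pow_mul, pow_mul, show (a ^ 2) ^ (2 ^ (k - 2) - 1) = ((B * A * B⁻¹ * A⁻¹ : C) : G) by
        rw [hval, SubgroupClass.coe_pow, SubgroupClass.coe_pow]]
      rcases hcase with e4 | e4 <;> rw [e4]
      · rw [Subgroup.coe_one, one_pow]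
      · rw [pow_two]; exact h.z_sq
    obtain ⟨t, ht⟩ := h.ord_a ▸ orderOf_dvd_of_pow_eq_one h4
    have e5 : 2 ^ (k - 2) = 2 * 2 ^ (k - 3) := by
      rw [← pow_succ', show k - 3 + 1 = k - 2 by omega]
    rw [e1, e2, e5] at ht
    set T := 2 ^ (k - 3) * t
    have ht' : 2 * (2 * 2 ^ (k - 3) - 1) * 2 = 8 * T := by rw [ht]; ring
    omega

/-- `b` acts as an outer involution. -/
theorem act_b_outer : act N e ⟨b, h.b_mem_C⟩ ∉ (inn : Subgroup (MulAut PSL)) := fun hb => by
  set B : C := ⟨b, h.b_mem_C⟩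
  obtain ⟨m, hm, hme⟩ := inn_le_map N e hb
  have hwk : act N e (m⁻¹ * B) = 1 := by rw [map_mul, map_inv, hme, inv_mul_cancel]
  obtain ⟨u, y, hpart, huy, hcomm, hy, ⟨i, hi⟩, -, hyw⟩ :=
    Blocks.exists_isPPart Nat.prime_two (m⁻¹ * B)
  obtain ⟨l, hl⟩ := mem_zpowers_iff.1 hyw
  have hact_y : act N e y = 1 := by rw [← hl, map_zpow, hwk, one_zpow]
  have hact_u : act N e u = 1 := by
    have : act N e (u * y) = 1 := by rw [huy]; exact hwk
    rwa [map_mul, hact_y, mul_one] at this
  -- the odd part lies in the preimage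
  have hymem : y ∈ pre N := by
    have hy2 : y * y ∈ pre N := by
      have hBB : B * B = 1 := Subtype.ext h.b_sq
      have hsq : (m⁻¹ * B) * (m⁻¹ * B) ∈ pre N := by
        rw [show m⁻¹ * B * (m⁻¹ * B) = m⁻¹ * (B * m⁻¹ * B⁻¹) * (B * B) by group, hBB, mul_one]
        exact mul_mem (inv_mem hm) ((pre_normal N).conj_mem _ (inv_mem hm) B)
      rw [← hl, ← zpow_add, ← two_mul, zpow_mul, zpow_two]
      exact zpow_mem hsq l
    obtain ⟨r, hr⟩ : Odd (orderOf y) := Nat.odd_iff.2 (by omega)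
    have : y = (y * y) ^ (r + 1) := by
      rw [← pow_two, ← pow_mul, show 2 * (r + 1) = orderOf y + 1 by omega, pow_succ,
        pow_orderOf_eq_one, one_mul]
    rw [this]
    exact pow_mem hy2 _
  have humem : u ∈ pre N := by
    rcases two_ker h hodd N e hi hact_u with rfl | rfl
    exacts [one_mem _, zC_mem h hodd N e]
  refine b_notMem_pre h hodd N e ?_
  have := mul_mem hm (mul_mem humem hymem)
  rwa [huy, mul_inv_cancel_left] at this

end

end CfsgLib.SDBlock.LineOf
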