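import Cfsg.Agent.Lib.SDBlock.Basic
import Cfsg.Agent.Lib.BrauerSuzuki.Setup
import Cfsg.Agent.Lib.Char.Linear
import Mathlib.RingTheory.RootsOfUnity.Complex
import Mathlib.Tactic.Group
import Mathlib.Tactic.Ring

/-!
# The rotations of a semidihedral Sylow 2-subgroup

`R = C(i)` for the rotation `i` of order four has the cyclic Sylow subgroup `⟨a⟩`, hence a linear
character `ρ` of order `2 ^ k` with kernel of odd order.  An element of `R` with `ρ g ≠ ± 1` has `i`
among its powers, so `R` meets its conjugates in such elements only under `R ⟨b⟩`.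
-/

set_option autoImplicit false
set_option linter.unusedSectionVars false

namespace CfsgLib.SDBlock

open Subgroup

variable {G : Type*} [Group G]

/-- The exponent of the action of `b` on `a`. -/
def sdExp (k : ℕ) : ℕ := 2 ^ (k - 1) - 1

/-- The rotation of order four. -/
def four (a : G) (k : ℕ) : G := a ^ 2 ^ (k - 2)

/-- The centralizer of the rotation of order four. -/
abbrev rotGroup (a : G) (k : ℕ) : Subgroup G := centralizer ({four a k} : Set G)

namespace Config

variable {S : Sylow 2 G} {a b z : G} {k : ℕ}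

theorem pow_eq (h : Config S a b z k) : 2 ^ k = 2 * 2 ^ (k - 1) ∧ 2 ^ (k - 1) = 2 * 2 ^ (k - 2) ∧
    2 ≤ 2 ^ (k - 2) := by
  have := h.three_le
  refine ⟨?_, ?_, ?_⟩
  · rw [← pow_succ', Nat.sub_add_cancel (by omega)]
  · rw [← pow_succ', show k - 2 + 1 = k - 1 by omega]
  · exact Nat.le_self_pow (by omega) 2

theorem four_sq (h : Config S a b z k) : four a k * four a k = z := by
  rw [h.z_eq, four, ← pow_add, ← two_mul, h.pow_eq.2.1]

theorem z_sq (h : Config S a b z k) : z * z = 1 := by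
  rw [h.z_eq, ← pow_add, ← two_mul, ← h.pow_eq.1, ← h.ord_a, pow_orderOf_eq_one]

theorem orderOf_four (h : Config S a b z k) : orderOf (four a k) = 4 := by
  obtain ⟨e1, e2, e3⟩ := h.pow_eq
  rw [four, orderOf_pow_of_dvd (by omega) (by rw [h.ord_a]; exact ⟨4, by omega⟩), h.ord_a]
  exact Nat.div_eq_of_eq_mul_left (by omega) (by omega)

theorem orderOf_z (h : Config S a b z k) : orderOf z = 2 := by
  rw [← h.four_sq, ← sq, orderOf_pow_of_dvd two_ne_zero (by rw [h.orderOf_four]; norm_num),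
    h.orderOf_four]

theorem z_ne_one (h : Config S a b z k) : z ≠ 1 := fun e => by
  have := h.orderOf_z
  rw [e, orderOf_one] at this
  omega

theorem z_comm_rot (h : Config S a b z k) {x : G} (hx : Commute x (four a k)) : Commute x z := by
  rw [← h.four_sq]; exact hx.mul_right hx

theorem rotGroup_le (h : Config S a b z k) : rotGroup a k ≤ centralizer ({z} : Set G) := fun _ hx =>
  mem_centralizer_singleton_iff.2 (h.z_comm_rot (mem_centralizer_singleton_iff.1 hx)).eq

theorem a_mem_rot : a ∈ rotGroup a k :=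
  mem_centralizer_singleton_iff.2 ((Commute.refl a).pow_right _).eq

theorem four_mem_rot : four a k ∈ rotGroup a k := mem_centralizer_singleton_iff.2 rfl

theorem b_inv (h : Config S a b z k) : b⁻¹ = b := inv_eq_of_mul_eq_one_right h.b_sq

theorem conj_rot_pow (h : Config S a b z k) (j : ℕ) : b * a ^ j * b⁻¹ = a ^ (sdExp k * j) := by
  rw [← conj_pow, h.conj_a, pow_mul]; rfl

theorem conj_rot_zpow (h : Config S a b z k) (j : ℤ) : b * a ^ j * b⁻¹ = a ^ ((sdExp k : ℤ) * j) := by
  rw [← conj_zpow, h.conj_a, zpow_mul, zpow_natCast]; rfl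

theorem conj_four (h : Config S a b z k) : b * four a k * b⁻¹ = (four a k)⁻¹ := by
  obtain ⟨e1, e2, e3⟩ := h.pow_eq
  rw [four, h.conj_rot_pow, eq_inv_iff_mul_eq_one, ← pow_add, ← orderOf_dvd_iff_pow_eq_one, h.ord_a]
  refine ⟨2 ^ (k - 3), ?_⟩
  have e4 : 2 ^ (k - 2) = 2 * 2 ^ (k - 3) := by
    rw [← pow_succ', show k - 3 + 1 = k - 2 by have := h.three_le; omega]
  rw [sdExp, show (2 ^ (k - 1) - 1) * 2 ^ (k - 2) + 2 ^ (k - 2) = 2 ^ (k - 1) * 2 ^ (k - 2) by
    rw [← Nat.succ_mul, Nat.succ_eq_add_one, Nat.sub_add_cancel (by omega)], e4, e1]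
  ring

theorem b_notMem_rot (h : Config S a b z k) : b ∉ rotGroup a k := fun hb => by
  have e : b * four a k * b⁻¹ = four a k := by
    rw [mem_centralizer_singleton_iff.1 hb, mul_inv_cancel_right]
  rw [h.conj_four, inv_eq_iff_mul_eq_one, h.four_sq] at e
  exact h.z_ne_one e

theorem conj_mem_rot (h : Config S a b z k) {g : G} (hg : g ∈ rotGroup a k) :
    b * g * b⁻¹ ∈ rotGroup a k := by
  have hc : Commute g (four a k) := mem_centralizer_singleton_iff.1 hg
  refine mem_centralizer_singleton_iff.2 ?_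
  have h1 : Commute (b * g * b⁻¹) (b * (four a k)⁻¹ * b⁻¹) := hc.inv_right.map (MulAut.conj b)
  rw [show b * (four a k)⁻¹ * b⁻¹ = (b * four a k * b⁻¹)⁻¹ by group, h.conj_four, inv_inv] at h1
  exact h1.eq

/-- Elements conjugating the rotation to itself or its inverse. -/
theorem mem_or_mem (h : Config S a b z k) {x : G}
    (hx : x * four a k * x⁻¹ = four a k ∨ x * four a k * x⁻¹ = (four a k)⁻¹) :
    x ∈ rotGroup a k ∨ b * x ∈ rotGroup a k := by
  rcases hx with hx | hx
  · exact Or.inl (mem_centralizer_singleton_iff.2 (mul_inv_eq_iff_eq_mul.1 hx))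
  · refine Or.inr (mem_centralizer_singleton_iff.2 (mul_inv_eq_iff_eq_mul.1 ?_))
    rw [show b * x * four a k * (b * x)⁻¹ = b * (x * four a k * x⁻¹) * b⁻¹ by group, hx,
      show b * (four a k)⁻¹ * b⁻¹ = (b * four a k * b⁻¹)⁻¹ by group, h.conj_four, inv_inv]

theorem zpowers_le (h : Config S a b z k) : zpowers a ≤ (S : Subgroup G) :=
  Subgroup.zpowers_le.2 h.a_mem

variable [Finite G]

theorem index_two (h : Config S a b z k) :
    ((zpowers a).subgroupOf (S : Subgroup G)).index = 2 := by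
  have h1 := Subgroup.card_mul_index ((zpowers a).subgroupOf (S : Subgroup G))
  rw [Nat.card_congr (subgroupOfEquivOfLe h.zpowers_le).toEquiv, Nat.card_zpowers,
    h.ord_a, h.card, pow_succ] at h1
  exact Nat.eq_of_mul_eq_mul_left (Nat.two_pow_pos k) h1

/-- The elements of the Sylow subgroup. -/
theorem cases (h : Config S a b z k) {x : G} (hx : x ∈ (S : Subgroup G)) :
    (∃ j : ℤ, x = a ^ j) ∨ ∃ j : ℤ, x = b * a ^ j := by
  by_cases hxA : x ∈ zpowers a
  · obtain ⟨j, hj⟩ := mem_zpowers_iff.1 hxA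
    exact Or.inl ⟨j, hj.symm⟩
  · have hm := (Subgroup.mul_mem_iff_of_index_two (H := (zpowers a).subgroupOf (S : Subgroup G))
      h.index_two (a := (⟨b, h.b_mem⟩ : (S : Subgroup G))⁻¹) (b := ⟨x, hx⟩)).2
      (by simp [mem_subgroupOf, hxA, h.b_notMem])
    obtain ⟨j, hj⟩ := mem_zpowers_iff.1 (show b⁻¹ * x ∈ zpowers a by simpa [mem_subgroupOf] using hm)
    exact Or.inr ⟨j, by rw [hj, mul_inv_cancel_left]⟩

/-- A rotation commuting with `b` squares to one. -/
theorem sq_of_commute (h : Config S a b z k) {j : ℤ} (hc : Commute b (a ^ j)) : (a ^ j) ^ 2 = 1 := by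
  obtain ⟨e1, e2, e3⟩ := h.pow_eq
  have e : b * a ^ j * b⁻¹ = a ^ j := by rw [hc.eq, mul_inv_cancel_right]
  rw [h.conj_rot_zpow, ← mul_inv_eq_one, ← zpow_neg, ← zpow_add, ← orderOf_dvd_iff_zpow_eq_one,
    h.ord_a] at e
  rw [← zpow_natCast, ← zpow_mul, ← orderOf_dvd_iff_zpow_eq_one, h.ord_a]
  have e4 : 2 ^ (k - 2) = 2 * 2 ^ (k - 3) := by
    rw [← pow_succ', show k - 3 + 1 = k - 2 by have := h.three_le; omega]
  have ee : (sdExp k : ℤ) * j + -j = ((2 * 2 ^ (k - 3) - 1 : ℕ) : ℤ) * (j * ((2 : ℕ) : ℤ)) := by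
    rw [sdExp, Nat.cast_sub (by omega), e2, e4, Nat.cast_sub (by omega)]
    push_cast; ring
  rw [ee] at e
  have hcop : IsCoprime ((2 ^ k : ℕ) : ℤ) ((2 * 2 ^ (k - 3) - 1 : ℕ) : ℤ) := by
    rw [Nat.isCoprime_iff_coprime]
    exact Nat.Coprime.pow_left k (Nat.coprime_two_left.2 (by rw [Nat.odd_iff]; omega))
  exact hcop.dvd_of_dvd_mul_left e

/-- A subgroup of the Sylow subgroup centralizing an element of order four which has order at least
`2 ^ k` and contains it lies in the rotations. -/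
theorem le_zpowers_of_commute (h : Config S a b z k) {P : Subgroup G} (hP : P ≤ (S : Subgroup G))
    {y : G} (hy : y ∈ P) (hy4 : orderOf y = 4) (hc : ∀ g ∈ P, Commute g y)
    (hcard : 2 ^ k ≤ Nat.card P) : P ≤ zpowers a := by
  obtain ⟨e1, e2, e3⟩ := h.pow_eq
  have hout : ∀ g ∈ P, g ∉ zpowers a → ∀ u : ℤ, Commute g (a ^ u) → (a ^ u) ^ 2 = 1 := by
    intro g hg hgA u hu
    obtain ⟨i, rfl⟩ := (h.cases (hP hg)).resolve_left fun ⟨i, hi⟩ =>
      hgA (hi ▸ Subgroup.zpow_mem _ (mem_zpowers a) i)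
    refine h.sq_of_commute ?_
    have := hu.mul_left (Commute.zpow_zpow_self a (-i) u)
    rwa [mul_assoc, ← zpow_add, add_neg_cancel, zpow_zero, mul_one] at this
  have hyA : y ∈ zpowers a := by
    by_contra hyA
    -- the rotations commuting with `y` square to one
    have hsq : ∀ g ∈ P ⊓ zpowers a, g ^ 2 = 1 := by
      rintro g ⟨hgP, hgA⟩
      obtain ⟨j, rfl⟩ := mem_zpowers_iff.1 hgA
      exact hout y hy hyA j (hc _ hgP).symm
    -- so there are at most four elements
    have hle : Nat.card ↥(P ⊓ zpowers a) ≤ 2 := by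
      classical
      haveI : Fintype (zpowers a) := Fintype.ofFinite _
      have hinj : Function.Injective fun u : ↥(P ⊓ zpowers a) =>
          (⟨⟨(u : G), u.2.2⟩, Subtype.ext (by simpa using hsq u u.2)⟩ : {v : zpowers a // v ^ 2 = 1}) :=
        fun u v huv => Subtype.ext (congrArg (fun w : {v : zpowers a // v ^ 2 = 1} => ((w : zpowers a) : G)) huv)
      refine (Nat.card_le_card_of_injective _ hinj).trans ?_
      rw [Nat.card_eq_fintype_card, Fintype.card_subtype]
      exact IsCyclic.card_pow_eq_one_le (n := 2) two_pos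
    have hidx : ((P ⊓ zpowers a).subgroupOf P).index ≤ 2 := by
      rw [inf_subgroupOf_left]
      show (zpowers a).relIndex P ≤ 2
      calc (zpowers a).relIndex P ≤ (zpowers a).relIndex (S : Subgroup G) :=
            relIndex_le_of_le_right hP index_ne_zero_of_finite
        _ = 2 := h.index_two
    have h1 := Subgroup.card_mul_index ((P ⊓ zpowers a).subgroupOf P)
    rw [Nat.card_congr (subgroupOfEquivOfLe (inf_le_left : P ⊓ zpowers a ≤ P)).toEquiv] at h1
    have := Nat.mul_le_mul hle hidx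
    omega
  intro g hg
  by_contra hgA
  obtain ⟨j, rfl⟩ := mem_zpowers_iff.1 hyA
  have := orderOf_dvd_of_pow_eq_one (hout g hg hgA j (hc g hg))
  rw [hy4] at this
  norm_num at this

/-- The 2-subgroups of the centralizer of the rotation of order four lie in conjugates of `⟨a⟩`. -/
theorem card_le_of_isPGroup (h : Config S a b z k) (P : Subgroup ↥(rotGroup a k)) (hP : IsPGroup 2 P)
    (ha : ⟨a, a_mem_rot⟩ ∈ P) : P = zpowers (⟨a, a_mem_rot⟩ : rotGroup a k) := by
  haveI : Fact (Nat.Prime 2) := ⟨Nat.prime_two⟩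
  set P' := P.map (rotGroup a k).subtype with hP'
  have haP : a ∈ P' := ⟨_, ha, rfl⟩
  obtain ⟨T, hT⟩ := (hP.map (rotGroup a k).subtype).exists_le_sylow
  obtain ⟨g, hg⟩ := MulAction.exists_smul_eq G T S
  set P'' := P'.map (MulAut.conj g).toMonoidHom with hP''
  have hle : P'' ≤ (S : Subgroup G) := by
    rintro _ ⟨x, hx, rfl⟩
    rw [← hg]
    exact Subgroup.smul_mem_pointwise_smul x (MulAut.conj g) (T : Subgroup G) (hT hx)
  have hy : g * four a k * g⁻¹ ∈ P'' := ⟨four a k, P'.pow_mem haP _, by simp⟩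
  have hcard : Nat.card P'' = Nat.card P := by
    rw [hP'', Subgroup.card_map_of_injective (MulAut.conj g).injective, hP',
      Subgroup.card_map_of_injective (rotGroup a k).subtype_injective]
  have hA : Nat.card (zpowers (⟨a, a_mem_rot⟩ : rotGroup a k)) = 2 ^ k := by
    rw [Nat.card_zpowers, Subgroup.orderOf_mk, h.ord_a]
  have hAP : zpowers (⟨a, a_mem_rot⟩ : rotGroup a k) ≤ P := Subgroup.zpowers_le.2 ha
  have hPA := h.le_zpowers_of_commute hle hy (by
    rw [show g * four a k * g⁻¹ = MulAut.conj g (four a k) from rfl, MulEquiv.orderOf_eq,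
      h.orderOf_four]) (by
    rintro _ ⟨x, hx, rfl⟩
    obtain ⟨x', -, rfl⟩ := hx
    exact (show Commute (x' : G) (four a k) from mem_centralizer_singleton_iff.1 x'.2).map
      (MulAut.conj g)) (hcard ▸ hA ▸ Subgroup.card_le_of_le hAP)
  refine (Subgroup.eq_of_le_of_card_ge hAP ?_).symm
  have := Subgroup.card_le_of_le hPA
  rw [Nat.card_zpowers, h.ord_a] at this
  omega

/-- A linear character of the centralizer of the rotation with kernel of odd order. -/
theorem exists_rho (h : Config S a b z k) : ∃ ρ : rotGroup a k →* ℂˣ,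
    orderOf (ρ ⟨a, a_mem_rot⟩) = 2 ^ k ∧ (∀ g, ρ g = 1 → Odd (orderOf g)) ∧
      ∀ g, ∃ j : ℕ, ρ g = ρ ⟨a, a_mem_rot⟩ ^ j := by
  haveI : Fact (Nat.Prime 2) := ⟨Nat.prime_two⟩
  set a' : rotGroup a k := ⟨a, a_mem_rot⟩ with ha'
  have hpA : IsPGroup 2 (zpowers a') := IsPGroup.of_card (n := k) (by
    rw [Nat.card_zpowers, Subgroup.orderOf_mk, h.ord_a])
  obtain ⟨P, hAP⟩ := hpA.exists_le_sylow
  have hPA := h.card_le_of_isPGroup _ P.2 (hAP (mem_zpowers a'))
  have hnpc : Cfsg.HasNormalPComplement 2 ↥(rotGroup a k) := by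
    refine BrauerSuzuki.npc_of_cyclic_two_subgroups fun Q hQ => ?_
    obtain ⟨T, hT⟩ := hQ.exists_le_sylow
    haveI : IsCyclic (P : Subgroup ↥(rotGroup a k)) := by rw [hPA]; infer_instance
    haveI : IsCyclic (T : Subgroup ↥(rotGroup a k)) :=
      isCyclic_of_surjective (P.equiv T).toMonoidHom (P.equiv T).surjective
    exact Subgroup.isCyclic_of_le hT
  obtain ⟨π, hπ, hker⟩ := BrauerSuzuki.exists_retraction hnpc P
  haveI hcyc : IsCyclic (P : Subgroup ↥(rotGroup a k)) := by rw [hPA]; infer_instance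
  have hgen : ∀ u : (P : Subgroup ↥(rotGroup a k)), u ∈ zpowers
      (⟨a', hAP (mem_zpowers a')⟩ : (P : Subgroup ↥(rotGroup a k))) := fun u => by
    have hu : (u : rotGroup a k) ∈ zpowers a' := hPA ▸ u.2
    obtain ⟨i, hi⟩ := mem_zpowers_iff.1 hu
    exact mem_zpowers_iff.2 ⟨i, Subtype.ext (by rw [SubgroupClass.coe_zpow]; exact hi)⟩
  have hprim := Complex.isPrimitiveRoot_exp (2 ^ k) (by positivity)
  set ζ : ℂˣ := (hprim.isUnit (by positivity)).unit with hζ
  have hζo : orderOf ζ = 2 ^ k := by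
    rw [← orderOf_units, hζ, IsUnit.unit_spec, ← hprim.eq_orderOf]
  have hoa : orderOf (⟨a', hAP (mem_zpowers a')⟩ : (P : Subgroup ↥(rotGroup a k))) = 2 ^ k := by
    rw [Subgroup.orderOf_mk, ha', Subgroup.orderOf_mk, h.ord_a]
  set lam := monoidHomOfForallMemZpowers hgen (g' := ζ) (by rw [hζo, hoa]) with hlam
  have hlama : lam ⟨a', hAP (mem_zpowers a')⟩ = ζ := monoidHomOfForallMemZpowers_apply_gen _ _
  have hπa : π a' = ⟨a', hAP (mem_zpowers a')⟩ := hπ ⟨a', hAP (mem_zpowers a')⟩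
  refine ⟨lam.comp π, ?_, fun g hg => ?_, fun g => ?_⟩
  · rw [MonoidHom.comp_apply, hπa, hlama, hζo]
  · obtain ⟨i, hi⟩ := mem_zpowers_iff.1 (hgen (π g))
    rw [MonoidHom.comp_apply, ← hi, map_zpow, hlama, ← orderOf_dvd_iff_zpow_eq_one, hζo, ← hoa,
      orderOf_dvd_iff_zpow_eq_one, hi] at hg
    exact Nat.coprime_two_right.1 (hker g hg)
  · obtain ⟨j, hj⟩ := (mem_powers_iff_mem_zpowers).2 (hgen (π g))
    refine ⟨j, ?_⟩
    rw [MonoidHom.comp_apply, MonoidHom.comp_apply, hπa, ← hj, map_pow]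

end Config

end CfsgLib.SDBlock
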