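import Cfsg.Agent.Lib.SDBlock.Basic

/-!
# The order formula for a semidihedral Sylow 2-subgroup: the statement

`OrderFormula` is proved from the principal 2-block: for a configuration with a line character of
degree `Q` there is a signed degree `X` with the relations below.
-/

set_option autoImplicit false

universe u

namespace CfsgLib.SDBlock

/-- With `c = |C(z)|` and `w = |C(z, b)|`: `|G| w² Q (X - Q)² = c³ (Q - 1) X (X - 1)`,
`Q² - X ∣ X (X - 1)`, `X ≡ Q ≡ 3 (mod 4)`, and `|X|` divides the order. -/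
def OrderFormula : Prop :=
  ∀ (G : Type u) [Group G] [Finite G] (S : Sylow 2 G) (a b z : G) (k : ℕ), Config S a b z k →
    ∀ (σ : Subgroup.centralizer ({z} : Set G) → ℂ) (Q : ℤ), Line z b σ Q →
      ∃ X : ℤ, X ≠ 0 ∧ X ≠ 1 ∧ X ≠ Q ∧ X ≠ Q ^ 2 ∧ Q % 4 = 3 ∧ X % 4 = 3 ∧
        X.natAbs ∣ Nat.card G ∧ (Q ^ 2 - X) ∣ X * (X - 1) ∧
        (Nat.card G : ℤ) * (Nat.card (Subgroup.centralizer ({z, b} : Set G)) : ℤ) ^ 2 * Q *
            (X - Q) ^ 2 =
          (Nat.card (Subgroup.centralizer ({z} : Set G)) : ℤ) ^ 3 * (Q - 1) * X * (X - 1)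

end CfsgLib.SDBlock
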