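import Cfsg.Agent.Lib.SDBlock.Induction
import Cfsg.Agent.Lib.Char.Orth
import Cfsg.Agent.Lib.BrauerSuzuki.Basic

/-!
# The generalized characters induced from the rotations

`theta m` is induced from `1 - ρ ^ m` (`m` even) and `diff m m'` from `ρ ^ m - ρ ^ m'` (`m ≡ m'`
modulo 2).  Both vanish where the order is not divisible by four; their inner products and their
coefficients at the characters of the principal block are Fourier coefficients.
-/

set_option autoImplicit false
set_option linter.unusedSectionVars false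

namespace CfsgLib.SDBlock

open Cfsg Subgroup CfsgLib.Char
open scoped Classical ComplexConjugate

variable {G : Type*} [Group G] {a : G} {k : ℕ} {ρ : rotGroup a k →* ℂˣ}

/-- A power function on the units. -/
noncomputable def pw (m : ℕ) : ℂˣ → ℂ := fun u => (u : ℂ) ^ m

/-- The chosen primitive root. -/
noncomputable def root (ρ : rotGroup a k →* ℂˣ) : ℂˣ := ρ ⟨a, Config.a_mem_rot⟩

/-- The mean over the powers of the root. -/
noncomputable def mean (ρ : rotGroup a k →* ℂˣ) (f : ℂˣ → ℂ) : ℂ :=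
  ((2 : ℂ) ^ k)⁻¹ * ∑ j ∈ Finset.range (2 ^ k), f (root ρ ^ j)

/-- The Fourier coefficient of a character on the rotations of order at least four. -/
noncomputable def four' (ρ : rotGroup a k →* ℂˣ) (χ : G → ℂ) (m : ℕ) : ℂ :=
  ((2 : ℂ) ^ k)⁻¹ * ∑ j ∈ Finset.range (2 ^ k),
    (if (root ρ ^ j) ^ 2 = 1 then 0 else conj (χ (a ^ j))) * pw m (root ρ ^ j)

theorem mean_add (f g : ℂˣ → ℂ) : mean ρ (f + g) = mean ρ f + mean ρ g := by
  simp [mean, Finset.sum_add_distrib, mul_add]

theorem mean_sub (f g : ℂˣ → ℂ) : mean ρ (f - g) = mean ρ f - mean ρ g := by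
  simp [mean, Finset.sum_sub_distrib, mul_sub]

/-- The generalized character attached to an even exponent. -/
noncomputable def theta [Fintype G] (ρ : rotGroup a k →* ℂˣ) (m : ℕ) : G → ℂ :=
  indFun (rotGroup a k) (Config.lift ρ (pw 0 - pw m))

/-- The generalized character attached to two exponents of equal parity. -/
noncomputable def diff [Fintype G] (ρ : rotGroup a k →* ℂˣ) (m m' : ℕ) : G → ℂ :=
  indFun (rotGroup a k) (Config.lift ρ (pw m - pw m'))

theorem pw_eq_of_sq {u : ℂˣ} (hu : u ^ 2 = 1) {m m' : ℕ} (h : m % 2 = m' % 2) :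
    pw m u = pw m' u := by
  have e : ∀ n : ℕ, pw n u = pw (n % 2) u := fun n => by
    have h2 : (u : ℂ) ^ 2 = 1 := by rw [← Units.val_pow_eq_pow_val, hu, Units.val_one]
    simp only [pw]
    conv_lhs => rw [← Nat.div_add_mod n 2, pow_add, pow_mul, h2, one_pow, one_mul]
  rw [e m, e m', h]

theorem vanish {u : ℂˣ} (hu : u ^ 2 = 1) {m m' : ℕ} (h : m % 2 = m' % 2) :
    (pw m - pw m') u = 0 := sub_eq_zero.2 (pw_eq_of_sq hu h)

namespace RotChar

theorem root_ord (r : RotChar a k ρ) : orderOf (root ρ) = 2 ^ k := r.ord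

/-- Orthogonality of the powers. -/
theorem mean_pw (r : RotChar a k ρ) (m m' : ℕ) :
    mean ρ (fun u => pw m u * conj (pw m' u)) = if m % 2 ^ k = m' % 2 ^ k then 1 else 0 := by
  set w : ℂˣ := root ρ ^ m * (root ρ ^ m')⁻¹ with hw
  have hiff : w = 1 ↔ m % 2 ^ k = m' % 2 ^ k := by
    rw [hw, mul_inv_eq_one, pow_inj_mod, r.root_ord]
  have hterm : ∀ j : ℕ, pw m (root ρ ^ j) * conj (pw m' (root ρ ^ j)) = (w : ℂ) ^ j := by
    intro j
    have hn : ∀ u : ℂˣ, (∃ n, 0 < n ∧ u ^ n = 1) → conj (u : ℂ) = ((u⁻¹ : ℂˣ) : ℂ) := by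
      rintro u ⟨n, hn, hu⟩
      rw [Units.val_inv_eq_inv_val, Complex.inv_eq_conj]
      exact Complex.norm_eq_one_of_pow_eq_one (by rw [← Units.val_pow_eq_pow_val, hu, Units.val_one])
        hn.ne'
    simp only [pw, map_pow, hw]
    rw [hn (root ρ ^ j) ⟨2 ^ k, Nat.two_pow_pos k, by
      rw [← pow_mul, mul_comm, pow_mul, ← r.root_ord, pow_orderOf_eq_one, one_pow]⟩]
    simp only [← Units.val_pow_eq_pow_val, ← Units.val_mul]
    congr 1
    rw [mul_pow, inv_pow, inv_pow, ← pow_mul, ← pow_mul, ← pow_mul, ← pow_mul, mul_comm j, mul_comm j]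
  rw [mean, Finset.sum_congr rfl fun j _ => hterm j]
  split_ifs with he
  · rw [hiff.2 he]
    simp
  · have hne : (w : ℂ) ≠ 1 := fun e => he (hiff.1 (Units.ext e))
    have hM : (w : ℂ) ^ 2 ^ k = 1 := by
      rw [← Units.val_pow_eq_pow_val, hw, mul_pow, inv_pow, ← pow_mul, ← pow_mul, mul_comm m,
        mul_comm m', pow_mul, pow_mul, ← r.root_ord, pow_orderOf_eq_one]
      simp
    rw [geom_sum_eq hne, hM, sub_self, zero_div, mul_zero]

theorem mean_pw_pow (r : RotChar a k ρ) (m m' e : ℕ) :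
    mean ρ (fun u => pw m u * conj (pw m' (u ^ e))) = if m % 2 ^ k = (e * m') % 2 ^ k then 1 else 0 := by
  rw [← r.mean_pw]
  refine congrArg (mean ρ) (funext fun u => ?_)
  simp only [pw, Units.val_pow_eq_pow_val, ← pow_mul]

end RotChar

namespace Config

variable {S : Sylow 2 G} {b z : G}

theorem lift_gen [Finite G] [Fintype (rotGroup a k)] (m m' : ℕ) :
    IsGeneralizedCharacter (rotGroup a k) (lift ρ (pw m - pw m')) := by
  refine ⟨fun g => ((ρ ^ m) g : ℂ), fun g => ((ρ ^ m') g : ℂ), isCharacter_hom _, isCharacter_hom _, ?_⟩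
  funext g
  simp [lift, pw, MonoidHom.pow_apply]

variable [Fintype G]

theorem theta_gen (m : ℕ) : IsGeneralizedCharacter G (theta ρ m) :=
  IsGeneralizedCharacter.indFun _ (lift_gen 0 m)

theorem diff_gen (m m' : ℕ) : IsGeneralizedCharacter G (diff ρ m m') :=
  IsGeneralizedCharacter.indFun _ (lift_gen m m')

/-- Induced lifts vanish where the order is not divisible by four. -/
theorem indFun_lift_eq_zero (h : Config S a b z k) (r : RotChar a k ρ) {f : ℂˣ → ℂ}
    (hf : ∀ u : ℂˣ, u ^ 2 = 1 → f u = 0) {g : G} (hg : ¬ 4 ∣ orderOf g) :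
    indFun (rotGroup a k) (lift ρ f) g = 0 := by
  rw [indFun_def, Finset.sum_eq_zero, mul_zero]
  intro x _
  by_cases hm : x⁻¹ * g * x ∈ rotGroup a k
  · rw [extendByZero_apply_mem _ _ hm]
    refine hf _ (by_contra fun hne => hg ?_)
    have := h.four_dvd_orderOf r (g := ⟨_, hm⟩) hne
    have e : orderOf (x⁻¹ * g * x) = orderOf g := by
      rw [show x⁻¹ * g * x = MulAut.conj x⁻¹ g by simp, MulEquiv.orderOf_eq]
    exact e ▸ this
  · rw [extendByZero_apply_notMem _ _ hm]

theorem theta_eq_zero (h : Config S a b z k) (r : RotChar a k ρ) {m : ℕ} (hm : m % 2 = 0) {g : G}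
    (hg : ¬ 4 ∣ orderOf g) : theta ρ m g = 0 :=
  h.indFun_lift_eq_zero r (fun _ hu => vanish hu (by rw [hm])) hg

theorem diff_eq_zero (h : Config S a b z k) (r : RotChar a k ρ) {m m' : ℕ} (hm : m % 2 = m' % 2)
    {g : G} (hg : ¬ 4 ∣ orderOf g) : diff ρ m m' g = 0 :=
  h.indFun_lift_eq_zero r (fun _ hu => vanish hu hm) hg

/-- The inner product of two induced lifts. -/
theorem inner_indFun (h : Config S a b z k) (r : RotChar a k ρ) {f g : ℂˣ → ℂ}
    (hg : ∀ u : ℂˣ, u ^ 2 = 1 → g u = 0) :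
    classInner (indFun (rotGroup a k) (lift ρ f)) (indFun (rotGroup a k) (lift ρ g))
      = mean ρ fun u => f u * conj (g u + g (u ^ sdExp k)) := by
  rw [classInner_indFun _ _ (indFun_isClassFunction _ _), classInner,
    Finset.sum_congr rfl (g := fun x => f (ρ x) * conj (g (ρ x) + g (ρ x ^ sdExp k))) fun x _ => by
      rw [h.indFun_lift_apply r hg x]; rfl,
    sum_lift r (fun u => f u * conj (g u + g (u ^ sdExp k))), card_rot r, mean]
  have hK : (Nat.card ρ.ker : ℂ) ≠ 0 := Nat.cast_ne_zero.2 Nat.card_pos.ne'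
  rw [root]
  push_cast
  field_simp

theorem sdExp_odd (h : Config S a b z k) : sdExp k % 2 = 1 := by
  obtain ⟨e1, e2, e3⟩ := h.pow_eq
  rw [sdExp]; omega

/-- The inner product of two differences. -/
theorem inner_diff (h : Config S a b z k) (r : RotChar a k ρ) {m m' n n' : ℕ}
    (hn : n % 2 = n' % 2) :
    classInner (diff ρ m m') (diff ρ n n') =
      (((if m % 2 ^ k = n % 2 ^ k then 1 else 0) + (if m % 2 ^ k = (sdExp k * n) % 2 ^ k then 1 else 0))
      - ((if m % 2 ^ k = n' % 2 ^ k then 1 else 0) + (if m % 2 ^ k = (sdExp k * n') % 2 ^ k then 1 else 0)))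
      - (((if m' % 2 ^ k = n % 2 ^ k then 1 else 0) + (if m' % 2 ^ k = (sdExp k * n) % 2 ^ k then 1 else 0))
      - ((if m' % 2 ^ k = n' % 2 ^ k then 1 else 0) + (if m' % 2 ^ k = (sdExp k * n') % 2 ^ k then 1 else 0))) := by
  rw [diff, diff, h.inner_indFun r fun _ hu => vanish hu hn, ← r.mean_pw m n, ← r.mean_pw m n',
    ← r.mean_pw m' n, ← r.mean_pw m' n', ← r.mean_pw_pow m n (sdExp k), ← r.mean_pw_pow m n' (sdExp k),
    ← r.mean_pw_pow m' n (sdExp k), ← r.mean_pw_pow m' n' (sdExp k)]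
  simp only [← mean_add, ← mean_sub]
  refine congrArg (mean ρ) (funext fun u => ?_)
  simp only [Pi.sub_apply, Pi.add_apply, map_add, map_sub]
  ring

theorem theta_eq_diff (m : ℕ) : theta ρ m = diff ρ 0 m := rfl

/-- The coefficient at a character of the principal block. -/
theorem inner_irr (h : Config S a b z k) (r : RotChar a k ρ) {M : Ideal AlgInt} (hM : IsPModular 2 M)
    {χ : IrrCharacter G} (hχ : χ ∈ principalBlock M G) {m m' : ℕ} (hm : m % 2 = m' % 2) :
    classInner (diff ρ m m') (χ : G → ℂ) = four' ρ (χ : G → ℂ) m - four' ρ (χ : G → ℂ) m' := by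
  have hterm : ∀ x : rotGroup a k, lift ρ (pw m - pw m') x * conj ((χ : G → ℂ) x)
      = (pw m - pw m') (ρ x) * (if ρ x ^ 2 = 1 then 0 else
          conj ((χ : G → ℂ) (a ^ (r.exists_pow x).choose))) := by
    intro x
    by_cases hx : ρ x ^ 2 = 1
    · rw [if_pos hx, mul_zero, lift, vanish hx hm, zero_mul]
    · rw [if_neg hx, h.apply_eq r hM hχ hx (r.exists_pow x).choose_spec.2]
      rfl
  set V : ℂˣ → ℂ := fun u => if hu : ∃ j, j < 2 ^ k ∧ u = root ρ ^ j then conj ((χ : G → ℂ) (a ^ hu.choose)) else 0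
  have hV : ∀ j, j < 2 ^ k → V (root ρ ^ j) = conj ((χ : G → ℂ) (a ^ j)) := by
    intro j hj
    have hu : ∃ i, i < 2 ^ k ∧ root ρ ^ j = root ρ ^ i := ⟨j, hj, rfl⟩
    simp only [V, dif_pos hu]
    obtain ⟨h1, h2⟩ := hu.choose_spec
    rw [← pow_injOn_Iio_orderOf (x := root ρ) (Set.mem_Iio.2 (by rw [r.root_ord]; exact hj))
      (Set.mem_Iio.2 (by rw [r.root_ord]; exact h1)) h2]
  have hVx : ∀ x : rotGroup a k,
      conj ((χ : G → ℂ) (a ^ (r.exists_pow x).choose)) = V (ρ x) := fun x => by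
    obtain ⟨h1, h2⟩ := (r.exists_pow x).choose_spec
    conv_rhs => rw [h2]
    exact (hV _ h1).symm
  rw [diff, classInner_indFun _ _ (IsIrrCharacter.isClassFunction χ.2), classInner,
    Finset.sum_congr rfl fun x _ => by rw [hterm x, hVx x],
    sum_lift r (fun u => (pw m - pw m') u * if u ^ 2 = 1 then 0 else V u), card_rot r]
  simp only [four', root] at hV ⊢
  rw [← mul_sub, ← Finset.sum_sub_distrib]
  have hK : (Nat.card ρ.ker : ℂ) ≠ 0 := Nat.cast_ne_zero.2 Nat.card_pos.ne'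
  rw [Finset.sum_congr rfl (g := fun j => (if (ρ ⟨a, a_mem_rot⟩ ^ j) ^ 2 = 1 then 0
      else conj ((χ : G → ℂ) (a ^ j))) * pw m (ρ ⟨a, a_mem_rot⟩ ^ j) -
      (if (ρ ⟨a, a_mem_rot⟩ ^ j) ^ 2 = 1 then 0
      else conj ((χ : G → ℂ) (a ^ j))) * pw m' (ρ ⟨a, a_mem_rot⟩ ^ j)) fun j hj => by
    simp only [Pi.sub_apply]
    split_ifs with h2
    · ring
    · rw [hV j (Finset.mem_range.1 hj)]; ring]
  push_cast
  field_simp
  rfl

/-- Outside the principal block the coefficient vanishes. -/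
theorem inner_irr_eq_zero (h : Config S a b z k) (r : RotChar a k ρ) {M : Ideal AlgInt}
    (hM : IsPModular 2 M) {χ : IrrCharacter G} (hχ : χ ∉ principalBlock M G) {m m' : ℕ}
    (hm : m % 2 = m' % 2) : classInner (diff ρ m m') (χ : G → ℂ) = 0 := by
  rw [diff, classInner_indFun _ _ (IsIrrCharacter.isClassFunction χ.2), classInner,
    ← Finset.sum_fiberwise_of_maps_to (g := fun x : rotGroup a k => ρ x)
      (t := Finset.univ.image ρ) (fun x _ => Finset.mem_image_of_mem _ (Finset.mem_univ x)),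
    Finset.sum_eq_zero, mul_zero]
  intro v _
  refine (Finset.sum_congr rfl (g := fun x : rotGroup a k => (pw m - pw m') v * conj ((χ : G → ℂ) (x : G)))
    fun x hx => by simp only [lift, (Finset.mem_filter.1 hx).2]).trans ?_
  rw [← Finset.mul_sum, ← map_sum]
  by_cases hv : v ^ 2 = 1
  · rw [vanish hv hm, zero_mul]
  · rw [h.sum_fibre_eq_zero r hM hχ hv, map_zero, mul_zero]

/-- The trivial character. -/
theorem inner_one (r : RotChar a k ρ) (m m' : ℕ) :
    classInner (diff ρ m m') (fun _ : G => 1) =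
      (if m % 2 ^ k = 0 then 1 else 0) - (if m' % 2 ^ k = 0 then 1 else 0) := by
  have e : ∀ n : ℕ, (if n % 2 ^ k = 0 then (1 : ℂ) else 0) = mean ρ (pw n) := fun n => by
    rw [← Nat.zero_mod (2 ^ k), ← r.mean_pw n 0]
    exact congrArg (mean ρ) (funext fun u => by simp [pw])
  rw [e, e, ← mean_sub, diff, classInner_indFun _ _ (fun _ _ => rfl), classInner]
  simp only [map_one, mul_one]
  rw [show ∑ x : rotGroup a k, lift ρ (pw m - pw m') x
      = ∑ x : rotGroup a k, (pw m - pw m') (ρ x) from rfl, sum_lift r, card_rot r, mean, root]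
  have hK : (Nat.card ρ.ker : ℂ) ≠ 0 := Nat.cast_ne_zero.2 Nat.card_pos.ne'
  push_cast
  field_simp

end Config

end CfsgLib.SDBlock
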